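import Groth.Agent.GrpSchLib.UnitsScheme
import Groth.Prelude.Def_W4bk4grossh111Obs

/-! Points of schemes over a field with values in algebras, as maps of algebras of functions. -/

universe u v

open CategoryTheory MonoidalCategory CartesianMonoidalCategory MonObj GrpObj AlgebraicGeometry
open scoped TensorProduct

namespace Groth.Agent.Obs28

open GrpSchLib.Kunneth

variable {k : Type u} [Field k]

/-- The evaluation map of a point with values in an algebra. -/
noncomputable def pfn {X : Over (Spec (CommRingCat.of k))} {B : Type u} [CommRing B] [Algebra k B]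
    (g : VecGrp.pt k B ⟶ X) : Fn X →ₐ[k] B :=
  AlgHom.mk ((g.left.appTop ≫ (Scheme.ΓSpecIso (CommRingCat.of B)).hom).hom) fun c => by
    show (Scheme.ΓSpecIso (CommRingCat.of B)).hom
      (g.left.appTop (X.hom.appTop ((Scheme.ΓSpecIso (CommRingCat.of k)).inv c))) = algebraMap k B c
    rw [← CommRingCat.comp_apply X.hom.appTop, ← Scheme.Hom.comp_appTop, Over.w g]
    change (Scheme.ΓSpecIso (CommRingCat.of B)).hom
      ((Spec.map (CommRingCat.ofHom (algebraMap k B))).appTop ((Scheme.ΓSpecIso (CommRingCat.of k)).inv c)) = _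
    rw [← CommRingCat.comp_apply, ← CommRingCat.comp_apply, Scheme.ΓSpecIso_naturality, Iso.inv_hom_id_assoc]
    rfl

theorem pfn_comp {X Y : Over (Spec (CommRingCat.of k))} {B : Type u} [CommRing B] [Algebra k B]
    (g : VecGrp.pt k B ⟶ X) (f : X ⟶ Y) (a : Fn Y) : pfn (g ≫ f) a = pfn g (ev f a) := rfl

theorem pfn_ptMap {X : Over (Spec (CommRingCat.of k))} {B B' : Type u} [CommRing B] [Algebra k B]
    [CommRing B'] [Algebra k B'] (φ : B →ₐ[k] B') (g : VecGrp.pt k B ⟶ X) :
    pfn (VecGrp.ptMap φ ≫ g) = φ.comp (pfn g) := by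
  refine AlgHom.ext fun a => ?_
  change (Scheme.ΓSpecIso (CommRingCat.of B')).hom
      ((Spec.map (CommRingCat.ofHom φ.toRingHom)).appTop (g.left.appTop a)) =
    φ ((Scheme.ΓSpecIso (CommRingCat.of B)).hom (g.left.appTop a))
  rw [← CommRingCat.comp_apply, Scheme.ΓSpecIso_naturality]
  rfl

section Affine

variable (X : Over (Spec (CommRingCat.of k))) [IsAffine X.left]

/-- The tautological point of an affine scheme. -/
noncomputable def univ : VecGrp.pt k (Fn X) ⟶ X :=
  Over.homMk X.left.isoSpec.inv (by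
    rw [Iso.inv_comp_eq]
    have hn := X.left.toSpecΓ_naturality (f := X.hom)
    change X.hom = X.left.toSpecΓ ≫ Spec.map (CommRingCat.ofHom (str X))
    rw [show CommRingCat.ofHom (str X) = (Scheme.ΓSpecIso (CommRingCat.of k)).inv ≫ X.hom.appTop from rfl,
      Spec.map_comp, ← Category.assoc, ← hn, Category.assoc, toSpecΓ_SpecMap_ΓSpecIso_inv, Category.comp_id])

theorem pfn_univ : pfn (univ X) = AlgHom.id k (Fn X) := by
  refine AlgHom.ext fun a => ?_
  show (X.left.isoSpec.inv.appTop ≫ (Scheme.ΓSpecIso Γ(X.left, ⊤)).hom) a = a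
  rw [← Scheme.toSpecΓ_appTop, ← Scheme.Hom.comp_appTop]
  rw [show X.left.toSpecΓ ≫ X.left.isoSpec.inv = 𝟙 _ from X.left.toSpecΓ_isoSpec_inv]
  rfl

variable {X}

theorem ptMap_pfn_univ {B : Type u} [CommRing B] [Algebra k B] (g : VecGrp.pt k B ⟶ X) :
    VecGrp.ptMap (pfn g) ≫ univ X = g := by
  refine Over.OverMorphism.ext (ext_of_isAffine ?_)
  refine CommRingCat.hom_ext (RingHom.ext fun a => ?_)
  apply (ConcreteCategory.bijective_of_isIso (Scheme.ΓSpecIso (CommRingCat.of B)).hom).1
  show pfn (VecGrp.ptMap (pfn g) ≫ univ X) a = pfn g a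
  rw [pfn_ptMap, pfn_univ]
  rfl

theorem pfn_injective {B : Type u} [CommRing B] [Algebra k B] :
    Function.Injective (pfn : (VecGrp.pt k B ⟶ X) → (Fn X →ₐ[k] B)) := fun g h e => by
  rw [← ptMap_pfn_univ g, ← ptMap_pfn_univ h, e]

end Affine

/-- The identification of the unit object with the standard test object. -/
noncomputable def unitPt : VecGrp.pt k k ⟶ 𝟙_ (Over (Spec (CommRingCat.of k))) :=
  Over.homMk (𝟙 (Spec (CommRingCat.of k))) (by
    show 𝟙 _ ≫ 𝟙 _ = Spec.map (CommRingCat.ofHom (algebraMap k k))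
    simp)

theorem pfn_unitPt {X : Over (Spec (CommRingCat.of k))} (y : 𝟙_ (Over (Spec (CommRingCat.of k))) ⟶ X) (a : Fn X) :
    pfn (unitPt ≫ y) a = evPt y a := by
  show (Scheme.ΓSpecIso (CommRingCat.of k)).hom ((𝟙 (Spec (CommRingCat.of k)) ≫ y.left).appTop a) = _
  rw [Category.id_comp]
  rfl

theorem eq_zero_of_val [IsAlgClosed k] {X : Over (Spec (CommRingCat.of k))} [IsReduced X.left]
    [LocallyOfFiniteType X.hom] (a : Fn X) (h : ∀ g : VecGrp.pt k k ⟶ X, pfn g a = 0) : a = 0 :=
  eq_zero_of_forall_evPt a fun y => by rw [← pfn_unitPt]; exact h _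

/-- Evaluation of the first factor of a tensor product. -/
noncomputable def evl {A : Type u} [CommRing A] [Algebra k A] {M : Type v} [AddCommGroup M] [Module k M]
    (χ : A →ₐ[k] k) : A ⊗[k] M →ₗ[k] M :=
  (TensorProduct.lid k M).toLinearMap ∘ₗ χ.toLinearMap.rTensor M

@[simp] theorem evl_tmul {A : Type u} [CommRing A] [Algebra k A] {M : Type v} [AddCommGroup M] [Module k M]
    (χ : A →ₐ[k] k) (a : A) (m : M) : evl χ (a ⊗ₜ[k] m) = χ a • m := rfl

theorem evl_lTensor {A : Type u} [CommRing A] [Algebra k A] {M N : Type v} [AddCommGroup M] [Module k M]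
    [AddCommGroup N] [Module k N] (χ : A →ₐ[k] k) (f : M →ₗ[k] N) (z : A ⊗[k] M) :
    evl χ (f.lTensor A z) = f (evl χ z) := by
  induction z using TensorProduct.induction_on with
  | zero => simp
  | tmul a m => simp
  | add p q hp hq => simp only [map_add, hp, hq]

theorem eq_zero_of_evl {A : Type u} [CommRing A] [Algebra k A] {M : Type v} [AddCommGroup M] [Module k M]
    {P : Type*} (σ : P → A →ₐ[k] k) (hσ : ∀ a, (∀ p, σ p a = 0) → a = 0) (z : A ⊗[k] M)
    (h : ∀ p, evl (σ p) z = 0) : z = 0 := by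
  classical
  let b := Module.Basis.ofVectorSpace k M
  let e := TensorProduct.equivFinsuppOfBasisRight (M := A) b
  have hz : e z = 0 := by
    refine Finsupp.ext fun j => hσ _ fun p => ?_
    have e1 : ∀ w : A ⊗[k] M, σ p (e w j) = b.repr (evl (σ p) w) j := fun w => by
      induction w using TensorProduct.induction_on with
      | zero => simp
      | tmul a m => simp [e, mul_comm]
      | add s t hs ht => simp only [map_add, Finsupp.add_apply, hs, ht]
    rw [e1, h p, map_zero, Finsupp.zero_apply]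
  exact e.injective (hz.trans (map_zero e).symm)

end Groth.Agent.Obs28
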