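import Groth.Agent.Obs28.Points
import Groth.Agent.GrpSchLib.AntiAffineHom

/-! Rational modules of a smooth affine group over an algebraically closed field through rational points. -/

universe u

open CategoryTheory MonoidalCategory CartesianMonoidalCategory MonObj GrpObj AlgebraicGeometry
open scoped TensorProduct

namespace Groth.Agent.Obs28

open GrpSchLib.Kunneth

set_option linter.style.haveILetI false

variable {k : Type u} [Field k] {G H : Over (Spec (CommRingCat.of k))} [GrpObj G] [GrpObj H]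
  {M N : Type u} [AddCommGroup M] [Module k M] [AddCommGroup N] [Module k N]

/-- The rational points. -/
abbrev Rat (G : Over (Spec (CommRingCat.of k))) : Type u := VecGrp.pt k k ⟶ G

section Coaction

variable (ρ : VecGrp.GMod G M)

/-- The action of a rational point. -/
noncomputable def repEquiv (g : Rat G) : M ≃ₗ[k] M :=
  (TensorProduct.lid k M).symm ≪≫ₗ ρ.ρ k g ≪≫ₗ TensorProduct.lid k M

theorem repEquiv_apply (g : Rat G) (m : M) :
    repEquiv ρ g m = TensorProduct.lid k M (ρ.ρ k g (1 ⊗ₜ[k] m)) := rfl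

/-- The representation of the rational points defined by a rational module. -/
noncomputable def rep : Rat G →* (M ≃ₗ[k] M) where
  toFun := repEquiv ρ
  map_one' := LinearEquiv.ext fun m => by simp [repEquiv_apply]
  map_mul' g h := LinearEquiv.ext fun m => by
    have e : ∀ y : k ⊗[k] M, (1 : k) ⊗ₜ[k] TensorProduct.lid k M y = y := fun y =>
      (TensorProduct.lid_symm_apply _).symm.trans ((TensorProduct.lid k M).symm_apply_apply y)
    simp only [repEquiv_apply, LinearEquiv.mul_apply, map_mul, e]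

theorem rep_apply (g : Rat G) (m : M) :
    rep ρ g m = TensorProduct.lid k M (ρ.ρ k g (1 ⊗ₜ[k] m)) := rfl

theorem rho_k_apply (g : Rat G) (m : M) : ρ.ρ k g (1 ⊗ₜ[k] m) = 1 ⊗ₜ[k] rep ρ g m := by
  apply (TensorProduct.lid k M).injective
  rw [TensorProduct.lid_tmul, one_smul, rep_apply]

variable [IsAffine G.left]

/-- The coaction. -/
noncomputable def coact : M →ₗ[k] Fn G ⊗[k] M :=
  ((ρ.ρ (Fn G) (univ G)).toLinearMap.restrictScalars k).comp (TensorProduct.mk k (Fn G) M 1)

theorem coact_apply (m : M) : coact ρ m = ρ.ρ (Fn G) (univ G) ((1 : Fn G) ⊗ₜ[k] m) := rfl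

theorem rho_one_tmul {B : Type u} [CommRing B] [Algebra k B] (g : VecGrp.pt k B ⟶ G) (m : M) :
    ρ.ρ B g ((1 : B) ⊗ₜ[k] m) = VecGrp.Wmap (pfn g) (coact ρ m) := by
  rw [coact_apply, ρ.naturality, ptMap_pfn_univ, VecGrp.Wmap_tmul, map_one]

theorem rep_eq_evl (g : Rat G) (m : M) : rep ρ g m = evl (pfn g) (coact ρ m) := by
  rw [rep_apply, rho_one_tmul]
  rfl

end Coaction

section Pure

variable {B : Type u} [CommRing B] [Algebra k B]

theorem linearEquiv_ext_tmul {e e' : B ⊗[k] M ≃ₗ[B] B ⊗[k] N}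
    (h : ∀ m, e (1 ⊗ₜ[k] m) = e' (1 ⊗ₜ[k] m)) : e = e' := by
  refine LinearEquiv.toLinearMap_injective (TensorProduct.AlgebraTensorModule.ext fun b m => ?_)
  show e (b ⊗ₜ[k] m) = e' (b ⊗ₜ[k] m)
  rw [show b ⊗ₜ[k] m = b • ((1 : B) ⊗ₜ[k] m) by rw [TensorProduct.smul_tmul', smul_eq_mul, _root_.mul_one],
    map_smul, map_smul, h]

theorem evl_Wmap {B' : Type u} [CommRing B'] [Algebra k B'] (χ : B' →ₐ[k] k) (φ : B →ₐ[k] B') (z : B ⊗[k] M) :
    evl χ (VecGrp.Wmap φ z) = evl (χ.comp φ) z := by
  induction z using TensorProduct.induction_on with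
  | zero => simp
  | tmul b m => simp
  | add p q hp hq => simp only [map_add, hp, hq]

theorem Wmap_comp' {B' B'' : Type u} [CommRing B'] [Algebra k B'] [CommRing B''] [Algebra k B'']
    (ψ : B' →ₐ[k] B'') (φ : B →ₐ[k] B') (z : B ⊗[k] M) :
    VecGrp.Wmap ψ (VecGrp.Wmap φ z) = VecGrp.Wmap (ψ.comp φ) z := by
  induction z using TensorProduct.induction_on with
  | zero => simp
  | tmul b m => simp
  | add p q hp hq => simp only [map_add, hp, hq]

end Pure

section Smooth

variable [IsAlgClosed k]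

set_option linter.unusedSectionVars false

theorem eq_zero_of_evl_pts {X : Over (Spec (CommRingCat.of k))} [IsReduced X.left] [LocallyOfFiniteType X.hom]
    (z : Fn X ⊗[k] M) (h : ∀ g : VecGrp.pt k k ⟶ X, evl (pfn g) z = 0) : z = 0 :=
  eq_zero_of_evl (fun g : VecGrp.pt k k ⟶ X => pfn g) eq_zero_of_val z h

theorem eq_of_evl_pts {X : Over (Spec (CommRingCat.of k))} [IsReduced X.left] [LocallyOfFiniteType X.hom]
    {z z' : Fn X ⊗[k] M} (h : ∀ g : VecGrp.pt k k ⟶ X, evl (pfn g) z = evl (pfn g) z') : z = z' :=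
  sub_eq_zero.mp (eq_zero_of_evl_pts _ fun g => by rw [map_sub, h g, sub_self])

/-- A representation of the rational points is regular. -/
def IsRegular (π : Rat G →* (M ≃ₗ[k] M)) : Prop :=
  ∀ m, ∃ z : Fn G ⊗[k] M, ∀ g : Rat G, π g m = evl (pfn g) z

variable [IsAffine G.left] [Smooth G.hom]

theorem rep_isRegular (ρ : VecGrp.GMod G M) : IsRegular (rep ρ) := fun m => ⟨coact ρ m, fun g => rep_eq_evl ρ g m⟩

variable (G) in
theorem isReduced_grp : IsReduced G.left := GrpSchLib.isReduced_of_smooth_field G.hom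

theorem gmod_ext {ρ ρ' : VecGrp.GMod G M} (h : rep ρ = rep ρ') : ρ = ρ' := by
  haveI := isReduced_grp G
  have hc : coact ρ = coact ρ' := LinearMap.ext fun m =>
    eq_of_evl_pts fun g => by rw [← rep_eq_evl, ← rep_eq_evl, h]
  have hr : ρ.ρ = ρ'.ρ := by
    funext B _ _
    exact MonoidHom.ext fun g => linearEquiv_ext_tmul fun m => by rw [rho_one_tmul, rho_one_tmul, hc]
  cases ρ; cases ρ'; congr

section OfRat

variable {π : Rat G →* (M ≃ₗ[k] M)} (hπ : IsRegular π)

/-- The coaction of a regular representation. -/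
noncomputable def regCoact : M →ₗ[k] Fn G ⊗[k] M where
  toFun m := (hπ m).choose
  map_add' m n := by
    haveI := isReduced_grp G
    exact eq_of_evl_pts fun g => by
      rw [map_add, ← (hπ (m + n)).choose_spec g, ← (hπ m).choose_spec g, ← (hπ n).choose_spec g, map_add]
  map_smul' c m := by
    haveI := isReduced_grp G
    exact eq_of_evl_pts fun g => by
      rw [RingHom.id_apply, map_smul, ← (hπ (c • m)).choose_spec g, ← (hπ m).choose_spec g, map_smul]

theorem evl_regCoact (g : Rat G) (m : M) : evl (pfn g) (regCoact hπ m) = π g m := ((hπ m).choose_spec g).symm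

/-- The endomorphism of `B ⊗ M` given by a point. -/
noncomputable def actEnd {B : Type u} [CommRing B] [Algebra k B] (g : VecGrp.pt k B ⟶ G) :
    Module.End B (B ⊗[k] M) :=
  TensorProduct.AlgebraTensorModule.lift
    ((LinearMap.ringLmapEquivSelf B k (M →ₗ[k] B ⊗[k] M)).symm ((VecGrp.Wmap (pfn g)) ∘ₗ regCoact hπ))

theorem actEnd_tmul {B : Type u} [CommRing B] [Algebra k B] (g : VecGrp.pt k B ⟶ G) (b : B) (m : M) :
    actEnd hπ g (b ⊗ₜ[k] m) = b • VecGrp.Wmap (pfn g) (regCoact hπ m) := by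
  simp [actEnd]

theorem actEnd_natural {B B' : Type u} [CommRing B] [Algebra k B] [CommRing B'] [Algebra k B'] (φ : B →ₐ[k] B')
    (g : VecGrp.pt k B ⟶ G) (x : B ⊗[k] M) :
    VecGrp.Wmap φ (actEnd hπ g x) = actEnd hπ (VecGrp.ptMap φ ≫ g) (VecGrp.Wmap φ x) := by
  induction x using TensorProduct.induction_on with
  | zero => simp
  | tmul b m =>
    rw [actEnd_tmul, VecGrp.Wmap_smul, VecGrp.Wmap_tmul, actEnd_tmul, pfn_ptMap, Wmap_comp']
  | add p q hp hq => simp only [map_add, hp, hq]

theorem actEnd_k (g : Rat G) (x : k ⊗[k] M) :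
    TensorProduct.lid k M (actEnd hπ g x) = π g (TensorProduct.lid k M x) := by
  induction x using TensorProduct.induction_on with
  | zero => simp
  | tmul c m =>
    rw [actEnd_tmul, map_smul, TensorProduct.lid_tmul, map_smul, ← evl_regCoact hπ g m]
    rfl
  | add p q hp hq => simp only [map_add, hp, hq]

theorem actEnd_mul {B : Type u} [CommRing B] [Algebra k B] (g h : VecGrp.pt k B ⟶ G) :
    actEnd hπ (g * h) = actEnd hπ g * actEnd hπ h := by
  haveI : IsSeparated G.hom := GrpSchLib.AntiAffine.isSeparated_grp G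
  haveI : IsAffine (G ⊗ G).left := inferInstanceAs (IsAffine (Limits.pullback G.hom G.hom))
  haveI : Smooth (G ⊗ G).hom := inferInstanceAs (Smooth (Limits.pullback.fst G.hom G.hom ≫ G.hom))
  haveI : IsReduced (G ⊗ G).left := GrpSchLib.isReduced_of_smooth_field (G ⊗ G).hom
  refine TensorProduct.AlgebraTensorModule.ext fun b m => ?_
  rw [show b ⊗ₜ[k] m = b • ((1 : B) ⊗ₜ[k] m) by rw [TensorProduct.smul_tmul', smul_eq_mul, _root_.mul_one],
    map_smul, map_smul]
  congr 1
  have key : actEnd hπ ((univ (G ⊗ G) ≫ fst G G) * (univ (G ⊗ G) ≫ snd G G)) ((1 : Fn (G ⊗ G)) ⊗ₜ[k] m) =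
      actEnd hπ (univ (G ⊗ G) ≫ fst G G) (actEnd hπ (univ (G ⊗ G) ≫ snd G G) (1 ⊗ₜ[k] m)) := by
    refine eq_of_evl_pts fun w => ?_
    have hev : ∀ z : Fn (G ⊗ G) ⊗[k] M, evl (pfn w) z = TensorProduct.lid k M (VecGrp.Wmap (pfn w) z) :=
      fun z => rfl
    rw [hev, hev, actEnd_natural, actEnd_natural, actEnd_natural, VecGrp.Wmap_tmul, map_one, MonObj.comp_mul,
      actEnd_k, actEnd_k, actEnd_k, TensorProduct.lid_tmul, one_smul, map_mul, LinearEquiv.mul_apply]
  have := congrArg (VecGrp.Wmap (pfn (lift g h))) key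
  rw [actEnd_natural, actEnd_natural, actEnd_natural, VecGrp.Wmap_tmul, map_one, MonObj.comp_mul,
    ← Category.assoc, ← Category.assoc, ptMap_pfn_univ, lift_fst, lift_snd] at this
  exact this

theorem actEnd_one {B : Type u} [CommRing B] [Algebra k B] :
    actEnd hπ (1 : VecGrp.pt k B ⟶ G) = 1 := by
  refine TensorProduct.AlgebraTensorModule.ext fun b m => ?_
  rw [show b ⊗ₜ[k] m = b • ((1 : B) ⊗ₜ[k] m) by rw [TensorProduct.smul_tmul', smul_eq_mul, _root_.mul_one],
    map_smul, map_smul, Module.End.one_apply]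
  congr 1
  have h1 : (1 : VecGrp.pt k B ⟶ G) = VecGrp.ptMap (Algebra.ofId k B) ≫ (1 : Rat G) := (MonObj.comp_one _).symm
  have h2 : actEnd hπ (1 : Rat G) (1 ⊗ₜ[k] m) = 1 ⊗ₜ[k] m := by
    apply (TensorProduct.lid k M).injective
    rw [actEnd_k, map_one]
    rfl
  have := congrArg (VecGrp.Wmap (Algebra.ofId k B)) h2
  rw [actEnd_natural, ← h1, VecGrp.Wmap_tmul, map_one] at this
  exact this

/-- The action of points as a homomorphism to endomorphisms. -/
noncomputable def actHom (B : Type u) [CommRing B] [Algebra k B] :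
    (VecGrp.pt k B ⟶ G) →* Module.End B (B ⊗[k] M) where
  toFun := actEnd hπ
  map_one' := actEnd_one hπ
  map_mul' := actEnd_mul hπ

/-- The rational module of a regular representation. -/
noncomputable def ofRat : VecGrp.GMod G M where
  ρ B _ _ := (LinearMap.GeneralLinearGroup.generalLinearEquiv B (B ⊗[k] M)).toMonoidHom.comp (actHom hπ B).toHomUnits
  naturality φ g x := actEnd_natural hπ φ g x

theorem ofRat_apply {B : Type u} [CommRing B] [Algebra k B] (g : VecGrp.pt k B ⟶ G) (x : B ⊗[k] M) :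
    (ofRat hπ).ρ B g x = actEnd hπ g x := rfl

theorem rep_ofRat : rep (ofRat hπ) = π := MonoidHom.ext fun g => LinearEquiv.ext fun m => by
  rw [rep_apply, ofRat_apply, actEnd_k, TensorProduct.lid_tmul, one_smul]

end OfRat

section Invariants

variable (ρ : VecGrp.GMod G M) [IsAffine H.left] [Smooth H.hom] (i : H ⟶ G)

theorem mem_fixedUnder_iff (x : M) : x ∈ ρ.fixedUnder i ↔ ∀ h : Rat H, rep ρ (h ≫ i) x = x := by
  constructor
  · intro hx h
    rw [rep_apply, hx k h, TensorProduct.lid_tmul, one_smul]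
  · intro hx B _ _ h
    haveI := isReduced_grp H
    have e : VecGrp.Wmap (ev i) (coact ρ x) = (1 : Fn H) ⊗ₜ[k] x := eq_of_evl_pts fun w => by
      rw [evl_Wmap, evl_tmul, map_one, one_smul]
      exact (rep_eq_evl ρ (w ≫ i) x).symm.trans (hx w)
    have := congrArg (VecGrp.Wmap (pfn h)) e
    rw [Wmap_comp', VecGrp.Wmap_tmul, map_one] at this
    rw [rho_one_tmul]
    exact this

theorem isStable_iff (W : Submodule k M) :
    ρ.IsStable i W ↔ ∀ (h : Rat H), ∀ x ∈ W, rep ρ (h ≫ i) x ∈ W := by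
  constructor
  · intro hW h x hx
    obtain ⟨w, hw⟩ := hW k h x hx
    rw [rep_apply, ← hw]
    clear hw
    induction w using TensorProduct.induction_on with
    | zero => simp
    | tmul c y => simp [W.smul_mem c y.2]
    | add p q hp hq => rw [map_add, map_add]; exact W.add_mem hp hq
  · intro hW B _ _ h x hx
    haveI := isReduced_grp H
    have e : W.mkQ.lTensor (Fn H) (VecGrp.Wmap (ev i) (coact ρ x)) = 0 := eq_zero_of_evl_pts _ fun w => by
      rw [evl_lTensor, evl_Wmap, Submodule.mkQ_apply, Submodule.Quotient.mk_eq_zero]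
      have := hW w x hx
      rwa [rep_eq_evl] at this
    obtain ⟨z, hz⟩ := (lTensor_exact (Fn H) (LinearMap.exact_subtype_mkQ W) W.mkQ_surjective _).mp e
    rw [rho_one_tmul]
    refine ⟨(pfn h).toLinearMap.rTensor W z, ?_⟩
    have hcomm : ∀ t : Fn H ⊗[k] W, W.subtype.baseChange B ((pfn h).toLinearMap.rTensor W t) =
        VecGrp.Wmap (pfn h) (W.subtype.lTensor (Fn H) t) := fun t => by
      induction t using TensorProduct.induction_on with
      | zero => simp
      | tmul c y => simp
      | add p q hp hq => simp only [map_add, hp, hq]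
    rw [hcomm, hz, Wmap_comp']
    rfl

end Invariants

/-- The span of the orbits of finitely many vectors. -/
def orbitSpan (π : Rat G →* (M ≃ₗ[k] M)) (s : Set M) : Submodule k M :=
  Submodule.span k {y | ∃ g, ∃ x ∈ s, π g x = y}

theorem orbitSpan_stable (π : Rat G →* (M ≃ₗ[k] M)) (s : Set M) (g : Rat G) :
    ∀ x ∈ orbitSpan π s, π g x ∈ orbitSpan π s := by
  intro x hx
  induction hx using Submodule.span_induction with
  | mem y hy =>
    obtain ⟨h, x, hx, rfl⟩ := hy
    exact Submodule.subset_span ⟨g * h, x, hx, by rw [map_mul, LinearEquiv.mul_apply]⟩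
  | zero => rw [map_zero]; exact zero_mem _
  | add y z _ _ hy hz => rw [map_add]; exact add_mem hy hz
  | smul c y _ hy => rw [map_smul]; exact Submodule.smul_mem _ c hy

theorem subset_orbitSpan (π : Rat G →* (M ≃ₗ[k] M)) (s : Set M) : s ⊆ orbitSpan π s := fun x hx =>
  Submodule.subset_span ⟨1, x, hx, by rw [map_one]; rfl⟩

omit [IsAlgClosed k] [IsAffine G.left] [Smooth G.hom] in
theorem finite_orbitSpan {π : Rat G →* (M ≃ₗ[k] M)} (hπ : IsRegular π) {s : Set M} (hs : s.Finite) :
    Module.Finite k ↥(orbitSpan π s) := by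
  classical
  choose z hz using hπ
  choose F hF using fun x => TensorProduct.exists_finset (z x)
  let S : Finset M := hs.toFinset.biUnion fun x => (F x).image Prod.snd
  have hle : orbitSpan π s ≤ Submodule.span k (S : Set M) := by
    refine Submodule.span_le.mpr ?_
    rintro _ ⟨g, x, hx, rfl⟩
    rw [hz x g, hF x, map_sum]
    refine Submodule.sum_mem _ fun p hp => ?_
    rw [evl_tmul]
    exact Submodule.smul_mem _ _ (Submodule.subset_span
      (Finset.mem_biUnion.mpr ⟨x, hs.mem_toFinset.mpr hx, Finset.mem_image_of_mem _ hp⟩))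
  exact Submodule.finiteDimensional_of_le hle

end Smooth

end Groth.Agent.Obs28
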