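import Groth.Agent.Obs28.Comp
import Groth.Prelude.Def_AlgGrp
import Mathlib.AlgebraicGeometry.AlgClosed.Basic

/-! Actions on rational points. -/

universe u

open CategoryTheory MonoidalCategory CartesianMonoidalCategory MonObj GrpObj AlgebraicGeometry

namespace Groth.Agent.Obs28.ActPts

set_option linter.style.haveILetI false

variable {k : Type u} [Field k] {G X : Over (Spec (CommRingCat.of k))} [GrpObj G] (a : AlgGrp.Action G X)

theorem act_one {Z : Over (Spec (CommRingCat.of k))} (x : Z ⟶ X) : lift (1 : Z ⟶ G) x ≫ a.act = x := by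
  have h : lift (1 : Z ⟶ G) x = lift (toUnit Z) x ≫ (η[G] ▷ X) := by
    rw [Hom.one_def]; ext <;> simp
  rw [h, Category.assoc, a.one_act]
  simp

theorem act_mul {Z : Over (Spec (CommRingCat.of k))} (g h : Z ⟶ G) (x : Z ⟶ X) :
    lift (g * h) x ≫ a.act = lift g (lift h x ≫ a.act) ≫ a.act := by
  have e1 : lift (g * h) x = lift (lift g h) x ≫ (μ[G] ▷ X) := by
    rw [Hom.mul_def]; ext <;> simp
  rw [e1, Category.assoc, a.mul_act]
  have e2 : lift (lift g h) x ≫ (α_ G G X).hom = lift g (lift h x) := by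
    ext <;> simp
  rw [reassoc_of% e2]
  have e3 : lift g (lift h x) ≫ (G ◁ a.act) = lift g (lift h x ≫ a.act) := by
    ext <;> simp
  rw [reassoc_of% e3]

theorem comp_orbitMap {Z : Over (Spec (CommRingCat.of k))} (g : Z ⟶ G) (x : 𝟙_ _ ⟶ X) :
    g ≫ a.orbitMap x = lift g (toUnit Z ≫ x) ≫ a.act := by
  simp [AlgGrp.Action.orbitMap, comp_lift_assoc]

variable (k) in
/-- The point of the unit object as a rational point. -/
noncomputable def unitPt : 𝟙_ (Over (Spec (CommRingCat.of k))) ⟶ VecGrp.pt k k :=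
  Over.homMk (𝟙 (Spec (CommRingCat.of k))) (by
    show 𝟙 _ ≫ Spec.map (CommRingCat.ofHom (algebraMap k k)) = 𝟙 _
    simp)

/-- A rational point as a section. -/
noncomputable def sec {Z : Over (Spec (CommRingCat.of k))} (z : Rat Z) : 𝟙_ _ ⟶ Z := unitPt k ≫ z

theorem toUnit_sec {Z : Over (Spec (CommRingCat.of k))} (z : Rat Z) : toUnit (VecGrp.pt k k) ≫ sec z = z := by
  refine Over.OverMorphism.ext ?_
  show (VecGrp.pt k k).hom ≫ 𝟙 _ ≫ z.left = z.left
  simp [VecGrp.pt]

variable [IsAlgClosed k]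

theorem rat_ext {Z : Over (Spec (CommRingCat.of k))} [LocallyOfFiniteType Z.hom] {z z' : Rat Z}
    (h : ptx z = ptx z') : z = z' :=
  Over.OverMorphism.ext (ext_of_apply_closedPoint_eq Z.hom (by rw [Over.w z]; simp [VecGrp.pt])
    (by rw [Over.w z']; simp [VecGrp.pt]) h)

theorem isClosed_ptx {Z : Over (Spec (CommRingCat.of k))} [LocallyOfFiniteType Z.hom] (z : Rat Z) :
    IsClosed ({ptx z} : Set Z.left) :=
  ((pointEquivClosedPoint Z.hom) ⟨z.left, by rw [Over.w z]; simp [VecGrp.pt]⟩).2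

/-- A closed set containing all rational points of an open or closed set contains it. -/
theorem subset_of_rat {Z : Over (Spec (CommRingCat.of k))} [LocallyOfFiniteType Z.hom] {C S : Set Z.left}
    (hC : IsClosed C) (hS : IsLocallyClosed S) (h : ∀ z : Rat Z, ptx z ∈ S → ptx z ∈ C) : S ⊆ C := by
  intro x hx
  by_contra hxC
  obtain ⟨z, hz⟩ := exists_rat (X := Z) (Z := S ∩ Cᶜ) ⟨x, hx, hxC⟩ (hS.inter hC.isOpen_compl.isLocallyClosed)
  exact hz.2 (h z hz.1)

theorem range_subset {Z W : Over (Spec (CommRingCat.of k))} [LocallyOfFiniteType Z.hom] (f : Z ⟶ W)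
    {C : Set W.left} (hC : IsClosed C) (h : ∀ z : Rat Z, ptx (z ≫ f) ∈ C) : Set.range f.left.base ⊆ C := by
  rintro _ ⟨x, rfl⟩
  exact subset_of_rat (S := Set.univ) (hC.preimage f.left.base.hom.continuous) isClosed_univ.isLocallyClosed
    (fun z _ => h z) (Set.mem_univ x)

end Groth.Agent.Obs28.ActPts
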