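import Groth.Agent.S5509
import Groth.Agent.S5522
import Groth.Agent.RedRk29.BruhatCover
import Groth.Agent.CellExt29.Extend
import Groth.Agent.RedSub30.CellPrime

/-! The centre of a split reductive group is the intersection of the kernels of the roots. -/

set_option autoImplicit false
set_option linter.style.haveILetI false

universe u

open CategoryTheory CategoryTheory.Limits MonoidalCategory CartesianMonoidalCategory AlgebraicGeometry
open scoped MonObj GrpObj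

noncomputable section

namespace Groth.Agent.Obs28.CRoots

open Rank2Red38 RedRk29 GrpSchLib

variable {S : Scheme.{u}} {G : Over S} [GrpObj G] (D : Red.SplitRed G)

/-- Products of root group points lie in the subgroup they generate. -/
theorem prodMap_mem (P : Set D.idx) {X : Over S} :
    ∀ {k : ℕ} (e : Fin k → D.idx), (∀ j, e j ∈ P) → ∀ y : X ⟶ RedSub.pow (Red.Ga S) k,
      y ≫ RedSub.prodMap (Red.Ga S) k (fun j => D.u (e j)) ∈ ⨆ (c : D.idx) (_ : c ∈ P), rootSub D X c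
  | 0, e, _, y => by
    have h : y ≫ RedSub.prodMap (Red.Ga S) 0 (fun j => D.u (e j)) = 1 := MonObj.comp_one y
    rw [h]; exact one_mem _
  | k + 1, e, he, y => by
    suffices ∀ y' : X ⟶ Red.Ga S ⊗ RedSub.pow (Red.Ga S) k, y' ≫ ((fst _ _ ≫ D.u (e 0)) * (snd _ _ ≫ RedSub.prodMap (Red.Ga S) k fun j => D.u (e j.succ)) :
        Red.Ga S ⊗ RedSub.pow (Red.Ga S) k ⟶ G) ∈ ⨆ (c : D.idx) (_ : c ∈ P), rootSub D X c from this y
    intro y
    show (y : X ⟶ Red.Ga S ⊗ RedSub.pow (Red.Ga S) k) ≫ ((fst _ _ ≫ D.u (e 0)) * (snd _ _ ≫ RedSub.prodMap (Red.Ga S) k fun j => D.u (e j.succ)) :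
        Red.Ga S ⊗ RedSub.pow (Red.Ga S) k ⟶ G) ∈ _
    rw [MonObj.comp_mul, ← Category.assoc y, ← Category.assoc y]
    refine mul_mem ?_ (prodMap_mem P (fun j => e j.succ) (fun j => he _) _)
    exact Subgroup.mem_iSup_of_mem (e 0) (Subgroup.mem_iSup_of_mem (he 0) ⟨_, (pt_comp_eq D (e 0) _).symm⟩)

theorem cell_decomp {n m : ℕ} (eneg : Fin n → D.idx) (epos : Fin m → D.idx) {X : Over S}
    (y : X ⟶ RedSub.pow (Red.Ga S) n ⊗ (D.T ⊗ RedSub.pow (Red.Ga S) m)) :
    y ≫ RedSub.cellMap D eneg epos =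
      ((y ≫ fst _ _) ≫ RedSub.prodMap (Red.Ga S) n (fun j => D.u (eneg j))) * I D X (y ≫ snd _ _ ≫ fst _ _) *
        ((y ≫ snd _ _ ≫ snd _ _) ≫ RedSub.prodMap (Red.Ga S) m (fun j => D.u (epos j))) := by
  have h : I D X (y ≫ snd _ _ ≫ fst _ _) = (y ≫ snd _ _ ≫ fst _ _) ≫ D.i := rfl
  rw [h, _root_.mul_assoc]
  simp only [RedSub.cellMap, MonObj.comp_mul, Category.assoc]

theorem exists_enum (P : Set D.idx) : ∃ (k : ℕ) (c : Fin k → D.idx), RedSub.Enumerates P c := by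
  classical
  haveI := Fintype.ofFinite D.idx
  let c : Fin (Fintype.card P) → D.idx := fun k => ((Fintype.equivFin P).symm k).1
  refine ⟨_, c, fun p q h => (Fintype.equivFin P).symm.injective (Subtype.ext h),
    Set.ext fun a => ⟨?_, fun ha => ⟨Fintype.equivFin P ⟨a, ha⟩, by simp [c]⟩⟩⟩
  rintro ⟨k, rfl⟩
  exact ((Fintype.equivFin P).symm k).2

theorem rootVal_eq_one_iff {X : Over S} (a : D.idx) (t : X ⟶ D.T) :
    rootVal D X a t = 1 ↔ t ≫ D.split.hom.hom.hom ≫ Red.chi S (D.P.root a) = 1 := by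
  have h1 : (1 : X ⟶ D.T) ≫ rootChar D a = 1 := MonObj.one_comp _
  constructor
  · intro h
    have h' : GmPts.unitOfPt (t ≫ rootChar D a) = GmPts.unitOfPt ((1 : X ⟶ D.T) ≫ rootChar D a) :=
      h.trans (map_one (rootVal D X a)).symm
    have := congrArg GmPts.ptOfUnit h'
    rwa [GmPts.ptOfUnit_unitOfPt, GmPts.ptOfUnit_unitOfPt, h1] at this
  · intro h
    rw [← map_one (rootVal D X a)]
    show GmPts.unitOfPt (t ≫ rootChar D a) = GmPts.unitOfPt ((1 : X ⟶ D.T) ≫ rootChar D a)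
    rw [h1]; exact congrArg GmPts.unitOfPt h

/-- The subgroup of points generated by the torus and the root groups commutes with torus points killed by the roots. -/
theorem comm_gen {X : Over S} (t : X ⟶ D.T) (ht : ∀ a, rootVal D X a t = 1) :
    (∀ s : X ⟶ D.T, Commute (I D X t) (I D X s)) ∧
      ∀ (P : Set D.idx) (v : X ⟶ G), v ∈ ⨆ (c : D.idx) (_ : c ∈ P), rootSub D X c → Commute (I D X t) v := by
  refine ⟨fun s => ?_, fun P v hv => ?_⟩
  · show I D X t * I D X s = I D X s * I D X t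
    rw [← map_mul, ← map_mul, torus_comm]
  · have hle : (⨆ (c : D.idx) (_ : c ∈ P), rootSub D X c) ≤ Subgroup.centralizer {I D X t} := by
      refine iSup₂_le fun c _ => ?_
      rintro _ ⟨x, rfl⟩
      rw [Subgroup.mem_centralizer_singleton_iff]
      have h := conj_U D c t x
      rw [ht, Units.val_one, _root_.one_mul, mul_inv_eq_iff_eq_mul] at h
      exact h.symm
    exact (Subgroup.mem_centralizer_singleton_iff.mp (hle hv)).symm

theorem mono_u (a : D.idx) : Mono (D.u a) := by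
  haveI := (D.rootHom a).2.1
  exact Over.mono_of_mono_left _

section Nonempty

variable [Nonempty S]

theorem exists_cell : ∃ (b : D.P.Base) (n m : ℕ) (eneg : Fin n → D.idx) (epos : Fin m → D.idx),
    RedSub.Enumerates (RedSub.negRoots D.P b) eneg ∧ RedSub.Enumerates (RedSub.posRoots D.P b) epos ∧
      IsOpenImmersion (RedSub.cellMap D eneg epos).left := by
  obtain ⟨b, -⟩ := S5522.result D ∅ (fun _ _ _ h => h.elim) (fun _ h => h.elim)
  obtain ⟨n, eneg, hn⟩ := exists_enum D (RedSub.negRoots D.P b)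
  obtain ⟨m, epos, hp⟩ := exists_enum D (RedSub.posRoots D.P b)
  exact ⟨b, n, m, eneg, epos, hn, hp, BigCell29.isOpenImmersion_cellMap D b hn hp⟩

/-- A central point lies in the torus and is killed by the roots. -/
theorem central_imp {X : Over S} (g : X ⟶ G)
    (hg : ∀ (X' : Over S) (x : X' ⟶ X) (h : X' ⟶ G), (x ≫ g) * h = h * (x ≫ g)) :
    ∃ t : X ⟶ D.T, t ≫ D.i = g ∧ ∀ a : D.idx, t ≫ D.split.hom.hom.hom ≫ Red.chi S (D.P.root a) = 1 := by
  classical
  obtain ⟨b, n, m, eneg, epos, hn, hp, hopen⟩ := exists_cell D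
  haveI := hopen
  obtain ⟨X', p, σ, ρ, hcov, hρ⟩ := CellExt29.exists_translate (RedSub.cellMap D eneg epos) D.reductive
    (BigCell29.exists_one_cellMap D eneg epos) (X := X) (fun _ : Fin 1 => g)
  have h0 := hρ 0
  have hs := cell_decomp D eneg epos σ
  have hr := cell_decomp D eneg epos (ρ 0)
  set v := (σ ≫ fst _ _) ≫ RedSub.prodMap (Red.Ga S) n (fun j => D.u (eneg j))
  set z := σ ≫ snd _ _ ≫ fst _ _
  set w := (σ ≫ snd _ _ ≫ snd _ _) ≫ RedSub.prodMap (Red.Ga S) m (fun j => D.u (epos j))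
  set v' := (ρ 0 ≫ fst _ _) ≫ RedSub.prodMap (Red.Ga S) n (fun j => D.u (eneg j))
  set z' := ρ 0 ≫ snd _ _ ≫ fst _ _
  set w' := (ρ 0 ≫ snd _ _ ≫ snd _ _) ≫ RedSub.prodMap (Red.Ga S) m (fun j => D.u (epos j))
  have key : (p ≫ g) * I D X' z = (v⁻¹ * v') * I D X' z' * (w' * w⁻¹) := by
    rw [hs, hr] at h0
    calc (p ≫ g) * I D X' z
        = v⁻¹ * (v * (p ≫ g) * I D X' z * w) * w⁻¹ := by group
      _ = v⁻¹ * ((p ≫ g) * (v * I D X' z * w)) * w⁻¹ := by rw [← hg X' p v]; group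
      _ = v⁻¹ * (v' * I D X' z' * w') * w⁻¹ := by rw [← h0]
      _ = (v⁻¹ * v') * I D X' z' * (w' * w⁻¹) := by group
  have hnegS : ∀ c, c ∈ RedSub.negRoots D.P b ↔ ¬ c ∈ RedSub.posRoots D.P b := neg_iff_not_pos D b
  have hv : ∀ y : X' ⟶ RedSub.pow (Red.Ga S) n,
      y ≫ RedSub.prodMap (Red.Ga S) n (fun j => D.u (eneg j)) ∈
        ⨆ (c : D.idx) (_ : ¬ c ∈ RedSub.posRoots D.P b), rootSub D X' c :=
    prodMap_mem D {c | ¬ c ∈ RedSub.posRoots D.P b} eneg fun j => (hnegS _).mp (hn.2 ▸ ⟨j, rfl⟩)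
  have hw : ∀ y : X' ⟶ RedSub.pow (Red.Ga S) m,
      y ≫ RedSub.prodMap (Red.Ga S) m (fun j => D.u (epos j)) ∈
        ⨆ (c : D.idx) (_ : c ∈ RedSub.posRoots D.P b), rootSub D X' c :=
    prodMap_mem D (RedSub.posRoots D.P b) epos fun j => hp.2 ▸ ⟨j, rfl⟩
  obtain ⟨y, hy⟩ := exists_cell_lift hn hp X' z' (mul_mem (inv_mem (hv _)) (hv _) : v⁻¹ * v' ∈ _)
    (mul_mem (hw _) (inv_mem (hw _)) : w' * w⁻¹ ∈ _)
  rw [← key] at hy
  have hy5 := S5509.result D b eneg epos hn hp X' y fun X'' q t => ⟨t, by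
    rw [hy, MonObj.comp_mul]
    have hzt : (q ≫ I D X' z) * (t ≫ D.i) = (t ≫ D.i) * (q ≫ I D X' z) := by
      have e : q ≫ I D X' z = I D X'' (q ≫ z) := (Category.assoc q z D.i).symm
      rw [e]
      show I D X'' (q ≫ z) * I D X'' t = I D X'' t * I D X'' (q ≫ z)
      rw [← map_mul, ← map_mul, torus_comm]
    have hc := hg X'' (q ≫ p) (t ≫ D.i)
    rw [Category.assoc] at hc
    rw [mul_inv_eq_iff_eq_mul, _root_.mul_assoc, hzt, ← _root_.mul_assoc, hc, _root_.mul_assoc]⟩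
  have hfac : p ≫ g = ((y ≫ snd _ _ ≫ fst _ _) * z⁻¹) ≫ D.i := by
    show p ≫ g = I D X' ((y ≫ snd _ _ ≫ fst _ _) * z⁻¹)
    rw [map_mul, map_inv, eq_mul_inv_iff_mul_eq, ← hy, hy5]
    rfl
  obtain ⟨J, hJ⟩ := exists_cell_lift hn hp D.T (𝟙 D.T) (one_mem _) (one_mem _)
  have hJ' : J ≫ RedSub.cellMap D eneg epos = D.i := by
    rw [hJ, _root_.one_mul, _root_.mul_one]; exact Category.id_comp D.i
  have hrange : Set.range g.left.base ⊆ Set.range (RedSub.cellMap D eneg epos).left.base := by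
    rintro _ ⟨x, rfl⟩
    haveI := hcov.surj
    obtain ⟨x', rfl⟩ := p.left.surjective x
    rw [← hJ'] at hfac
    have e1 := congrArg (fun f : X' ⟶ G => f.left.base x') hfac
    exact ⟨J.left.base (((y ≫ snd _ _ ≫ fst _ _) * z⁻¹).left.base x'), e1.symm⟩
  obtain ⟨y₁, hy₁⟩ : ∃ y₁, y₁ ≫ RedSub.cellMap D eneg epos = g :=
    ⟨Over.homMk (IsOpenImmersion.lift (RedSub.cellMap D eneg epos).left g.left hrange)
      (by rw [← Over.w (RedSub.cellMap D eneg epos), IsOpenImmersion.lift_fac_assoc, Over.w]),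
      Over.OverMorphism.ext (IsOpenImmersion.lift_fac _ _ _)⟩
  have hg5 := S5509.result D b eneg epos hn hp X y₁ fun X'' q t => ⟨t, by
    rw [hy₁, hg X'' q (t ≫ D.i), mul_inv_cancel_right]⟩
  rw [hy₁] at hg5
  refine ⟨_, hg5.symm, fun a => ?_⟩
  set t := y₁ ≫ snd _ _ ≫ fst _ _
  rw [← rootVal_eq_one_iff]
  have hgt : g = I D X t := hg5
  have h := conj_U D a t (1 : Γ(X.left, ⊤))
  have hc := hg X (𝟙 X) (U D X a 1)
  rw [Category.id_comp] at hc
  rw [← hgt, hc, mul_inv_cancel_right, _root_.mul_one] at h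
  haveI := mono_u D a
  have h' := (cancel_mono (D.u a)).mp h
  have := congrArg Red.gaFn h'
  rw [GaPts.gaFn_ptOfFn, GaPts.gaFn_ptOfFn] at this
  exact Units.ext this.symm

/-- A torus point killed by the roots is central. -/
theorem central_of {X : Over S} (t : X ⟶ D.T) (ht : ∀ a : D.idx, t ≫ D.split.hom.hom.hom ≫ Red.chi S (D.P.root a) = 1)
    (X' : Over S) (x : X' ⟶ X) (h : X' ⟶ G) : (x ≫ t ≫ D.i) * h = h * (x ≫ t ≫ D.i) := by
  obtain ⟨b, n, m, eneg, epos, hn, hp, hopen⟩ := exists_cell D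
  haveI := hopen
  obtain ⟨X'', p, σ, ρ, hcov, hρ⟩ := CellExt29.exists_translate (RedSub.cellMap D eneg epos) D.reductive
    (BigCell29.exists_one_cellMap D eneg epos) (X := X') (fun _ : Fin 1 => h)
  haveI := hcov.epi
  have hr : ∀ a, rootVal D X'' a (p ≫ x ≫ t) = 1 := fun a => (rootVal_eq_one_iff D a _).mpr (by
    simp only [Category.assoc, ht, MonObj.comp_one])
  obtain ⟨hT, hU⟩ := comm_gen D (p ≫ x ≫ t) hr
  have hcell : ∀ y : X'' ⟶ _, Commute (I D X'' (p ≫ x ≫ t)) (y ≫ RedSub.cellMap D eneg epos) := fun y => by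
    rw [cell_decomp]
    exact ((hU Set.univ _ (prodMap_mem D Set.univ eneg (fun _ => Set.mem_univ _) _)).mul_right (hT _)).mul_right
      (hU Set.univ _ (prodMap_mem D Set.univ epos (fun _ => Set.mem_univ _) _))
  have hh : p ≫ h = (ρ 0 ≫ RedSub.cellMap D eneg epos) * (σ ≫ RedSub.cellMap D eneg epos)⁻¹ :=
    eq_mul_inv_iff_mul_eq.mpr (hρ 0).symm
  rw [← cancel_epi p, MonObj.comp_mul, MonObj.comp_mul, hh]
  have e : p ≫ x ≫ t ≫ D.i = I D X'' (p ≫ x ≫ t) := by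
    show _ = (p ≫ x ≫ t) ≫ D.i
    simp only [Category.assoc]
  rw [e]
  exact ((hcell (ρ 0)).mul_right (hcell σ).inv_right).eq

end Nonempty

end Groth.Agent.Obs28.CRoots
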