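import Mathlib.RingTheory.Spectrum.Prime.Chevalley
import Mathlib.RingTheory.Jacobson.Ring
import Mathlib.FieldTheory.IsAlgClosed.Basic

/-! Chevalley: points of the base lift over a nonempty open set. -/

universe u

namespace Groth.Agent.Obs28

set_option linter.style.haveILetI false

variable {k : Type u} [Field k] [IsAlgClosed k]

/-- A prime ideal not containing an element lies under a point where it does not vanish. -/
theorem exists_point_of_prime {B : Type u} [CommRing B] [Algebra k B] [Algebra.FiniteType k B]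
    (Q : Ideal B) [Q.IsPrime] {b : B} (hb : b ∉ Q) : ∃ ψ : B →ₐ[k] k, ψ b ≠ 0 ∧ ∀ x ∈ Q, ψ x = 0 := by
  haveI : IsJacobsonRing B := isJacobsonRing_of_finiteType (A := k)
  have hrad : Q.jacobson = Q := IsJacobsonRing.out ‹_› (Ideal.IsPrime.isRadical ‹_›)
  rw [← hrad, Ideal.mem_jacobson_iff] at hb
  by_contra hne
  push Not at hne
  have : b ∈ Q.jacobson := by
    refine Ideal.mem_sInf.mpr fun m ⟨hQm, hm⟩ => ?_
    by_contra hbm
    haveI := hm
    letI := Ideal.Quotient.field m
    haveI : Module.Finite k (B ⧸ m) := finite_of_finite_type_of_isJacobsonRing k _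
    let e := AlgEquiv.ofBijective (Algebra.ofId k (B ⧸ m))
      (IsAlgClosed.algebraMap_bijective_of_isIntegral (k := k) (K := B ⧸ m))
    obtain ⟨x, hx, hx'⟩ := hne ((e.symm : (B ⧸ m) →ₐ[k] k).comp (Ideal.Quotient.mkₐ k m)) (by
      show e.symm (Ideal.Quotient.mk m b) ≠ 0
      rw [ne_eq, EmbeddingLike.map_eq_zero_iff, Ideal.Quotient.eq_zero_iff_mem]
      exact hbm)
    refine hx' ?_
    show e.symm (Ideal.Quotient.mk m x) = 0
    rw [Ideal.Quotient.eq_zero_iff_mem.mpr (hQm hx), map_zero]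
  exact hb (Ideal.mem_jacobson_iff.mp this)

omit [IsAlgClosed k] in
/-- The image of a nonempty basic open of a domain extension contains a basic open. -/
theorem exists_ne_zero_prime {A B : Type u} [CommRing A] [CommRing B] [Algebra k A] [Algebra k B]
    [Algebra.FiniteType k A] [Algebra.FiniteType k B] [IsDomain A] [IsDomain B] (φ : A →ₐ[k] B)
    (hφ : Function.Injective φ) {b : B} (hb : b ≠ 0) :
    ∃ a : A, a ≠ 0 ∧ ∀ m : Ideal A, m.IsPrime → a ∉ m →
      ∃ Q : Ideal B, Q.IsPrime ∧ b ∉ Q ∧ Q.comap φ.toRingHom = m := by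
  have hfp : φ.toRingHom.FinitePresentation := by
    letI := φ.toRingHom.toAlgebra
    haveI : IsScalarTower k A B := IsScalarTower.of_algebraMap_eq fun r => (φ.commutes r).symm
    haveI : IsNoetherianRing A := Algebra.FiniteType.isNoetherianRing k A
    haveI : Algebra.FiniteType A B := Algebra.FiniteType.of_restrictScalars_finiteType k A B
    exact (Algebra.FinitePresentation.of_finiteType.mp ‹Algebra.FiniteType A B› : Algebra.FinitePresentation A B)
  have hs : Topology.IsConstructible ((PrimeSpectrum.basicOpen b : TopologicalSpace.Opens _) :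
      Set (PrimeSpectrum B)) :=
    PrimeSpectrum.isConstructible_basicOpen
  obtain ⟨S, hS⟩ := PrimeSpectrum.exists_constructibleSetData_iff.mpr
    (PrimeSpectrum.isConstructible_comap_image hfp hs)
  have hbot : (⟨⊥, Ideal.isPrime_bot⟩ : PrimeSpectrum A) ∈ S.toSet := by
    rw [hS]
    refine ⟨⟨⊥, Ideal.isPrime_bot⟩, by simpa [PrimeSpectrum.mem_basicOpen] using hb, PrimeSpectrum.ext ?_⟩
    exact Ideal.comap_bot_of_injective _ hφ
  simp only [PrimeSpectrum.ConstructibleSetData.toSet, Set.mem_iUnion] at hbot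
  obtain ⟨C, hC, hg, hf⟩ := hbot
  refine ⟨C.f, by simpa using hf, fun m hm hfm => ?_⟩
  have hmem : (⟨m, hm⟩ : PrimeSpectrum A) ∈ S.toSet := by
    simp only [PrimeSpectrum.ConstructibleSetData.toSet, Set.mem_iUnion]
    refine ⟨C, hC, fun x hx => ?_, by simpa using hfm⟩
    have := hg hx
    simp only [SetLike.mem_coe, Ideal.mem_bot] at this
    rw [this]
    exact m.zero_mem
  rw [hS] at hmem
  obtain ⟨Q, hQ, hQm⟩ := hmem
  exact ⟨Q.asIdeal, Q.isPrime, hQ, congrArg PrimeSpectrum.asIdeal hQm⟩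

/-- Points of the base lift to points where a given element does not vanish, over a nonempty open. -/
theorem exists_ne_zero_point {A B : Type u} [CommRing A] [CommRing B] [Algebra k A] [Algebra k B]
    [Algebra.FiniteType k A] [Algebra.FiniteType k B] [IsDomain A] [IsDomain B] (φ : A →ₐ[k] B)
    (hφ : Function.Injective φ) {b : B} (hb : b ≠ 0) :
    ∃ a : A, a ≠ 0 ∧ ∀ χ : A →ₐ[k] k, χ a ≠ 0 → ∃ ψ : B →ₐ[k] k, ψ b ≠ 0 ∧ ψ.comp φ = χ := by
  obtain ⟨a, ha, h⟩ := exists_ne_zero_prime φ hφ hb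
  refine ⟨a, ha, fun χ hχ => ?_⟩
  obtain ⟨Q, hQ, hbQ, hQm⟩ := h (RingHom.ker χ) (RingHom.ker_isPrime χ) hχ
  obtain ⟨ψ, hψ, hψQ⟩ := exists_point_of_prime (k := k) Q hbQ
  refine ⟨ψ, hψ, AlgHom.ext fun x => ?_⟩
  have hx : x - algebraMap k A (χ x) ∈ RingHom.ker χ := by simp [RingHom.mem_ker]
  rw [← hQm] at hx
  have := hψQ _ hx
  simp only [map_sub, AlgHom.toRingHom_eq_coe, RingHom.coe_coe, AlgHom.commutes] at this
  simpa [sub_eq_zero] using this

/-- A finitely generated reduced algebra has a point off any nonzero element. -/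
theorem exists_point_ne_zero {A : Type u} [CommRing A] [Algebra k A] [Algebra.FiniteType k A] [IsReduced A]
    {a : A} (ha : a ≠ 0) : ∃ χ : A →ₐ[k] k, χ a ≠ 0 := by
  obtain ⟨p, hp, hap⟩ : ∃ p : Ideal A, p.IsPrime ∧ a ∉ p := by
    by_contra h
    push Not at h
    exact ha (IsNilpotent.eq_zero (nilpotent_iff_mem_prime.mpr h))
  obtain ⟨χ, hχ, -⟩ := exists_point_of_prime (k := k) p hap
  exact ⟨χ, hχ⟩

end Groth.Agent.Obs28
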