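import Groth.Agent.Obs28.Res
import Groth.Agent.Obs28.Chev
import Groth.Prelude.Def_GmPts

/-! Characters of a subgroup, eigenvectors, and the criterion of observability by characters. -/

universe u

open CategoryTheory MonoidalCategory CartesianMonoidalCategory MonObj GrpObj AlgebraicGeometry
open scoped TensorProduct

namespace Groth.Agent.Obs28

open GrpSchLib.Kunneth

set_option linter.unusedSectionVars false
set_option linter.style.haveILetI false

variable {k : Type u} [Field k] {G H : Over (Spec (CommRingCat.of k))}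

theorem chiVal_eq {B : Type u} [CommRing B] [Algebra k B] (χ : H ⟶ Red.Gm (Spec (CommRingCat.of k)))
    (g : VecGrp.pt k B ⟶ H) : VecGrp.chiVal χ g = pfn g (Red.gmFn χ) := by
  rw [VecGrp.chiVal, GmPts.gmFn_comp]
  rfl

/-- The value of a character at a rational point. -/
noncomputable def cv (χ : H ⟶ Red.Gm (Spec (CommRingCat.of k))) (h : Rat H) : k := pfn h (Red.gmFn χ)

theorem cv_ne_zero (χ : H ⟶ Red.Gm (Spec (CommRingCat.of k))) (h : Rat H) : cv χ h ≠ 0 :=
  ((GmPts.isUnit_gmFn χ).map (pfn h)).ne_zero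

theorem cv_one' (h : Rat H) : cv (1 : H ⟶ Red.Gm (Spec (CommRingCat.of k))) h = 1 := by
  rw [cv, GmPts.gmFn_one, map_one]

theorem cv_inv (χ : H ⟶ Red.Gm (Spec (CommRingCat.of k))) (h : Rat H) : cv χ⁻¹ h = (cv χ h)⁻¹ := by
  refine eq_inv_of_mul_eq_one_left ?_
  rw [cv, cv, ← map_mul, GmPts.gmFn_inv, map_one]

theorem cv_mul (χ χ' : H ⟶ Red.Gm (Spec (CommRingCat.of k))) (h : Rat H) :
    cv (χ * χ') h = cv χ h * cv χ' h := by
  rw [cv, GmPts.gmFn_mul, map_mul, cv, cv]

theorem chiVal_mul {B : Type u} [CommRing B] [Algebra k B] (χ χ' : H ⟶ Red.Gm (Spec (CommRingCat.of k)))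
    (g : VecGrp.pt k B ⟶ H) : VecGrp.chiVal (χ * χ') g = VecGrp.chiVal χ g * VecGrp.chiVal χ' g := by
  rw [chiVal_eq, GmPts.gmFn_mul, map_mul, chiVal_eq, chiVal_eq]

variable [IsAlgClosed k] [GrpObj H] [IsAffine H.left] [Smooth H.hom]

theorem cv_hom (χ : H ⟶ Red.Gm (Spec (CommRingCat.of k))) [IsMonHom χ] (a b : Rat H) :
    cv χ (a * b) = cv χ a * cv χ b := by
  rw [cv, cv, cv, ← chiVal_eq, ← chiVal_eq, ← chiVal_eq, VecGrp.chiVal, VecGrp.chiVal, VecGrp.chiVal,
    MonObj.mul_comp a b χ, GmPts.gmFn_mul, map_mul]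

/-- A function which is multiplicative on points and nowhere zero is a character. -/
theorem exists_char (u : Fn H) (hmul : ∀ a b : Rat H, pfn (a * b) u = pfn a u * pfn b u)
    (hone : pfn (1 : Rat H) u = 1) :
    ∃ χ : H ⟶ Red.Gm (Spec (CommRingCat.of k)), IsMonHom χ ∧ Red.gmFn χ = u := by
  haveI := isReduced_grp H
  have hu : u * ev ι[H] u = 1 := ext_pts fun x => by
    rw [map_mul, map_one, ← pfn_comp, ← hmul, GrpObj.inv_eq_inv, GrpObj.comp_inv, Category.comp_id, mul_inv_cancel, hone]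
  let v : (Fn H)ˣ := ⟨u, ev ι[H] u, hu, by rw [mul_comm, hu]⟩
  let χ : H ⟶ Red.Gm (Spec (CommRingCat.of k)) := GmPts.ptOfUnit v
  have hχ : Red.gmFn χ = u := GmPts.gmFn_ptOfUnit v
  refine ⟨χ, ⟨?_, ?_⟩, hχ⟩
  · haveI : IsReduced (𝟙_ (Over (Spec (CommRingCat.of k)))).left :=
      inferInstanceAs (IsReduced (Spec (CommRingCat.of k)))
    haveI : LocallyOfFiniteType (𝟙_ (Over (Spec (CommRingCat.of k)))).hom :=
      inferInstanceAs (LocallyOfFiniteType (𝟙 (Spec (CommRingCat.of k))))
    rw [MonObj.one_eq_one (M := Red.Gm (Spec (CommRingCat.of k)))]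
    refine GmPts.gmFn_injective ?_
    show Red.gmFn (η[H] ≫ χ) = Red.gmFn (1 : 𝟙_ _ ⟶ _)
    rw [GmPts.gmFn_comp, GmPts.gmFn_one, hχ]
    show ev η[H] u = 1
    refine ext_pts fun x => ?_
    rw [← pfn_comp, map_one, toUnit_unique x (toUnit _), ← Hom.one_def, hone]
  · haveI : IsAffine (H ⊗ H).left := inferInstanceAs (IsAffine (Limits.pullback H.hom H.hom))
    haveI : Smooth (H ⊗ H).hom := inferInstanceAs (Smooth (Limits.pullback.fst H.hom H.hom ≫ H.hom))
    haveI : IsReduced (H ⊗ H).left := GrpSchLib.isReduced_of_smooth_field (H ⊗ H).hom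
    have e : (χ ⊗ₘ χ) ≫ μ[Red.Gm (Spec (CommRingCat.of k))] = (fst H H ≫ χ) * (snd H H ≫ χ) := by
      rw [Hom.mul_def]
      congr 1
    rw [e]
    refine GmPts.gmFn_injective ?_
    show Red.gmFn (μ[H] ≫ χ) = Red.gmFn ((fst H H ≫ χ) * (snd H H ≫ χ))
    rw [GmPts.gmFn_comp, GmPts.gmFn_mul, GmPts.gmFn_comp, GmPts.gmFn_comp, hχ]
    show ev μ[H] u = ev (fst H H) u * ev (snd H H) u
    refine ext_pts fun w => ?_
    rw [map_mul, ← pfn_comp, ← pfn_comp, ← pfn_comp, ← hmul, Hom.mul_def, lift_comp_fst_snd]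

variable [GrpObj G] [IsAffine G.left] [Smooth G.hom] (i : H ⟶ G) [IsMonHom i]

/-- An eigenvector of the subgroup with the given character, in the language of rational modules. -/
theorem eigen_gmod_iff {V : Type u} [AddCommGroup V] [Module k V] (ρ : VecGrp.GMod G V) (v : V)
    (χ : H ⟶ Red.Gm (Spec (CommRingCat.of k))) :
    (∀ (B : Type u) [CommRing B] [Algebra k B] (h : VecGrp.pt k B ⟶ H),
        ρ.ρ B (h ≫ i) ((1 : B) ⊗ₜ[k] v) = VecGrp.chiVal χ h • ((1 : B) ⊗ₜ[k] v)) ↔
      ∀ h : Rat H, rep ρ (h ≫ i) v = cv χ h • v := by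
  constructor
  · intro hv h
    rw [rep_apply, hv k h, map_smul, TensorProduct.lid_tmul, one_smul, chiVal_eq]
    rfl
  · intro hv B _ _ h
    haveI := isReduced_grp H
    have e : VecGrp.Wmap (ev i) (coact ρ v) = Red.gmFn χ ⊗ₜ[k] v := eq_of_evl_pts fun w => by
      rw [evl_Wmap, evl_tmul]
      exact (rep_eq_evl ρ (w ≫ i) v).symm.trans (hv w)
    have := congrArg (VecGrp.Wmap (pfn h)) e
    rw [Wmap_comp', VecGrp.Wmap_tmul] at this
    rw [rho_one_tmul, chiVal_eq, TensorProduct.smul_tmul', smul_eq_mul, _root_.mul_one]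
    exact this

/-- The character of an eigenline. -/
theorem exists_char_of_line {M : Type u} [AddCommGroup M] [Module k M] {π : Rat G →* (M ≃ₗ[k] M)}
    (hπ : IsRegular π) {v : M} (hv : v ≠ 0) (hl : ∀ h : Rat H, ∃ c : k, π (h ≫ i) v = c • v) :
    ∃ χ : H ⟶ Red.Gm (Spec (CommRingCat.of k)), IsMonHom χ ∧ ∀ h : Rat H, π (h ≫ i) v = cv χ h • v := by
  obtain ⟨φ, hφ⟩ : ∃ φ : M →ₗ[k] k, φ v = 1 := by
    obtain ⟨φ, hφ⟩ := LinearMap.exists_leftInverse_of_injective (LinearMap.toSpanSingleton k M v)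
      (LinearMap.ker_eq_bot.mpr (smul_left_injective k hv))
    exact ⟨φ, by simpa using LinearMap.congr_fun hφ 1⟩
  have hval : ∀ h : Rat H, π (h ≫ i) v = pfn h (ev i (coeff hπ φ v)) • v := by
    intro h
    obtain ⟨c, hc⟩ := hl h
    rw [← pfn_comp, pfn_coeff, hc, map_smul, hφ, smul_eq_mul, _root_.mul_one]
  obtain ⟨χ, hχ, hu⟩ := exists_char (ev i (coeff hπ φ v))
    (fun a b => by
      have h2 := hval (a * b)
      rw [MonObj.mul_comp, map_mul, LinearEquiv.mul_apply, hval b, map_smul, hval a, smul_smul] at h2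
      rw [← smul_left_injective k hv h2, mul_comm])
    (by rw [← pfn_comp, pfn_coeff, MonObj.one_comp, map_one]; exact hφ)
  exact ⟨χ, hχ, fun h => by rw [hval h, cv, hu]⟩

variable [IsClosedImmersion i.left]

omit [IsMonHom i] in
/-- A subspace is the same thing as a line in the exterior algebra. -/
theorem exists_line_of_subspace {M : Type u} [AddCommGroup M] [Module k M] [Module.Finite k M]
    {π : Rat G →* (M ≃ₗ[k] M)} (hπ : IsRegular π) (U : Submodule k M) :
    ∃ (V : Type u) (_ : AddCommGroup V) (_ : Module k V) (_ : Module.Finite k V)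
      (π' : Rat G →* (V ≃ₗ[k] V)) (_ : IsRegular π') (v : V), v ≠ 0 ∧
        ∀ g, (∀ x ∈ U, π g x ∈ U) ↔ ∃ c : k, π' g v = c • v := by
  classical
  let b := Module.finBasis k U
  let bM : Fin (Module.finrank k U) → M := fun j => (b j : M)
  have hbM : LinearIndependent k bM := b.linearIndependent.map' U.subtype U.ker_subtype
  have hspan : Submodule.span k (Set.range bM) = U := by
    rw [show Set.range bM = U.subtype '' Set.range b from by rw [← Set.range_comp]; rfl,
      Submodule.span_image, b.span_eq, Submodule.map_top, Submodule.range_subtype]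
  let ω := ExteriorAlgebra.ιMulti k (Module.finrank k U) bM
  have hω : ω ≠ 0 := ιMulti_ne_zero hbM
  let X := orbitSpan (extPi π) {ω}
  haveI : Module.Finite k X := finite_orbitSpan (extPi_regular π hπ) (Set.finite_singleton ω)
  refine ⟨X, inferInstance, inferInstance, inferInstance, subPi (extPi π) X (orbitSpan_stable _ _),
    subPi_regular _ _ _ (extPi_regular π hπ), ⟨ω, subset_orbitSpan _ _ rfl⟩,
    fun h => hω (congrArg Subtype.val h), fun g => ?_⟩
  simp only [Subtype.ext_iff, subPi_coe, SetLike.val_smul]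
  constructor
  · intro hg
    let e : U →ₗ[k] U := ((π g).toLinearMap ∘ₗ U.subtype).codRestrict U fun x => hg x x.2
    refine ⟨LinearMap.det e, ?_⟩
    show ExteriorAlgebra.map (π g).toLinearMap ω = _
    rw [ExteriorAlgebra.map_apply_ιMulti]
    refine sub_eq_zero.mp ((Module.forall_dual_apply_eq_zero_iff k _).mp fun φ => ?_)
    let F : U [⋀^Fin (Module.finrank k U)]→ₗ[k] k :=
      φ.compAlternatingMap ((ExteriorAlgebra.ιMulti k (Module.finrank k U)).compLinearMap U.subtype)
    have key : F (fun j => e (b j)) = LinearMap.det e * F b := by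
      have h2 := F.eq_smul_basis_det b
      conv_lhs => rw [h2]
      rw [AlternatingMap.smul_apply, show (fun j => e (b j)) = e ∘ b from rfl, Module.Basis.det_comp,
        Module.Basis.det_self, _root_.mul_one, smul_eq_mul, mul_comm]
    rw [map_sub, map_smul, smul_eq_mul, sub_eq_zero]
    exact key
  · rintro ⟨c, hc⟩ x hx
    rw [← hspan] at hx ⊢
    exact mem_span_of_map_line hbM (π g) c hc x hx

/-- Chevalley: the subgroup is the stabiliser of a line. -/
theorem exists_line_stab :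
    ∃ (V : Type u) (_ : AddCommGroup V) (_ : Module k V) (_ : Module.Finite k V)
      (π : Rat G →* (V ≃ₗ[k] V)) (_ : IsRegular π) (v : V), v ≠ 0 ∧ ∀ g, Mem i g ↔ ∃ c : k, π g v = c • v := by
  classical
  haveI := finiteType_fn G
  haveI : IsNoetherianRing (Fn G) := Algebra.FiniteType.isNoetherianRing k _
  obtain ⟨s, hs⟩ := (IsNoetherian.noetherian (RingHom.ker (ev i)) : (RingHom.ker (ev i)).FG)
  let W := orbitSpan (rPi (G := G)) (s : Set (Fn G))
  haveI : Module.Finite k W := finite_orbitSpan rPi_regular s.finite_toSet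
  let πW := subPi (rPi (G := G)) W (orbitSpan_stable _ _)
  let U : Submodule k W := LinearMap.ker ((ev i).toLinearMap ∘ₗ W.subtype)
  obtain ⟨V, iV, iM, iF, π', hπ', v, hv, hvU⟩ :=
    exists_line_of_subspace (subPi_regular _ W (orbitSpan_stable _ _) rPi_regular) U
  refine ⟨V, iV, iM, iF, π', hπ', v, hv, fun g => ?_⟩
  rw [← hvU g]
  constructor
  · rintro ⟨h, rfl⟩ x hx
    have hx' : ev i (x : Fn G) = 0 := hx
    show ev i (rMap (h ≫ i) (x : Fn G)) = 0
    haveI := isReduced_grp H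
    refine eq_zero_of_val _ fun y => ?_
    rw [← pfn_comp, pfn_rMap', ← MonObj.mul_comp, pfn_comp, hx', map_zero]
  · intro hg
    refine mem_of_vanish i g fun f hf => ?_
    have hle : RingHom.ker (ev i) ≤ RingHom.ker (pfn g) := by
      rw [← hs]
      refine Submodule.span_le.mpr fun x hx => ?_
      have hxk : ev i x = 0 := RingHom.mem_ker.mp (hs ▸ Submodule.subset_span hx)
      have h2 : ev i (rMap g x) = 0 := hg ⟨x, subset_orbitSpan _ _ hx⟩ hxk
      show pfn g x = 0
      rw [← _root_.one_mul g, ← pfn_rMap', ← MonObj.one_comp i, pfn_comp, h2, map_zero]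
    exact hle hf

end Groth.Agent.Obs28
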