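import Groth.Agent.Obs28.Char

/-! Observability and inverse characters. -/

universe u

open CategoryTheory MonoidalCategory CartesianMonoidalCategory MonObj GrpObj AlgebraicGeometry
open scoped TensorProduct

namespace Groth.Agent.Obs28

open GrpSchLib.Kunneth

set_option linter.unusedSectionVars false
set_option linter.style.haveILetI false

variable {k : Type u} [Field k] [IsAlgClosed k] {G H : Over (Spec (CommRingCat.of k))} [GrpObj G] [GrpObj H]
  [IsAffine G.left] [Smooth G.hom] [IsAffine H.left] [Smooth H.hom] (i : H ⟶ G)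

/-- The point of an algebra homomorphism. -/
noncomputable def ptOf {X : Over (Spec (CommRingCat.of k))} [IsAffine X.left] (φ : Fn X →ₐ[k] k) : Rat X :=
  VecGrp.ptMap φ ≫ univ X

theorem pfn_ptOf {X : Over (Spec (CommRingCat.of k))} [IsAffine X.left] (φ : Fn X →ₐ[k] k) (a : Fn X) :
    pfn (ptOf φ) a = φ a := by
  rw [ptOf, pfn_ptMap, pfn_univ]
  rfl

/-- For an observable subgroup, semi-invariant functions exist also for the inverse weight. -/
theorem exists_inv_weight (hobs : AGF.IsObservableIn k i) (c : Rat H → k) (hc : ∀ h, c h ≠ 0) {f : Fn G}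
    (hf0 : f ≠ 0) (hf : ∀ (g : Rat G) (h : Rat H), pfn (g * (h ≫ i)) f = c h * pfn g f) :
    ∃ b : Fn G, b ≠ 0 ∧ ∀ (g : Rat G) (h : Rat H), pfn (g * (h ≫ i)) b = (c h)⁻¹ * pfn g b := by
  classical
  haveI := finiteType_fn G
  haveI := isReduced_grp G
  haveI : _root_.IsReduced (Fn G) := inferInstanceAs (_root_.IsReduced Γ(G.left, ⊤))
  obtain ⟨s, hs, hsep⟩ := exists_sep_of_observable i hobs
  let A := Algebra.adjoin k (s : Set (Fn G))
  haveI : Algebra.FiniteType k A := (Subalgebra.fg_iff_finiteType A).mp (Subalgebra.fg_adjoin_finset s)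
  have hA : ∀ a ∈ A, ∀ h : Rat H, rMap (h ≫ i) a = a := fun a ha h =>
    (Algebra.adjoin_le (fun x hx => hs x hx h) : A ≤ AlgHom.equalizer (rMap (h ≫ i)) (AlgHom.id k (Fn G))) ha
  haveI : _root_.IsReduced A := isReduced_of_injective A.val Subtype.val_injective
  haveI : Nontrivial (Fn G) := RingHom.domain_nontrivial (pfn (1 : Rat G)).toRingHom
  obtain ⟨p, hp⟩ := (Ideal.nonempty_minimalPrimes (bot_ne_top : (⊥ : Ideal A) ≠ ⊤))
  haveI := hp.1.1
  obtain ⟨P, hP, hPp⟩ := Ideal.exists_comap_eq_of_mem_minimalPrimes_of_injective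
    (f := A.val.toRingHom) Subtype.val_injective p hp
  obtain ⟨χ0, -, hχ0⟩ := exists_point_of_prime (k := k) P (fun h => hP.ne_top ((Ideal.eq_top_iff_one P).mpr h))
  obtain ⟨g1, hg1⟩ : ∃ g : Rat G, pfn g f ≠ 0 := by
    by_contra h
    push Not at h
    exact hf0 (eq_zero_of_val f h)
  let a0 : Rat G := g1 * (ptOf χ0)⁻¹
  let f' := lMap a0 f
  have hf' : ∀ (g : Rat G) (h : Rat H), pfn (g * (h ≫ i)) f' = c h * pfn g f' := fun g h => by
    simp only [f']
    rw [pfn_lMap, pfn_lMap, ← _root_.mul_assoc, hf]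
  have hfP : f' ∉ P := fun h => hg1 (by
    have h2 := hχ0 _ h
    rw [← pfn_ptOf χ0] at h2
    simp only [f', a0] at h2
    rwa [pfn_lMap, inv_mul_cancel_right] at h2)
  by_cases hcase : ∃ a : A, a ≠ 0 ∧ ∃ n : ℕ, ∃ b0 : Fn G, (a : Fn G) ^ n = f' * b0
  · obtain ⟨a, ha, n, b0, hb0⟩ := hcase
    have key : ∀ x : Rat G, pfn x f' = 0 → pfn x (a : Fn G) = 0 := fun x hx => by
      have h2 := congrArg (pfn x) hb0
      rw [map_mul, hx, zero_mul, map_pow] at h2
      exact eq_zero_of_pow_eq_zero h2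
    refine ⟨b0 * a, fun h0 => ha (Subtype.ext ?_), fun g h => ?_⟩
    · refine eq_zero_of_val (a : Fn G) fun x => ?_
      by_contra hax
      have h2 := congrArg (pfn x) hb0
      have h3 := congrArg (pfn x) h0
      rw [map_mul, map_pow] at h2
      rw [map_mul, map_zero, mul_eq_zero, or_iff_left hax] at h3
      rw [h3, mul_zero] at h2
      exact hax (eq_zero_of_pow_eq_zero h2)
    · have hainv : pfn (g * (h ≫ i)) (a : Fn G) = pfn g (a : Fn G) := by rw [← pfn_rMap', hA a a.2 h]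
      rw [map_mul, map_mul, hainv]
      by_cases hg : pfn g f' = 0
      · rw [key g hg, mul_zero, mul_zero, mul_zero]
      · have h2 := congrArg (pfn (g * (h ≫ i))) hb0
        have h3 := congrArg (pfn g) hb0
        rw [map_mul, map_pow, hainv, hf'] at h2
        rw [map_mul, map_pow] at h3
        have hb : pfn g b0 = c h * pfn (g * (h ≫ i)) b0 := mul_left_cancel₀ hg (by linear_combination h2 - h3)
        rw [hb]
        field_simp [hc h]
  · exfalso
    push Not at hcase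
    let B := Fn G ⧸ Ideal.span {f'}
    let ψ : A →ₐ[k] B := (Ideal.Quotient.mkₐ k _).comp A.val
    have hψ : Function.Injective ψ := (injective_iff_map_eq_zero ψ).mpr fun a ha => by
      by_contra h0
      obtain ⟨b0, hb0⟩ := Ideal.mem_span_singleton'.mp (Ideal.Quotient.eq_zero_iff_mem.mp ha)
      exact hcase a h0 1 b0 (by rw [pow_one, mul_comm]; exact hb0.symm)
    obtain ⟨Q, hQ, hQp⟩ := Ideal.exists_comap_eq_of_mem_minimalPrimes_of_injective
      (f := ψ.toRingHom) hψ p hp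
    let φ1 : (A ⧸ p) →ₐ[k] Fn G ⧸ P := Ideal.quotientMapₐ P A.val hPp.ge
    let φ2 : (A ⧸ p) →ₐ[k] B ⧸ Q := Ideal.quotientMapₐ Q ψ hQp.ge
    have hb1 : Ideal.Quotient.mk P f' ≠ 0 := fun h => hfP (Ideal.Quotient.eq_zero_iff_mem.mp h)
    obtain ⟨a1, ha1, h1⟩ := exists_ne_zero_point (k := k) φ1 (Ideal.quotientMap_injective' (H := hPp.ge) hPp.le) hb1
    obtain ⟨a2, ha2, h2⟩ := exists_ne_zero_point (k := k) φ2 (Ideal.quotientMap_injective' (H := hQp.ge) hQp.le)
      (one_ne_zero : (1 : B ⧸ Q) ≠ 0)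
    obtain ⟨χ, hχ⟩ := exists_point_ne_zero (k := k) (mul_ne_zero ha1 ha2)
    rw [map_mul, mul_ne_zero_iff] at hχ
    obtain ⟨ψ1, hψ1, hψ1c⟩ := h1 χ hχ.1
    obtain ⟨ψ2, -, hψ2c⟩ := h2 χ hχ.2
    let g : Rat G := ptOf (ψ1.comp (Ideal.Quotient.mkₐ k P))
    let z : Rat G := ptOf ((ψ2.comp (Ideal.Quotient.mkₐ k Q)).comp (Ideal.Quotient.mkₐ k (Ideal.span {f'})))
    obtain ⟨h, hh⟩ := hsep g z fun x hx => by
      simp only [g, z, pfn_ptOf]
      have e1 := DFunLike.congr_fun hψ1c (Ideal.Quotient.mk p ⟨x, Algebra.subset_adjoin hx⟩)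
      have e2 := DFunLike.congr_fun hψ2c (Ideal.Quotient.mk p ⟨x, Algebra.subset_adjoin hx⟩)
      exact e1.trans e2.symm
    have hz : pfn z f' = 0 := by
      simp only [z, pfn_ptOf, AlgHom.comp_apply]
      show ψ2 (Ideal.Quotient.mk Q (Ideal.Quotient.mk (Ideal.span {f'}) f')) = 0
      rw [Ideal.Quotient.eq_zero_iff_mem.mpr (Ideal.mem_span_singleton_self f'), map_zero, map_zero]
    rw [hh, hf', mul_eq_zero, or_iff_right (hc h)] at hz
    simp only [g, pfn_ptOf] at hz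
    exact hψ1 hz

/-- Semi-invariant functions give eigenvectors. -/
theorem exists_eigen_of_fn (c : Rat H → k) {b : Fn G} (hb0 : b ≠ 0)
    (hb : ∀ (g : Rat G) (h : Rat H), pfn (g * (h ≫ i)) b = c h * pfn g b) :
    ∃ (V : Type u) (_ : AddCommGroup V) (_ : Module k V) (_ : Module.Finite k V)
      (π : Rat G →* (V ≃ₗ[k] V)) (_ : IsRegular π) (v : V), v ≠ 0 ∧ ∀ h : Rat H, π (h ≫ i) v = c h • v := by
  haveI := isReduced_grp G
  let W := orbitSpan (rPi (G := G)) {b}
  haveI : Module.Finite k W := finite_orbitSpan rPi_regular (Set.finite_singleton b)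
  refine ⟨W, inferInstance, inferInstance, inferInstance, subPi (rPi (G := G)) W (orbitSpan_stable _ _),
    subPi_regular _ _ _ rPi_regular, ⟨b, subset_orbitSpan _ _ rfl⟩, fun h => hb0 (congrArg Subtype.val h),
    fun h => Subtype.ext (ext_pts fun g => ?_)⟩
  rw [subPi_coe, rPi_apply, pfn_rMap', hb g h, SetLike.val_smul, map_smul, smul_eq_mul]

theorem eigen_inv_of_observable (hobs : AGF.IsObservableIn k i) (c : Rat H → k) (hc : ∀ h, c h ≠ 0)
    {V : Type u} [AddCommGroup V] [Module k V] {π : Rat G →* (V ≃ₗ[k] V)} (hπ : IsRegular π) {v : V}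
    (hv : v ≠ 0) (heig : ∀ h : Rat H, π (h ≫ i) v = c h • v) :
    ∃ (V : Type u) (_ : AddCommGroup V) (_ : Module k V) (_ : Module.Finite k V)
      (π : Rat G →* (V ≃ₗ[k] V)) (_ : IsRegular π) (v : V), v ≠ 0 ∧ ∀ h : Rat H, π (h ≫ i) v = (c h)⁻¹ • v := by
  obtain ⟨φ, hφ⟩ : ∃ φ : V →ₗ[k] k, φ v ≠ 0 := by
    by_contra h
    push Not at h
    exact hv ((Module.forall_dual_apply_eq_zero_iff k v).mp h)
  obtain ⟨b, hb0, hb⟩ := exists_inv_weight i hobs c hc (f := coeff hπ φ v)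
    (fun h => hφ (by rw [show v = π 1 v by rw [map_one]; rfl, ← pfn_coeff hπ, h, map_zero]))
    (fun g h => by rw [pfn_coeff, pfn_coeff, map_mul, LinearEquiv.mul_apply, heig, map_smul, map_smul, smul_eq_mul])
  exact exists_eigen_of_fn i _ hb0 hb

/-- Observability from inverse characters. -/
theorem observable_of_chars [IsMonHom i] [IsClosedImmersion i.left]
    (hyp : ∀ (χ : H ⟶ Red.Gm (Spec (CommRingCat.of k))), IsMonHom χ →
      ∀ (V : Type u) [AddCommGroup V] [Module k V] [Module.Finite k V] (π : Rat G →* (V ≃ₗ[k] V)),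
        IsRegular π → ∀ v : V, v ≠ 0 → (∀ h, π (h ≫ i) v = cv χ h • v) →
        ∃ (W : Type u) (_ : AddCommGroup W) (_ : Module k W) (π' : Rat G →* (W ≃ₗ[k] W)) (_ : IsRegular π')
          (w : W), w ≠ 0 ∧ ∀ h, π' (h ≫ i) w = (cv χ h)⁻¹ • w) :
    AGF.IsObservableIn k i := by
  obtain ⟨V, iV, iM, iF, π, hπ, v, hv, hg⟩ := exists_line_stab i
  obtain ⟨χ, hχ, heig⟩ := exists_char_of_line i hπ hv fun h => (hg _).mp ⟨h, rfl⟩
  obtain ⟨W, iW, iMW, π', hπ', w, hw, heig'⟩ := hyp χ hχ V π hπ v hv heig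
  refine observable_of_stab i (tensorPi_regular π π' hπ hπ') (v := v ⊗ₜ[k] w) fun g => ⟨fun h => ?_, ?_⟩
  · have hgw : π' g w ≠ 0 := (map_ne_zero_iff _ (π' g).injective).mpr hw
    obtain ⟨ψ, hψ⟩ : ∃ ψ : W →ₗ[k] k, ψ (π' g w) ≠ 0 := by
      by_contra h
      push Not at h
      exact hgw ((Module.forall_dual_apply_eq_zero_iff k _).mp h)
    rw [tensorPi_tmul] at h
    have h2 := congrArg (fun t => TensorProduct.rid k V (ψ.lTensor V t)) h
    simp only [LinearMap.lTensor_tmul, TensorProduct.rid_tmul] at h2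
    exact (hg g).mpr ⟨(ψ (π' g w))⁻¹ * ψ w, by rw [← smul_smul, ← h2, inv_smul_smul₀ hψ]⟩
  · rintro ⟨h, rfl⟩
    rw [tensorPi_tmul, heig, heig', TensorProduct.smul_tmul, TensorProduct.tmul_smul, TensorProduct.tmul_smul,
      smul_smul, mul_inv_cancel₀ (cv_ne_zero χ h), one_smul]

end Groth.Agent.Obs28
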