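import Groth.Agent.Obs28.Radical
import Groth.Agent.AGFRoot.BorelImage
import Groth.Agent.AGFRoot.SolvScheme
import Groth.Agent.MaxTorusLib.Basic
import Mathlib.RingTheory.RootsOfUnity.AlgebraicallyClosed

/-! Groups without subtori: homomorphisms from tori, images, extensions. -/

universe u

open CategoryTheory MonoidalCategory CartesianMonoidalCategory MonObj GrpObj AlgebraicGeometry

namespace Groth.Agent.Obs28

open GrpSchLib.Kunneth

set_option linter.unusedSectionVars false
set_option linter.style.haveILetI false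

variable {k : Type u} [Field k] [IsAlgClosed k]

variable (k) in
/-- The one-point schemes over the field. -/
noncomputable def ptOne : VecGrp.pt k k ≅ 𝟙_ (Over (Spec (CommRingCat.of k))) where
  hom := toUnit _
  inv := Over.homMk (𝟙 (Spec (CommRingCat.of k))) (by
    show 𝟙 _ ≫ Spec.map (CommRingCat.ofHom (algebraMap k k)) = 𝟙 _
    simp)
  hom_inv_id := Over.OverMorphism.ext (by
    show (Spec.map (CommRingCat.ofHom (algebraMap k k))) ≫ 𝟙 _ = 𝟙 _
    simp)
  inv_hom_id := toUnit_unique _ _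

/-- Rational points lift along surjections. -/
theorem exists_rat_over {X Y : Over (Spec (CommRingCat.of k))} [GrpObj X] [LocallyOfFiniteType X.hom] [LocallyOfFiniteType Y.hom]
    (p : X ⟶ Y) [Surjective p.left] (y : Rat Y) : ∃ x : Rat X, x ≫ p = y := by
  obtain ⟨g, hg⟩ := AGFRoot.exists_point_over p ((ptOne k).inv ≫ y)
  exact ⟨(ptOne k).hom ≫ g, by rw [Category.assoc, hg, Iso.hom_inv_id_assoc]⟩

/-- Nilpotency one and finite order invertible in the field force the identity. -/
theorem eq_one_of_isNilpotent_sub_one {A : Type*} [Ring A] [Algebra k A] {u : A} (hn : IsNilpotent (u - 1)) {ℓ : ℕ}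
    (hℓ : (ℓ : k) ≠ 0) (hu : u ^ ℓ = 1) : u = 1 := by
  have hc : ∀ m : ℕ, ∃ w : A, Commute (u - 1) w ∧ u ^ m - 1 = (u - 1) * w := by
    intro m
    refine ⟨∑ i ∈ Finset.range m, u ^ i, Commute.sum_right _ _ _ fun i _ =>
      ((Commute.refl u).pow_right i).sub_left (Commute.one_left _), (mul_geom_sum u m).symm⟩
  have hsum : (u - 1) * ∑ i ∈ Finset.range ℓ, u ^ i = 0 := by rw [mul_geom_sum, hu, sub_self]
  obtain ⟨v, hv, hsplit⟩ : ∃ v : A, Commute (u - 1) v ∧
      ∑ i ∈ Finset.range ℓ, u ^ i = algebraMap k A ℓ + (u - 1) * v := by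
    choose w hw hw' using hc
    refine ⟨∑ i ∈ Finset.range ℓ, w i, Commute.sum_right _ _ _ fun i _ => hw i, ?_⟩
    rw [Finset.mul_sum, Finset.sum_congr rfl fun i _ => (hw' i).symm, Finset.sum_sub_distrib, Finset.sum_const,
      Finset.card_range, nsmul_eq_mul, _root_.mul_one, map_natCast]
    abel
  have hnil : IsNilpotent ((u - 1) * v) := hv.isNilpotent_mul_right hn
  have hunit : IsUnit (algebraMap k A ℓ + (u - 1) * v) :=
    hnil.isUnit_add_left_of_commute ((IsUnit.mk0 _ hℓ).map _) ((Algebra.commutes (ℓ : k) _).symm)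
  rw [← hsplit] at hunit
  exact sub_eq_zero.mp (hunit.mul_left_eq_zero.mp hsum)

section Image

variable {G : Over (Spec (CommRingCat.of k))} [GrpObj G] [IsAffine G.left] [Smooth G.hom]

/-- A point acting unipotently in all finite stable subspaces of functions and of invertible order is trivial. -/
theorem eq_one_of_unipotent (g : Rat G)
    (hg : ∀ (W : Submodule k (Fn G)) (hW : ∀ a, ∀ x ∈ W, rPi a x ∈ W), Module.Finite k W →
      IsNilpotent ((subPi rPi W hW g).toLinearMap - 1))
    {ℓ : ℕ} (hℓ : (ℓ : k) ≠ 0) (hgl : g ^ ℓ = 1) : g = 1 := by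
  haveI := isReduced_grp G
  refine pfn_injective (AlgHom.ext fun f => ?_)
  let W := orbitSpan (rPi (G := G)) {f}
  have hfin : Module.Finite k W := finite_orbitSpan rPi_regular (Set.finite_singleton f)
  let ρ : Rat G →* Module.End k W :=
    { toFun := fun a => (subPi rPi W (orbitSpan_stable _ _) a).toLinearMap
      map_one' := by rw [map_one]; rfl
      map_mul' := fun a b => by rw [map_mul]; rfl }
  have h := eq_one_of_isNilpotent_sub_one (k := k) (A := Module.End k W) (u := ρ g)
    (hg W (orbitSpan_stable _ _) hfin) hℓ (by rw [← map_pow, hgl, map_one])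
  have h3 : rMap g f = f := by
    have := congrArg (fun e : Module.End k W => ((e ⟨f, subset_orbitSpan _ _ rfl⟩ : W) : Fn G)) h
    exact this
  have h4 := congrArg (pfn (1 : Rat G)) h3
  rwa [pfn_rMap', _root_.one_mul] at h4

/-- The image of a connected group without subtori has no subtori. -/
theorem hasNoSubtorus_image {U : Over (Spec (CommRingCat.of k))} [GrpObj U] [IsAffine U.left] [Smooth U.hom]
    [ConnectedSpace U.left] (hU : Red.HasNoSubtorus k U) (p : U ⟶ G) [IsMonHom p] [Surjective p.left] :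
    Red.HasNoSubtorus k G := by
  intro T _ j _ _ hT
  obtain ⟨_, hTs, _, _⟩ := AGFRoot.SolvSch.torus_facts hT
  haveI : IsAffine T.left := ‹_›
  haveI := hTs
  haveI := isReduced_grp T
  obtain ⟨A, _, _, _, eG, _⟩ := AGFRoot.SolvSch.exists_coords T
  obtain ⟨M, _, _, _, ζ, eS, _, hζ⟩ := AGFRoot.SolvSch.exists_zeta eG (𝟙 T) hT
  obtain ⟨ℓ, hℓp, hℓ⟩ := AGFRoot.SolvChar.exists_prime_ne_zero (k := k)
  -- points of order a power of `ℓ` are trivial
  have htriv : ∀ (t : Rat T) (n : ℕ), t ^ ℓ ^ n = 1 → t = 1 := fun t n ht => by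
    rw [← cancel_mono j, MonObj.one_comp]
    obtain ⟨y, hy⟩ := exists_rat_over p (t ≫ j)
    refine eq_one_of_unipotent _ (fun W hW hfin => ?_) (ℓ := ℓ ^ n) (by rw [Nat.cast_pow]; exact pow_ne_zero _ hℓ)
      (by rw [← MonObj.pow_comp, ht, MonObj.one_comp])
    have h := Unip.isNilpotent_rep_sub_one hU (resPi_regular (subPi_regular rPi W hW rPi_regular) p) y
    rwa [resPi_apply, hy] at h
  let φ := (AGFRoot.SolvSch.pts eG).comp (AGFRoot.Solv.theta ζ)
  have hφ : ∀ x, AGFRoot.SolvSch.pts eS (WithConv.toConv (AGFRoot.SolvChar.liftC x)) = φ x := fun x =>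
    (Category.comp_id _).symm.trans (AGFRoot.SolvSch.pts_comp eG hζ x)
  have hM : ∀ χ : M, χ = 1 := by
    by_contra h
    push Not at h
    obtain ⟨χ, hχ⟩ := h
    obtain ⟨x, ⟨n, hn⟩, hxχ⟩ := AGFRoot.SolvChar.exists_tors_ne_one (k := k) hℓp hℓ hχ
    have h1 := htriv ((ptOne k).hom ≫ φ x) n (by
      rw [← MonObj.comp_pow, ← map_pow, show x ^ ℓ ^ n = 1 from hn, map_one, MonObj.comp_one])
    replace h1 : φ x = φ 1 := by rw [← cancel_epi (ptOne k).hom, h1, map_one, MonObj.comp_one]
    rw [← hφ, ← hφ] at h1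
    have h2 := congrArg (fun f : WithConv (MonoidAlgebra k M →ₐ[k] k) =>
      f.ofConv (MonoidAlgebra.single χ 1)) ((AGFRoot.SolvSch.pts_bijective eS).1 h1)
    simp only [AGFRoot.SolvChar.liftC_single, _root_.one_mul, MonoidHom.one_apply,
      Units.val_one] at h2
    exact hxχ (Units.ext h2)
  have h1 : (𝟙 T : T ⟶ T) = 1 := Unip.hom_ext_rat fun z => by
    obtain ⟨x, hx⟩ := AGFRoot.SolvSch.exists_pts_eq eS ((ptOne k).inv ≫ z)
    have hx1 : x = 1 := MonoidHom.ext fun χ => by rw [hM χ, map_one, map_one]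
    rw [hφ, hx1, map_one] at hx
    have hz : z = 1 := by rw [← cancel_epi (ptOne k).inv, ← hx, MonObj.comp_one]
    rw [Category.comp_id, MonObj.comp_one, hz]
  exact ⟨η[T].left, by simpa [Hom.one_def] using (congrArg CommaMorphism.left h1).symm, Over.w η[T]⟩

end Image

section Torus

variable {U : Over (Spec (CommRingCat.of k))} [GrpObj U] [IsAffine U.left] [Smooth U.hom]

/-- Homomorphisms from tori to groups without subtori are trivial. -/
theorem torus_hom_eq_one (hU : Red.HasNoSubtorus k U) {T : Over (Spec (CommRingCat.of k))} [GrpObj T]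
    (hT : Red.IsTorus T) (f : T ⟶ U) [IsMonHom f] : f = 1 := by
  obtain ⟨_, _⟩ := qc_grp U
  obtain ⟨Q, _, j, p, hj, hp, hjc, -, -, hpj, hQ⟩ := MaxTorusLib.exists_image_torus hT f
  haveI := hj; haveI := hjc; haveI := hp
  haveI : Mono j.left := inferInstance
  haveI : Mono j := Over.mono_of_mono_left j
  haveI : IsIso Q.hom := hU Q j hQ
  have hp1 : p = 1 := Over.OverMorphism.ext ((cancel_mono Q.hom).mp ((Over.w p).trans (Over.w (1 : T ⟶ Q)).symm))
  rw [← hpj, hp1, MonObj.one_comp]

/-- An extension of groups without subtori has no subtori. -/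
theorem hasNoSubtorus_ext {A B : Over (Spec (CommRingCat.of k))} [GrpObj A] [GrpObj B] (a : A ⟶ B) [IsMonHom a]
    [Mono a] (c : B ⟶ U) [IsMonHom c] (hA : Red.HasNoSubtorus k A) (hU : Red.HasNoSubtorus k U)
    (hker : ∀ {T : Over (Spec (CommRingCat.of k))} (x : T ⟶ B), x ≫ c = 1 → ∃ y : T ⟶ A, y ≫ a = x) :
    Red.HasNoSubtorus k B := by
  intro T _ j _ _ hT
  obtain ⟨y, hy⟩ := hker j (torus_hom_eq_one hU hT (j ≫ c))
  haveI : IsMonHom (y ≫ a) := by rw [hy]; infer_instance
  haveI : IsMonHom y := RedSub30.isMonHom_of_mono a y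
  haveI : Mono (y ≫ a) := by rw [hy]; infer_instance
  haveI : Mono y := mono_of_mono y a
  exact hA T y hT

end Torus

end Groth.Agent.Obs28
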