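import Groth.Agent.Obs28.Homog
import Groth.Agent.Obs28.ActPts
import Groth.Agent.Obs28.Criterion
import Groth.Agent.Obs28.RadBasic
import Groth.Agent.AGFRoot.ProjAct
import Groth.Agent.AGStr.Descend
import Mathlib.Algebra.Polynomial.Roots

/-! Limits of one-parameter subgroups in a closed orbit of lines. -/

universe u

open CategoryTheory MonoidalCategory CartesianMonoidalCategory MonObj GrpObj AlgebraicGeometry
open scoped TensorProduct

namespace Groth.Agent.Obs28.TorW

open GrpSchLib GrpSchLib.Kunneth AGFRoot GrpSchLib.ProjLine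

set_option linter.unusedSectionVars false
set_option linter.style.haveILetI false

variable {k : Type u} [Field k] [IsAlgClosed k] {G : Over (Spec (CommRingCat.of k))} [GrpObj G]
  [IsAffine G.left] [Smooth G.hom] {V : Type u} [AddCommGroup V] [Module k V] [Module.Finite k V]
  {π : Rat G →* (V ≃ₗ[k] V)}

/-- The matrix of a representation. -/
noncomputable def repMat (hπ : IsRegular π) {n : ℕ} (b : Module.Basis (Fin (n + 1)) k V)
    (x t : Fin (n + 1)) : Fn G := coeff hπ (b.coord x) (b t)

theorem pfn_repMat (hπ : IsRegular π) {n : ℕ} (b : Module.Basis (Fin (n + 1)) k V) (g : Rat G)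
    (x t : Fin (n + 1)) : pfn g (repMat hπ b x t) = b.repr (π g (b t)) x := pfn_coeff hπ _ _ g

theorem sum_repMat (hπ : IsRegular π) {n : ℕ} (b : Module.Basis (Fin (n + 1)) k V) (g : Rat G) (w : V)
    (x : Fin (n + 1)) : ∑ t, pfn g (repMat hπ b x t) * b.repr w t = b.repr (π g w) x := by
  conv_rhs => rw [← b.sum_repr w]
  simp only [pfn_repMat, map_sum, map_smul, Finsupp.coe_finsetSum, Finset.sum_apply, Finsupp.smul_apply, smul_eq_mul,
    _root_.mul_comm]

theorem isMatRep_repMat (hπ : IsRegular π) {n : ℕ} (b : Module.Basis (Fin (n + 1)) k V) :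
    ProjAct.IsMatRep (repMat hπ b) := by
  haveI := isReduced_grp G
  haveI : IsSeparated G.hom := GrpSchLib.AntiAffine.isSeparated_grp G
  haveI : IsAffine (G ⊗ G).left := inferInstanceAs (IsAffine (Limits.pullback G.hom G.hom))
  haveI : Smooth (G ⊗ G).hom := inferInstanceAs (Smooth (Limits.pullback.fst G.hom G.hom ≫ G.hom))
  haveI : IsReduced (G ⊗ G).left := GrpSchLib.isReduced_of_smooth_field (G ⊗ G).hom
  refine ⟨fun T g h x t => ?_, fun T x t => ?_⟩
  · have key : ev (fst G G * snd G G) (repMat hπ b x t) =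
        ∑ s, ev (fst G G) (repMat hπ b x s) * ev (snd G G) (repMat hπ b s t) := ext_pts fun w => by
      simp only [map_sum, map_mul, ← pfn_comp, MonObj.comp_mul]
      simp only [pfn_repMat hπ b (w ≫ snd G G), sum_repMat]
      rw [pfn_repMat, map_mul, LinearEquiv.mul_apply]
    have := congrArg (ev (lift g h)) key
    simp only [ev_ev, map_sum, map_mul, MonObj.comp_mul, lift_fst, lift_snd] at this
    exact this
  · haveI : IsReduced (𝟙_ (Over (Spec (CommRingCat.of k)))).left :=
      inferInstanceAs (IsReduced (Spec (CommRingCat.of k)))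
    haveI : LocallyOfFiniteType (𝟙_ (Over (Spec (CommRingCat.of k)))).hom :=
      inferInstanceAs (LocallyOfFiniteType (𝟙 (Spec (CommRingCat.of k))))
    have key : ev (1 : 𝟙_ _ ⟶ G) (repMat hπ b x t) = algebraMap k _ (if x = t then 1 else 0) := ext_pts fun w => by
      rw [← pfn_comp, MonObj.comp_one, pfn_repMat, map_one, AlgHom.commutes]
      show b.repr (b t) x = _
      simp [Finsupp.single_apply, eq_comm]
    have := congrArg (ev (toUnit T)) key
    rw [ev_ev, MonObj.comp_one, AlgHom.commutes] at this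
    rw [this]
    split <;> simp

variable {B Y : Over (Spec (CommRingCat.of k))} [GrpObj B] [IsAffine B.left] [Smooth B.hom] {i : B ⟶ G} [IsMonHom i]
  [IsClosedImmersion i.left] {a : AlgGrp.Action G Y} {o : 𝟙_ (Over (Spec (CommRingCat.of k))) ⟶ Y}

/-- The coordinates of a vector on a base. -/
noncomputable def constVec {n : ℕ} (b : Module.Basis (Fin (n + 1)) k V) (w : V)
    (T : Over (Spec (CommRingCat.of k))) (l : Fin (n + 1)) : Fn T := algebraMap k (Fn T) (b.repr w l)

theorem ev_constVec {n : ℕ} (b : Module.Basis (Fin (n + 1)) k V) (w : V)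
    {T R : Over (Spec (CommRingCat.of k))} (f : R ⟶ T) :
    (fun l => ev f (constVec b w T l)) = constVec b w R := funext fun _ => AlgHom.commutes _ _

theorem moveVec_constVec (hπ : IsRegular π) {n : ℕ} (b : Module.Basis (Fin (n + 1)) k V) (w : V) (g : Rat G)
    (x : Fin (n + 1)) :
    pfn (𝟙 (VecGrp.pt k k)) (ProjAct.moveVec (repMat hπ b) g (constVec b w (VecGrp.pt k k)) x) =
      b.repr (π g w) x := by
  simp only [ProjAct.moveVec, constVec, map_sum, map_mul, AlgHom.commutes, ← pfn_comp, Category.id_comp,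
    Algebra.algebraMap_self, RingHom.id_apply, sum_repMat]

/-- The orbit of an eigenline of a subgroup with proper quotient is closed in projective space. -/
theorem exists_orbit_closed (hY : AGF.IsQuotient i Y a o) [IsProper Y.hom] (hπ : IsRegular π) {n : ℕ}
    (b : Module.Basis (Fin (n + 1)) k V) {v : V} (hv : v ≠ 0) (hstab : ∀ x : Rat B, ∃ c : k, π (x ≫ i) v = c • v) :
    ∃ orb : G ⟶ Pn k n, IsClosed (Set.range orb.left) ∧ ∀ g : Rat G,
      ProjAct.IsLine (g ≫ orb) (ProjAct.moveVec (repMat hπ b) g (constVec b v _)) := by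
  obtain ⟨act, hact⟩ := ProjAct.exists_action (isMatRep_repMat hπ b)
  obtain ⟨x₁, hx₁⟩ : ∃ x, b.repr v x ≠ 0 := by
    by_contra h
    push Not at h
    exact hv (b.repr.injective (Finsupp.ext fun l => by rw [h l, map_zero, Finsupp.zero_apply]))
  have hun : ∀ T : Over (Spec (CommRingCat.of k)), ProjAct.Unimodular (constVec b v T) := fun T =>
    ProjAct.unimodular_of_isUnit (i := x₁) ((isUnit_iff_ne_zero.mpr hx₁).map (algebraMap k (Fn T)))
  obtain ⟨x₀, hx₀⟩ := ProjAct.exists_isLine _ (hun (𝟙_ _))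
  let orb : G ⟶ Pn k n := act.orbitMap x₀
  have hline : ∀ {T : Over (Spec (CommRingCat.of k))} (g : T ⟶ G),
      ProjAct.IsLine (g ≫ orb) (ProjAct.moveVec (repMat hπ b) g (constVec b v T)) := fun {T} g => by
    rw [show g ≫ orb = lift g (toUnit T ≫ x₀) ≫ act.act from ActPts.comp_orbitMap act g x₀]
    refine hact T g _ _ ?_
    rw [← ev_constVec b v (toUnit T)]
    exact hx₀.comp (toUnit T)
  have hB : i ≫ orb = toUnit B ≫ x₀ := by
    have h2 := hx₀.comp (toUnit B)
    rw [ev_constVec] at h2
    refine (hline i).eq_of_cross h2 fun x y => ?_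
    haveI := isReduced_grp B
    refine ext_pts fun z => ?_
    obtain ⟨c, hc⟩ := hstab z
    simp only [ProjAct.moveVec, constVec, map_mul, map_sum, AlgHom.commutes, ← pfn_comp, Algebra.algebraMap_self,
      RingHom.id_apply, sum_repMat, hc, map_smul, Finsupp.smul_apply, smul_eq_mul]
    ring
  obtain ⟨hYl, hYf, hYs, hYp⟩ := hY
  haveI := hYl; haveI := hYf; haveI := hYs
  haveI : QuasiCompact G.hom := (qc_grp G).1
  haveI : QuasiCompact (a.orbitMap o).left := AGStr.quasiCompact_left (a.orbitMap o)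
  obtain ⟨ν, hν⟩ := AGStr.exists_desc (a.orbitMap o) orb fun T g₁ g₂ e => by
    let w := hYp.lift g₁ g₂ e
    have h2 : g₁ * ((w ≫ snd G B) ≫ i) = g₂ := by
      have h3 := hYp.lift_snd g₁ g₂ e
      have h4 := hYp.lift_fst g₁ g₂ e
      change w ≫ _ = _ at h3 h4
      rw [← lift_comp_fst_snd w, h4, lift_whiskerLeft_assoc, ← Hom.mul_def] at h3
      exact h3
    rw [← h2]
    simp only [orb, ActPts.comp_orbitMap, ActPts.act_mul]
    congr 2
    rw [← ActPts.comp_orbitMap, Category.assoc (w ≫ snd G B) i]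
    change _ = (w ≫ snd G B) ≫ i ≫ orb
    rw [hB, ← Category.assoc (w ≫ snd G B), comp_toUnit]
  refine ⟨orb, ?_, fun g => hline g⟩
  haveI := ProjAct.isProper_Pn (k := k) (n := n)
  haveI : IsProper (ν.left ≫ (Pn k n).hom) := by rw [Over.w ν]; infer_instance
  haveI : IsProper ν.left := IsProper.of_comp ν.left (Pn k n).hom
  rw [← hν, Over.comp_left, Scheme.Hom.comp_base, TopCat.coe_comp, Set.range_comp,
    Set.range_eq_univ.mpr (a.orbitMap o).left.surjective, Set.image_univ]
  exact ν.left.isClosedMap.isClosed_range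

/-- The lowest component of a line in a closed orbit lies in the orbit. -/
theorem exists_lowest (hY : AGF.IsQuotient i Y a o) [IsProper Y.hom] (hπ : IsRegular π) {v : V} (hv : v ≠ 0)
    (hstab : ∀ x : Rat B, ∃ c : k, π (x ≫ i) v = c • v) {J : Type u} [Fintype J] (bJ : Module.Basis J k V) (m : J → ℤ)
    (op : kˣ → Rat G) (hop : ∀ s j, π (op s) (bJ j) = ((s ^ m j : kˣ) : k) • bJ j) (g : Rat G) (j₀ : J)
    (hj₀ : bJ.repr (π g v) j₀ ≠ 0) (hmin : ∀ j, bJ.repr (π g v) j ≠ 0 → m j₀ ≤ m j) :
    ∃ (g' : Rat G) (c : k), c ≠ 0 ∧ ∀ j, bJ.repr (π g' v) j = if m j = m j₀ then c * bJ.repr (π g v) j else 0 := by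
  classical
  haveI : Nonempty J := ⟨j₀⟩
  obtain ⟨n, hn⟩ := Nat.exists_eq_succ_of_ne_zero (Fintype.card_ne_zero (α := J))
  let eJ : J ≃ Fin (n + 1) := Fintype.equivFinOfCardEq hn
  let b := bJ.reindex eJ
  obtain ⟨orb, hcl, horb⟩ := exists_orbit_closed hY hπ b hv hstab
  let P := VecGrp.pt k (Polynomial k)
  let c₀ : Fin (n + 1) → k := fun x => b.repr (π g v) x
  let mx : Fin (n + 1) → ℤ := fun x => m (eJ.symm x)
  let qx : Fin (n + 1) → Polynomial k := fun x => Polynomial.C (c₀ x) * Polynomial.X ^ (mx x - m j₀).toNat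
  obtain ⟨fx, hfx⟩ : ∃ fx : Fin (n + 1) → Fn P, ∀ x, pfn (X := P) (B := Polynomial k) (𝟙 P) (fx x) = qx x :=
    ⟨fun x => (Scheme.ΓSpecIso (CommRingCat.of (Polynomial k))).inv (qx x), fun x =>
      show (Scheme.ΓSpecIso (CommRingCat.of (Polynomial k))).hom
          ((Scheme.ΓSpecIso (CommRingCat.of (Polynomial k))).inv (qx x)) = qx x from
        congrFun (congrArg (fun f => ⇑(CommRingCat.Hom.hom f)) (Scheme.ΓSpecIso (CommRingCat.of (Polynomial k))).inv_hom_id) (qx x)⟩
  have hpbij : Function.Bijective (pfn (X := P) (B := Polynomial k) (𝟙 P)) := by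
    have e : ∀ f : Fn P, pfn (X := P) (B := Polynomial k) (𝟙 P) f =
        (Scheme.ΓSpecIso (CommRingCat.of (Polynomial k))).hom f := fun f => by
      show (Scheme.ΓSpecIso (CommRingCat.of (Polynomial k))).hom ((𝟙 P : P ⟶ P).left.appTop f) = _
      simp [P]
    rw [show ⇑(pfn (X := P) (B := Polynomial k) (𝟙 P)) =
      (Scheme.ΓSpecIso (CommRingCat.of (Polynomial k))).hom from funext e]
    exact ConcreteCategory.bijective_of_isIso _
  have hj0x : c₀ (eJ j₀) ≠ 0 := by simpa [c₀, b] using hj₀
  have hunit : IsUnit (fx (eJ j₀)) := by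
    have h1 : IsUnit (qx (eJ j₀)) := by
      simp only [qx, mx, Equiv.symm_apply_apply, sub_self, Int.toNat_zero, pow_zero, _root_.mul_one,
        Polynomial.isUnit_C]
      exact isUnit_iff_ne_zero.mpr hj0x
    rw [← hfx] at h1
    exact (isUnit_map_iff (AlgEquiv.ofBijective _ hpbij) _).mp h1
  obtain ⟨p, hp⟩ := ProjAct.exists_isLine fx (ProjAct.unimodular_of_isUnit hunit)
  let pt : k → Rat P := fun s => VecGrp.ptMap (Polynomial.aeval (R := k) s) ≫ 𝟙 P
  have hptv : ∀ s f, pfn (pt s) f = (pfn (X := P) (B := Polynomial k) (𝟙 P) f).eval s := fun s f => by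
    simp only [pt]
    rw [pfn_ptMap, ← Polynomial.coe_aeval_eq_eval]
    rfl
  have hunitline : ∀ z : Rat P, ProjAct.IsLine (z ≫ p) (fun l => ev z (fx l)) := fun z => hp.comp z
  -- away from the origin the curve lies in the orbit
  have hin : ∀ s : kˣ, pt (s : k) ≫ p = (op s * g) ≫ orb := fun s => by
    refine (hunitline _).eq_of_cross (horb _) fun x y => ?_
    refine (ConcreteCategory.bijective_of_isIso (Scheme.ΓSpecIso (CommRingCat.of k)).hom).1 ?_
    have hA : ∀ f, pfn (𝟙 (VecGrp.pt k k)) (ev (pt (s : k)) f) = pfn (pt (s : k)) f := fun f => by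
      rw [← pfn_comp, Category.id_comp]
    have hB' : ∀ x, b.repr (π (op s * g) v) x = ((s ^ mx x : kˣ) : k) * c₀ x := fun x => by
      have h1 : π (op s * g) v = ∑ j, (((s ^ m j : kˣ) : k) * bJ.repr (π g v) j) • bJ j := by
        rw [map_mul, LinearEquiv.mul_apply]
        conv_lhs => rw [← bJ.sum_repr (π g v)]
        simp only [map_sum, map_smul, hop, smul_smul, _root_.mul_comm]
      rw [h1]
      simp only [b, c₀, mx, Module.Basis.repr_reindex_apply, map_sum, map_smul, Finsupp.coe_finsetSum, Finset.sum_apply,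
        Finsupp.smul_apply, smul_eq_mul, Module.Basis.repr_self, Finsupp.single_apply, mul_ite, _root_.mul_one,
        mul_zero, Finset.sum_ite_eq', Finset.mem_univ, if_true]
    have hsplit : ∀ x, pfn (pt (s : k)) (fx x) = ((s ^ (-(m j₀)) : kˣ) : k) * b.repr (π (op s * g) v) x := fun x => by
      rw [hptv, hfx, hB']
      by_cases hc : c₀ x = 0
      · simp [qx, hc]
      · have hle : m j₀ ≤ mx x := hmin _ (by simpa [c₀, b] using hc)
        simp only [qx, Polynomial.eval_mul, Polynomial.eval_C, Polynomial.eval_pow, Polynomial.eval_X]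
        rw [← _root_.mul_assoc, ← Units.val_mul, ← zpow_add, neg_add_eq_sub, ← Int.toNat_of_nonneg (sub_nonneg.mpr hle),
          zpow_natCast, Units.val_pow_eq_pow_val, _root_.mul_comm]
        rw [Int.toNat_natCast]
    show pfn (𝟙 (VecGrp.pt k k)) _ = pfn (𝟙 (VecGrp.pt k k)) _
    rw [map_mul, map_mul, hA, hA, moveVec_constVec, moveVec_constVec, hsplit, hsplit]
    ring
  -- hence also at the origin
  have h0 : ptx (pt 0 ≫ p) ∈ Set.range orb.left := by
    by_contra h
    let U : TopologicalSpace.Opens P.left := ⟨p.left ⁻¹' (Set.range orb.left)ᶜ,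
      hcl.isOpen_compl.preimage p.left.continuous⟩
    haveI : IsAffine P.left := isAffine_Spec _
    obtain ⟨f, hfU, hf0⟩ := (isAffineOpen_top P.left).exists_basicOpen_le (V := U) ⟨ptx (pt 0), h⟩ trivial
    have key : ∀ y : Rat P, pfn y f ≠ 0 ↔ y.left.base (IsLocalRing.closedPoint k) ∈ P.left.basicOpen f := by
      intro y
      show _ ↔ IsLocalRing.closedPoint k ∈ y.left ⁻¹ᵁ P.left.basicOpen f
      rw [Scheme.preimage_basicOpen_top, ← isUnit_iff_ne_zero]
      constructor
      · intro hu
        have : IsUnit (y.left.appTop f) :=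
          (isUnit_map_iff (Scheme.ΓSpecIso (CommRingCat.of k)).commRingCatIsoToRingEquiv _).mp hu
        rw [(VecGrp.pt k k).left.basicOpen_of_isUnit this]
        trivial
      · intro hy
        refine isUnit_iff_ne_zero.mpr fun h0 => ?_
        have h1 : y.left.appTop f = 0 :=
          (Scheme.ΓSpecIso (CommRingCat.of k)).commRingCatIsoToRingEquiv.injective (h0.trans (map_zero _).symm)
        rw [h1, Scheme.basicOpen_zero] at hy
        exact hy
    have hzero : ∀ s : k, s ≠ 0 → (pfn (X := P) (B := Polynomial k) (𝟙 P) f).eval s = 0 := fun s hs => by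
      by_contra hne
      rw [← hptv] at hne
      have := hfU ((key _).mp hne)
      refine this ⟨ptx (op (Units.mk0 s hs) * g), ?_⟩
      show orb.left (ptx (op (Units.mk0 s hs) * g)) = p.left (ptx (pt s))
      rw [← ptx_comp, ← ptx_comp, ← hin]
      rfl
    have hq : pfn (X := P) (B := Polynomial k) (𝟙 P) f = 0 :=
      Polynomial.eq_zero_of_infinite_isRoot _
        (((Set.finite_singleton (0 : k)).infinite_compl).mono fun s hs => hzero s hs)
    refine (key (pt 0)).mpr hf0 ?_
    rw [hptv, hq, Polynomial.eval_zero]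
  haveI : LocallyOfFiniteType (Pn k n).hom := by
    haveI := ProjAct.isProper_Pn (k := k) (n := n)
    infer_instance
  obtain ⟨z, hz⟩ := h0
  obtain ⟨g', hg'⟩ := exists_rat (X := G) (Z := orb.left ⁻¹' {ptx (pt 0 ≫ p)}) ⟨z, hz⟩
    ((ActPts.isClosed_ptx _).preimage orb.left.continuous).isLocallyClosed
  have he : g' ≫ orb = pt 0 ≫ p := ActPts.rat_ext (by rw [ptx_comp]; exact hg')
  have hl := horb g'
  rw [he] at hl
  have hcross := hl.cross (hunitline (pt 0))
  let u : J → k := fun j => bJ.repr (π g' v) j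
  let w : J → k := fun j => if m j = m j₀ then bJ.repr (π g v) j else 0
  have hcr : ∀ j j', u j * w j' = u j' * w j := fun j j' => by
    have h := congrArg (pfn (𝟙 (VecGrp.pt k k))) (hcross (eJ j) (eJ j'))
    have hw : ∀ j, pfn (𝟙 (VecGrp.pt k k)) (ev (pt 0) (fx (eJ j))) = w j := fun j => by
      rw [← pfn_comp, Category.id_comp, hptv, hfx]
      simp only [qx, c₀, mx, b, w, Equiv.symm_apply_apply, Module.Basis.repr_reindex_apply, Polynomial.eval_mul,
        Polynomial.eval_C, Polynomial.eval_pow, Polynomial.eval_X]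
      by_cases hj : m j = m j₀
      · rw [if_pos hj, hj, sub_self, Int.toNat_zero, pow_zero, _root_.mul_one]
      · rw [if_neg hj]
        by_cases hc : bJ.repr (π g v) j = 0
        · rw [hc, zero_mul]
        · rw [zero_pow (by have := hmin j hc; omega), mul_zero]
    rw [map_mul, map_mul, moveVec_constVec, moveVec_constVec, hw, hw] at h
    simpa [u, b] using h
  have hu0 : u j₀ ≠ 0 := by
    intro h
    refine hv ?_
    refine (π g').injective (bJ.repr.injective (Finsupp.ext fun j => ?_))
    have hjj := hcr j₀ j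
    rw [h, zero_mul, eq_comm, mul_eq_zero] at hjj
    rcases hjj with h' | h'
    · rw [map_zero, map_zero, Finsupp.zero_apply]; exact h'
    · exact absurd h' (by simp [w, hj₀])
  refine ⟨g', u j₀ / bJ.repr (π g v) j₀, div_ne_zero hu0 hj₀, fun j => ?_⟩
  have hjj := hcr j j₀
  simp only [w, if_true] at hjj
  show u j = _
  by_cases hj : m j = m j₀
  · rw [if_pos hj] at hjj
    rw [if_pos hj]
    field_simp
    linear_combination hjj
  · rw [if_neg hj, mul_zero] at hjj
    rw [if_neg hj]
    exact (mul_eq_zero.mp hjj).resolve_right hj₀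

end Groth.Agent.Obs28.TorW
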