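import Groth.Agent.Obs28.RadBasic
import Groth.Agent.AlgGrpQ.Flag
import Groth.Agent.AGFRoot.SolvPts

/-! Connected groups without subtori are solvable. -/

universe u

open CategoryTheory MonoidalCategory CartesianMonoidalCategory MonObj GrpObj AlgebraicGeometry

namespace Groth.Agent.Obs28.RadM

open GrpSchLib.Kunneth

set_option linter.unusedSectionVars false
set_option linter.style.haveILetI false

variable {k : Type u} [Field k] [IsAlgClosed k]

/-- A group of unipotent endomorphisms of a finite-dimensional space is nilpotent. -/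
theorem isNilpotent_of_unipotent {V : Type u} [AddCommGroup V] [Module k V] [Module.Finite k V] {Γ : Type u} [Group Γ]
    (ρ : Γ →* Module.End k V) (hinj : Function.Injective ρ) (hu : ∀ g, IsNilpotent (ρ g - 1)) :
    Group.IsNilpotent Γ := by
  classical
  let step : Submodule k V → Submodule k V := fun U => ⨅ g, U.comap (ρ g - 1)
  let F : ℕ → Submodule k V := fun i => step^[i] ⊥
  have hF : ∀ i, F (i + 1) = step (F i) := fun i => Function.iterate_succ_apply' step i ⊥
  have hle : ∀ i, F i ≤ F (i + 1) := by
    intro i
    induction i with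
    | zero => exact bot_le
    | succ i ih =>
      intro v hv
      rw [hF] at hv ⊢
      simp only [step, Submodule.mem_iInf, Submodule.mem_comap] at hv ⊢
      exact fun g => ih (hv g)
  have hmono : Monotone F := monotone_nat_of_le_succ hle
  have hst : ∀ i g v, v ∈ F i → ρ g v ∈ F i := by
    intro i
    induction i with
    | zero => intro g v hv; obtain rfl : v = 0 := hv; simp
    | succ i ih =>
      intro g v hv
      have h1 : ρ g v - v ∈ F i := by
        rw [hF] at hv
        simp only [step, Submodule.mem_iInf, Submodule.mem_comap] at hv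
        exact hv g
      exact sub_add_cancel (ρ g v) v ▸ Submodule.add_mem _ (hle i h1) hv
  have hgrow : ∀ i, F i ≠ ⊤ → F i < F (i + 1) := by
    intro i hi
    refine lt_of_le_of_ne (hle i) fun he => ?_
    haveI : Nontrivial (V ⧸ F i) := Submodule.Quotient.nontrivial_iff.mpr hi
    let σ : Γ →* Module.End k (V ⧸ F i) :=
      { toFun := fun g => (F i).mapQ (F i) (ρ g) fun v hv => hst i g v hv
        map_one' := Submodule.linearMap_qext _ (LinearMap.ext fun v => by simp)
        map_mul' := fun g h => Submodule.linearMap_qext _ (LinearMap.ext fun v => by simp) }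
    obtain ⟨w, hw0, hw⟩ := Unip.exists_fixed_of_unipotent σ fun g => by
      obtain ⟨N, hN⟩ := hu g
      refine ⟨N, ?_⟩
      have e : ∀ (M : ℕ) (v : V), ((σ g - 1) ^ M) (Submodule.Quotient.mk v) =
          Submodule.Quotient.mk (((ρ g - 1) ^ M) v) := by
        intro M
        induction M with
        | zero => simp
        | succ M ih =>
          intro v
          rw [pow_succ, pow_succ, Module.End.mul_apply, Module.End.mul_apply, ← ih]
          simp [σ]
      exact Submodule.linearMap_qext _ (LinearMap.ext fun v => by simp [e, hN])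
    obtain ⟨v, rfl⟩ := Submodule.Quotient.mk_surjective _ w
    refine hw0 ((Submodule.Quotient.mk_eq_zero _).mpr (he.symm ▸ ?_))
    rw [hF]
    simp only [step, Submodule.mem_iInf, Submodule.mem_comap, LinearMap.sub_apply, Module.End.one_apply]
    exact fun g => (Submodule.Quotient.eq _).mp (hw g)
  have hrank : ∀ i, F i = ⊤ ∨ i ≤ Module.finrank k (F i) := by
    intro i
    induction i with
    | zero => exact Or.inr (Nat.zero_le _)
    | succ i ih =>
      by_cases h : F i = ⊤
      · exact Or.inl (eq_top_iff.mpr (h ▸ hle i))
      · refine Or.inr ?_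
        have h2 := Submodule.finrank_lt_finrank_of_lt (hgrow i h)
        rcases ih with h3 | h3
        · exact absurd h3 h
        · omega
  have htop : F (Module.finrank k V + 1) = ⊤ := by
    rcases hrank (Module.finrank k V + 1) with h | h
    · exact h
    · have := Submodule.finrank_le (F (Module.finrank k V + 1))
      omega
  refine AlgGrpQ.isNilpotent_of_faithful_fil (ρ := ρ) hmono rfl htop hinj fun g i v hv => ?_
  rw [hF] at hv
  simp only [step, Submodule.mem_iInf, Submodule.mem_comap] at hv
  exact hv g

/-- The restriction of a representation to a stable subspace, as endomorphisms. -/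
noncomputable def endRep {U : Over (Spec (CommRingCat.of k))} [GrpObj U] {M : Type u} [AddCommGroup M] [Module k M]
    (π : Rat U →* (M ≃ₗ[k] M)) : Rat U →* Module.End k M where
  toFun g := (π g).toLinearMap
  map_one' := by rw [map_one]; rfl
  map_mul' g h := by rw [map_mul]; rfl

theorem endRep_subPi_apply {U : Over (Spec (CommRingCat.of k))} [GrpObj U] {M : Type u} [AddCommGroup M] [Module k M]
    (π : Rat U →* (M ≃ₗ[k] M)) (W : Submodule k M) (hW : ∀ g, ∀ x ∈ W, π g x ∈ W) (g : Rat U) (x : W) :
    ((endRep (subPi π W hW) g x : W) : M) = π g x := rfl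

/-- The functions generating the coordinate ring span a faithful finite representation. -/
theorem exists_faithful (U : Over (Spec (CommRingCat.of k))) [GrpObj U] [IsAffine U.left] [Smooth U.hom] :
    ∃ (W : Submodule k (Fn U)) (hW : ∀ g, ∀ x ∈ W, rPi g x ∈ W), Module.Finite k W ∧
      Function.Injective (endRep (subPi rPi W hW)) := by
  classical
  haveI := finiteType_fn U
  haveI := isReduced_grp U
  obtain ⟨s, hs⟩ := (Algebra.FiniteType.out : (⊤ : Subalgebra k (Fn U)).FG)
  refine ⟨orbitSpan (rPi (G := U)) (s : Set (Fn U)), orbitSpan_stable _ _,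
    finite_orbitSpan rPi_regular s.finite_toSet, fun g h e => ?_⟩
  refine pfn_injective (AlgHom.ext_of_adjoin_eq_top hs fun f hf => ?_)
  have h0 := congrArg Subtype.val (LinearMap.congr_fun e ⟨f, subset_orbitSpan _ _ hf⟩)
  rw [endRep_subPi_apply, endRep_subPi_apply, rPi_apply, rPi_apply] at h0
  have h1 : rMap g f = rMap h f := h0
  have h2 := congrArg (pfn (1 : Rat U)) h1
  rwa [pfn_rMap', pfn_rMap', _root_.one_mul, _root_.one_mul] at h2

/-- A finite representation of a connected group without subtori is by unipotent endomorphisms. -/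
theorem isNilpotent_endRep {U : Over (Spec (CommRingCat.of k))} [GrpObj U] [IsAffine U.left] [Smooth U.hom]
    [ConnectedSpace U.left] (hU : Red.HasNoSubtorus k U) {V : Type u} [AddCommGroup V] [Module k V] [Module.Finite k V]
    {π : Rat U →* (V ≃ₗ[k] V)} (hπ : IsRegular π) (g : Rat U) : IsNilpotent (endRep π g - 1) :=
  Unip.isNilpotent_rep_sub_one hU hπ g

theorem isNilpotent_rat_of {U : Over (Spec (CommRingCat.of k))} [GrpObj U] [IsAffine U.left] [Smooth U.hom]
    [ConnectedSpace U.left] (hU : Red.HasNoSubtorus k U) {V : Type u} [AddCommGroup V] [Module k V] [Module.Finite k V]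
    {π : Rat U →* (V ≃ₗ[k] V)} (hπ : IsRegular π) (hinj : Function.Injective (endRep π)) :
    Group.IsNilpotent (Rat U) :=
  isNilpotent_of_unipotent (endRep π) hinj fun g => isNilpotent_endRep hU hπ g

/-- A faithful finite regular representation, abstractly. -/
theorem exists_faithful_rep (U : Over (Spec (CommRingCat.of k))) [GrpObj U] [IsAffine U.left] [Smooth U.hom] :
    ∃ (V : Type u) (_ : AddCommGroup V) (_ : Module k V) (_ : Module.Finite k V) (π : Rat U →* (V ≃ₗ[k] V)),
      IsRegular π ∧ Function.Injective (endRep π) := by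
  obtain ⟨W, hW, hfin, hinj⟩ := exists_faithful U
  exact ⟨W, W.addCommGroup, W.module, hfin, subPi (rPi (G := U)) W hW,
    subPi_regular (rPi (G := U)) W hW rPi_regular, hinj⟩

/-- The rational points of a connected group without subtori are nilpotent. -/
theorem isNilpotent_rat {U : Over (Spec (CommRingCat.of k))} [GrpObj U] [IsAffine U.left] [Smooth U.hom]
    [ConnectedSpace U.left] (hU : Red.HasNoSubtorus k U) : Group.IsNilpotent (Rat U) := by
  obtain ⟨V, _, _, _, π, hπ, hinj⟩ := exists_faithful_rep U
  exact isNilpotent_rat_of hU hπ hinj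

/-- A connected group without subtori is solvable. -/
theorem isSolvableGrp_of_noSub {U : Over (Spec (CommRingCat.of k))} [GrpObj U] [IsAffine U.left] [Smooth U.hom]
    [ConnectedSpace U.left] (hU : Red.HasNoSubtorus k U) : Red.IsSolvableGrp U := by
  haveI : Group.IsNilpotent (Rat U) := isNilpotent_rat hU
  haveI : Group.IsSolvable (𝟙_ (Over (Spec (CommRingCat.of k))) ⟶ U) :=
    Group.isSolvable_of_surjective
      (f := MonoidHom.mk' (fun g : Rat U => (ptOne k).inv ≫ g) fun g h => MonObj.comp_mul _ g h)
      fun x => ⟨(ptOne k).hom ≫ x, (ptOne k).inv_hom_id_assoc x⟩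
  exact AGFRoot.isSolvableGrp_of_points

end Groth.Agent.Obs28.RadM
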