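import Groth.Agent.Obs28.Extend
import Groth.Agent.GrpSchLib.ReducedPoints
import Mathlib.GroupTheory.Coset.Basic

/-! Open subgroups, subgroups of finite index, and transitivity of observability. -/

universe u

open CategoryTheory MonoidalCategory CartesianMonoidalCategory MonObj GrpObj AlgebraicGeometry
open scoped TensorProduct

namespace Groth.Agent.Obs28

open GrpSchLib.Kunneth

set_option linter.unusedSectionVars false
set_option linter.style.haveILetI false

variable {k : Type u} [Field k] [IsAlgClosed k] {G H K : Over (Spec (CommRingCat.of k))}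

/-- The image of the base point of a rational point. -/
noncomputable def ptx {X : Over (Spec (CommRingCat.of k))} (g : Rat X) : X.left :=
  g.left.base (IsLocalRing.closedPoint k)

theorem ptx_comp {X Y : Over (Spec (CommRingCat.of k))} (g : Rat X) (f : X ⟶ Y) :
    ptx (g ≫ f) = f.left.base (ptx g) := rfl

theorem exists_rat {X : Over (Spec (CommRingCat.of k))} [LocallyOfFiniteType X.hom] {Z : Set X.left}
    (hne : Z.Nonempty) (hZ : IsLocallyClosed Z) : ∃ g : Rat X, ptx g ∈ Z := by
  haveI : JacobsonSpace X.left := LocallyOfFiniteType.jacobsonSpace X.hom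
  obtain ⟨x, hx, hxc⟩ := nonempty_inter_closedPoints hne hZ
  obtain ⟨s, hs⟩ := GrpSchLib.exists_point_of_isClosed (K := k) X hxc
  exact ⟨s, by rw [ptx, hs]; exact hx⟩

theorem mem_iff_ptx (i : H ⟶ G) [IsOpenImmersion i.left] (g : Rat G) :
    Mem i g ↔ ptx g ∈ Set.range i.left.base := by
  refine ⟨fun ⟨h, hh⟩ => ⟨ptx h, by rw [← hh, ptx_comp]⟩, fun hg => ?_⟩
  have hr : Set.range g.left.base ⊆ Set.range i.left.base := by
    rintro _ ⟨q, rfl⟩
    rw [show q = IsLocalRing.closedPoint k from Subsingleton.elim (α := PrimeSpectrum k) _ _]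
    exact hg
  exact ⟨Over.homMk (IsOpenImmersion.lift i.left g.left hr) (by
      rw [← Over.w i, IsOpenImmersion.lift_fac_assoc, Over.w g]),
    Over.OverMorphism.ext (IsOpenImmersion.lift_fac _ _ _)⟩

variable [GrpObj G] [GrpObj H] [GrpObj K]

/-- An open subgroup is closed. -/
theorem isClosedImmersion_of_open [Smooth G.hom] (j : H ⟶ G) [IsMonHom j] [IsOpenImmersion j.left] :
    IsClosedImmersion j.left := by
  refine IsClosedImmersion.of_isPreimmersion j.left ?_
  set U := Set.range j.left.base with hUdef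
  have hU : IsOpen U := j.left.isOpenEmbedding.isOpen_range
  by_contra hnc
  obtain ⟨x, hx⟩ : (closure U \ U).Nonempty := by
    by_contra h
    exact hnc (closure_subset_iff_isClosed.mp fun y hy => by_contra fun hy' => h ⟨y, hy, hy'⟩)
  obtain ⟨g, hg⟩ := exists_rat (X := G) ⟨x, hx⟩
    ((isClosed_closure.sdiff hU).isLocallyClosed)
  let τ : G ⟶ G := 𝟙 G * cst g⁻¹
  have hτ : ∀ a : Rat G, a ≫ τ = a * g⁻¹ := fun a => by
    rw [MonObj.comp_mul, Category.comp_id, comp_cst, cst_pt]
  have hgN : ptx g ∈ τ.left.base ⁻¹' U := by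
    rw [Set.mem_preimage, ← ptx_comp, hτ, mul_inv_cancel]
    exact (mem_iff_ptx j 1).mp ⟨1, MonObj.one_comp j⟩
  obtain ⟨a, ha1, ha2⟩ := exists_rat (X := G)
    (mem_closure_iff.mp hg.1 _ (hU.preimage τ.left.base.hom.continuous) hgN)
    ((hU.preimage τ.left.base.hom.continuous).inter hU).isLocallyClosed
  rw [Set.mem_preimage, ← ptx_comp, hτ, ← mem_iff_ptx] at ha1
  rw [← mem_iff_ptx] at ha2
  obtain ⟨u, hu⟩ := ha1
  obtain ⟨w, hw⟩ := ha2
  refine hg.2 ((mem_iff_ptx j g).mp ⟨u⁻¹ * w, ?_⟩)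
  rw [MonObj.mul_comp, GrpObj.inv_comp, hu, hw]
  group

variable [IsAffine G.left] [Smooth G.hom] [IsAffine H.left] [Smooth H.hom] [IsAffine K.left] [Smooth K.hom]

/-- Observability passes to intermediate groups. -/
theorem observable_left (a : K ⟶ H) [IsMonHom a] (i : H ⟶ G) [IsMonHom i] [Mono i]
    (h : AGF.IsObservableIn k (a ≫ i)) : AGF.IsObservableIn k a := by
  rw [observable_iff] at h ⊢
  intro g hg
  obtain ⟨x, hx⟩ := h (g ≫ i) ((fix_iff (a ≫ i) _).mpr fun f hf => by
    rw [pfn_comp, ← MonObj.one_comp i, pfn_comp]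
    refine (fix_iff a g).mp hg _ fun y => ?_
    haveI := isReduced_grp H
    exact ext_pts fun w => by
      rw [pfn_rMap', ← pfn_comp, ← pfn_comp, MonObj.mul_comp, Category.assoc, ← pfn_rMap', hf y])
  exact ⟨x, (cancel_mono i).mp (by rw [Category.assoc]; exact hx)⟩

/-- Transitivity of observability. -/
theorem observable_comp (a : K ⟶ H) [IsMonHom a] [IsClosedImmersion a.left] (i : H ⟶ G) [IsMonHom i]
    [IsClosedImmersion i.left] (ha : AGF.IsObservableIn k a) (hi : AGF.IsObservableIn k i) :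
    AGF.IsObservableIn k (a ≫ i) := by
  obtain ⟨V, iV, iM, iF, π, hπ, v, hv⟩ := exists_stab_of_observable a ha
  obtain ⟨W, iW, iMW, iFW, ρ, φ, hφ, heq⟩ := extendsAlong_of_observable i hi (ofRat hπ)
  have heq' : ∀ (y : Rat H) (x : V), φ (π y x) = rep ρ (y ≫ i) (φ x) := fun y x => by
    have h2 := congrArg (TensorProduct.lid k W) (heq k y ((1 : k) ⊗ₜ[k] x))
    rw [rho_k_apply, LinearMap.baseChange_tmul, LinearMap.baseChange_tmul, rho_k_apply, TensorProduct.lid_tmul,
      TensorProduct.lid_tmul, one_smul, one_smul, rep_ofRat] at h2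
    exact h2
  rw [observable_iff]
  intro g hg
  obtain ⟨y, rfl⟩ : Mem i g := (observable_iff i).mp hi g ((fix_iff i g).mpr fun f hf =>
    (fix_iff (a ≫ i) g).mp hg f fun z => by rw [← Category.assoc]; exact hf (z ≫ a))
  have h2 := fixed_of_fix (a ≫ i) (rep_isRegular ρ) (v := φ v)
    (fun z => by rw [← Category.assoc, ← heq', (hv _).mpr ⟨z, rfl⟩]) hg
  rw [← heq'] at h2
  obtain ⟨z, hz⟩ := (hv y).mp (hφ h2)
  exact ⟨z, by rw [← Category.assoc, hz]⟩

/-- The rational points of an open subgroup have finite index. -/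
theorem finite_cosets (a : K ⟶ H) [IsMonHom a] [IsOpenImmersion a.left] :
    Finite (Rat H ⧸ (MonoidHom.mk' (fun y : Rat K => y ≫ a) fun y z => MonObj.mul_comp y z a).range) := by
  let U : Rat H → Set H.left := fun b => (cst b⁻¹ * 𝟙 H : H ⟶ H).left.base ⁻¹' Set.range a.left.base
  have hU : ∀ b, IsOpen (U b) := fun b =>
    a.left.isOpenEmbedding.isOpen_range.preimage (cst b⁻¹ * 𝟙 H : H ⟶ H).left.base.hom.continuous
  have hmem : ∀ b x, ptx x ∈ U b ↔ Mem a (b⁻¹ * x) := fun b x => by
    rw [Set.mem_preimage, ← ptx_comp, MonObj.comp_mul, Category.comp_id, comp_cst, cst_pt, mem_iff_ptx]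
  have hcov : Set.univ ⊆ ⋃ b, U b := by
    by_contra hne
    obtain ⟨x, -, hx⟩ := Set.not_subset.mp hne
    obtain ⟨y, hy⟩ := exists_rat (X := H) (Z := (⋃ b, U b)ᶜ) ⟨x, hx⟩
      (isOpen_iUnion hU).isClosed_compl.isLocallyClosed
    exact hy (Set.mem_iUnion.mpr ⟨y, (hmem y y).mpr (by rw [inv_mul_cancel]; exact Mem.one a)⟩)
  haveI : CompactSpace H.left := inferInstance
  obtain ⟨t, ht⟩ := isCompact_univ.elim_finite_subcover U hU hcov
  refine Finite.of_surjective (fun b : t => QuotientGroup.mk (b : Rat H)) fun q => ?_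
  obtain ⟨x, rfl⟩ := QuotientGroup.mk_surjective q
  obtain ⟨b, hb, hxb⟩ := Set.mem_iUnion₂.mp (ht (Set.mem_univ (ptx x)))
  exact ⟨⟨b, hb⟩, QuotientGroup.eq.mpr ((hmem b x).mp hxb)⟩

/-- Observability does not change on open subgroups of the subgroup. -/
theorem observable_of_open_sub (a : K ⟶ H) [IsMonHom a] [IsOpenImmersion a.left] (i : H ⟶ G) [IsMonHom i]
    (hK : AGF.IsObservableIn k (a ≫ i)) : AGF.IsObservableIn k i := by
  classical
  haveI := isReduced_grp G
  let S := (MonoidHom.mk' (fun y : Rat K => y ≫ a) fun y z => MonObj.mul_comp y z a).range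
  haveI : Finite (Rat H ⧸ S) := finite_cosets a
  haveI := Fintype.ofFinite (Rat H ⧸ S)
  rw [observable_iff]
  intro g hg
  by_contra hgm
  have hall : ∀ q : Rat H ⧸ S, ∃ f : Fn G, Inv' (a ≫ i) f ∧ pfn g f ≠ pfn (q.out ≫ i) f := fun q => by
    by_contra h
    push Not at h
    obtain ⟨z, hz⟩ := (observable_iff (a ≫ i)).mp hK _ (fix_of_agree (a ≫ i) h)
    refine hgm ⟨q.out * (z ≫ a)⁻¹, ?_⟩
    rw [MonObj.mul_comp, GrpObj.inv_comp, Category.assoc, hz]
    group
  choose f hf hne using hall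
  let F := ∏ q, (f q - algebraMap k (Fn G) (pfn (q.out ≫ i) (f q)))
  have hFg : pfn g F ≠ 0 := by
    rw [map_prod, Finset.prod_ne_zero_iff]
    intro q _
    rw [map_sub, AlgHom.commutes, sub_ne_zero]
    exact hne q
  have hFinv : ∀ y : Rat K, rMap ((y ≫ a) ≫ i) F = F := fun y => by
    rw [map_prod]
    refine Finset.prod_congr rfl fun q _ => ?_
    rw [map_sub, AlgHom.commutes, Category.assoc, hf q y]
  have hFh : ∀ q : Rat H ⧸ S, pfn (q.out ≫ i) F = 0 := fun q => by
    rw [map_prod, Finset.prod_eq_zero_iff]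
    exact ⟨q, Finset.mem_univ _, by rw [map_sub, AlgHom.commutes]; exact sub_self _⟩
  let Φ : Rat H ⧸ S → Fn G := fun q => rMap (q.out ≫ i) F
  have hΦ : ∀ x : Rat H, rMap (x ≫ i) F = Φ (QuotientGroup.mk x) := fun x => by
    obtain ⟨⟨_, y, rfl⟩, hy⟩ := QuotientGroup.mk_out_eq_mul S x
    show _ = rMap (_ ≫ i) F
    rw [hy]
    refine ext_pts fun w => ?_
    rw [pfn_rMap', pfn_rMap']
    show pfn (w * (x ≫ i)) F = pfn (w * ((x * (y ≫ a)) ≫ i)) F
    rw [MonObj.mul_comp, ← _root_.mul_assoc, ← pfn_rMap' _ ((y ≫ a) ≫ i), hFinv]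
  let t := pfn g F
  let N := ∏ q, (algebraMap k (Fn G) t - Φ q)
  have hN : Inv' i N := fun y => by
    rw [map_prod]
    refine Fintype.prod_equiv (MulAction.toPerm y) _ _ fun q => ?_
    rw [map_sub, AlgHom.commutes]
    congr 1
    have e : MulAction.toPerm y q = QuotientGroup.mk (y * q.out) := by
      conv_lhs => rw [← QuotientGroup.out_eq' q]
      rfl
    rw [e, ← hΦ]
    exact ext_pts fun w => by rw [pfn_rMap', pfn_rMap', pfn_rMap', MonObj.mul_comp, _root_.mul_assoc]
  have h1 : pfn (1 : Rat G) N ≠ 0 := by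
    rw [map_prod, Finset.prod_ne_zero_iff]
    intro q _
    rw [map_sub, AlgHom.commutes, pfn_rMap', _root_.one_mul, hFh, sub_zero]
    exact hFg
  refine h1 ?_
  rw [← (fix_iff i g).mp hg N hN, map_prod, Finset.prod_eq_zero_iff]
  refine ⟨QuotientGroup.mk 1, Finset.mem_univ _, ?_⟩
  rw [map_sub, AlgHom.commutes, ← hΦ, pfn_rMap', MonObj.one_comp, _root_.mul_one]
  exact sub_self _

/-- Invariance of observability under open subgroups. -/
theorem observable_open_sub_iff (a : K ⟶ H) [IsMonHom a] [IsOpenImmersion a.left] (i : H ⟶ G) [IsMonHom i]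
    [IsClosedImmersion i.left] : AGF.IsObservableIn k (a ≫ i) ↔ AGF.IsObservableIn k i := by
  haveI := isClosedImmersion_of_open a
  exact ⟨observable_of_open_sub a i, observable_comp a i (observable_of_open a)⟩

/-- Observability in an open subgroup. -/
theorem observable_in_open_iff (a : K ⟶ H) [IsMonHom a] [IsClosedImmersion a.left] (i : H ⟶ G) [IsMonHom i]
    [IsOpenImmersion i.left] : AGF.IsObservableIn k (a ≫ i) ↔ AGF.IsObservableIn k a := by
  haveI := isClosedImmersion_of_open i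
  haveI : Mono i := (Over.forget _).mono_of_mono_map (inferInstanceAs (Mono i.left))
  exact ⟨observable_left a i, fun h => observable_comp a i h (observable_of_open i)⟩

end Groth.Agent.Obs28
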