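import Groth.Agent.Obs28.TorusBorel
import Groth.Agent.Obs28.ProjLimit
import Groth.Agent.Obs28.RadSolv
import Groth.Agent.Obs28.SolvObs
import Groth.Agent.AGStr.Chev.Subgroup

/-! A character trivial on the radical of a connected group is trivial. -/

universe u

open CategoryTheory MonoidalCategory CartesianMonoidalCategory MonObj GrpObj AlgebraicGeometry
open scoped TensorProduct

namespace Groth.Agent.Obs28.TorW

open GrpSchLib.Kunneth

set_option linter.unusedSectionVars false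
set_option linter.style.haveILetI false

variable {k : Type u} [Field k] [IsAlgClosed k] {G : Over (Spec (CommRingCat.of k))} [GrpObj G]
  [IsAffine G.left] [Smooth G.hom] {r : ℕ} {τ : (Fin r → kˣ) →* Rat G}

/-- The normalizer of the image of a torus. -/
def InNorm (τ : (Fin r → kˣ) →* Rat G) (n : Rat G) : Prop :=
  ∀ y ∈ τ.range, n⁻¹ * y * n ∈ τ.range ∧ n * y * n⁻¹ ∈ τ.range

theorem InNorm.one : InNorm τ (1 : Rat G) := fun y hy => by simp [hy]

theorem InNorm.inv {n : Rat G} (h : InNorm τ n) : InNorm τ n⁻¹ := fun y hy => by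
  rw [_root_.inv_inv]; exact ⟨(h y hy).2, (h y hy).1⟩

theorem InNorm.mul {n n' : Rat G} (h : InNorm τ n) (h' : InNorm τ n') : InNorm τ (n * n') := fun y hy =>
  ⟨by have := (h' _ (h y hy).1).1; simpa [_root_.mul_assoc] using this,
   by have := (h _ (h' y hy).2).2; simpa [_root_.mul_assoc] using this⟩

/-- The standard one-parameter subgroup in the direction `i`. -/
noncomputable def dir (τ : (Fin r → kˣ) →* Rat G) (i : Fin r) (s : kˣ) : Rat G :=
  τ (Pi.mulSingle (M := fun _ : Fin r => kˣ) i s)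

/-- The conjugates of a one-parameter subgroup under the normalizer. -/
def orbitSet (τ : (Fin r → kˣ) →* Rat G) (i : Fin r) : Set (kˣ → Rat G) :=
  {φ | ∃ n, InNorm τ n ∧ φ = fun s => n * dir τ i s * n⁻¹}

section Rep

variable (hτ : IsAlg τ) {V : Type u} [AddCommGroup V] [Module k V] [Module.Finite k V]
  {π : Rat G →* (V ≃ₗ[k] V)} (hπ : IsRegular π)

include hτ hπ

/-- Translates of weight vectors by the normalizer are eigenvectors of the conjugate subgroups. -/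
theorem exists_conj_exponent {i : Fin r} {φ : kˣ → Rat G} (hφ : φ ∈ orbitSet τ i) {u : V} {d : Fin r → ℤ}
    (hu : ∀ x, π (τ x) u = (pw d x : k) • u) : ∃ m : ℤ, ∀ s, π (φ s) u = ((s ^ m : kˣ) : k) • u := by
  obtain ⟨n, hn, rfl⟩ := hφ
  by_cases hu0 : u = 0
  · exact ⟨0, fun s => by simp [hu0]⟩
  obtain ⟨J, _, b, dJ, hb⟩ := exists_weight_basis hτ hπ
  let w := π n⁻¹ u
  obtain ⟨j, hj⟩ : ∃ j, b.repr w j ≠ 0 := by
    by_contra h
    push Not at h
    refine hu0 ((π n⁻¹).injective ?_)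
    rw [map_zero]
    exact b.repr.injective (Finsupp.ext fun j => by rw [map_zero]; exact h j)
  refine ⟨dJ j i, fun s => ?_⟩
  obtain ⟨y, hy⟩ := (hn (dir τ i s) ⟨_, rfl⟩).2
  have h1 : π (dir τ i s) w = (pw d y : k) • w := by
    have e : dir τ i s * n⁻¹ = n⁻¹ * τ y := by rw [hy]; group
    show π (dir τ i s) (π n⁻¹ u) = _
    rw [← LinearEquiv.mul_apply, ← map_mul, e, map_mul, LinearEquiv.mul_apply, hu, map_smul]
  have h2 := eigenvalue_eq b (π (dir τ i s)).toLinearMap (ev := fun j => (pw (dJ j) (Pi.mulSingle i s) : k))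
    (fun j => hb _ j) h1 hj
  rw [← pw_single, h2, ← hu, hy]

omit hτ hπ in
/-- Weights of eigenlines. -/
theorem exists_weight {J : Type u} [Fintype J] (b : Module.Basis J k V) {dJ : J → Fin r → ℤ}
    (hb : ∀ x j, π (τ x) (b j) = (pw (dJ j) x : k) • b j) {v : V} (hv : v ≠ 0)
    (hline : ∀ x, ∃ c : k, π (τ x) v = c • v) : ∃ d : Fin r → ℤ, ∀ x, π (τ x) v = (pw d x : k) • v := by
  obtain ⟨j, hj⟩ : ∃ j, b.repr v j ≠ 0 := by
    by_contra h
    push Not at h
    exact hv (b.repr.injective (Finsupp.ext fun j => by rw [map_zero]; exact h j))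
  refine ⟨dJ j, fun x => ?_⟩
  obtain ⟨c, hc⟩ := hline x
  rw [hc, eigenvalue_eq b (π (τ x)).toLinearMap (ev := fun j => (pw (dJ j) x : k)) (fun j => hb x j) hc hj]

end Rep

/-- The orbit of a one-parameter subgroup under the normalizer is finite. -/
theorem finite_orbitSet (hτ : IsAlg τ) (i : Fin r) : (orbitSet τ i).Finite := by
  classical
  obtain ⟨V, _, _, _, π, hπ, hinj⟩ := RadM.exists_faithful_rep G
  obtain ⟨J, _, b, d, hb⟩ := exists_weight_basis hτ hπ
  let W : (J → J) → Set (kˣ → Rat G) := fun f => {φ ∈ orbitSet τ i |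
    ∀ s j, π (φ s) (b j) = ((s ^ d (f j) i : kˣ) : k) • b j}
  refine (Set.finite_iUnion (f := W) fun f => Set.Subsingleton.finite ?_).subset ?_
  · rintro φ ⟨-, hφ⟩ φ' ⟨-, hφ'⟩
    funext s
    refine hinj (b.ext fun j => ?_)
    show π (φ s) (b j) = π (φ' s) (b j)
    rw [hφ, hφ']
  · intro φ hφ
    obtain ⟨n, hn, rfl⟩ := hφ
    have hex : ∀ j, ∃ j', ∀ s, π (n * dir τ i s * n⁻¹) (b j) = ((s ^ d j' i : kˣ) : k) • b j := by
      intro j
      let w := π n⁻¹ (b j)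
      obtain ⟨j', hj'⟩ : ∃ j', b.repr w j' ≠ 0 := by
        by_contra h
        push Not at h
        refine b.ne_zero j ((π n⁻¹).injective ?_)
        rw [map_zero]
        exact b.repr.injective (Finsupp.ext fun j => by rw [map_zero]; exact h j)
      refine ⟨j', fun s => ?_⟩
      obtain ⟨y, hy⟩ := (hn (dir τ i s) ⟨_, rfl⟩).2
      have h1 : π (dir τ i s) w = (pw (d j) y : k) • w := by
        have e : dir τ i s * n⁻¹ = n⁻¹ * τ y := by rw [hy]; group
        show π (dir τ i s) (π n⁻¹ (b j)) = _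
        rw [← LinearEquiv.mul_apply, ← map_mul, e, map_mul, LinearEquiv.mul_apply, hb, map_smul]
      have h2 := eigenvalue_eq b (π (dir τ i s)).toLinearMap (ev := fun l => (pw (d l) (Pi.mulSingle i s) : k))
        (fun l => hb _ l) h1 hj'
      rw [← pw_single, h2, ← hb, hy]
    choose f hf using hex
    exact Set.mem_iUnion.mpr ⟨f, ⟨n, hn, rfl⟩, fun s j => hf j s⟩

/-- A weight of a product. -/
theorem pw_prod {α : Type*} (d : Fin r → ℤ) (s : Finset α) (y : α → Fin r → kˣ) :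
    pw d (∏ φ ∈ s, y φ) = ∏ φ ∈ s, pw d (y φ) := map_prod (pw d) y s

theorem zpow_sum_units {α : Type*} (x : kˣ) (s : Finset α) (m : α → ℤ) :
    ∏ φ ∈ s, x ^ m φ = x ^ ∑ φ ∈ s, m φ := by
  classical
  induction s using Finset.induction_on with
  | empty => simp
  | insert a t ha ih => rw [Finset.prod_insert ha, Finset.sum_insert ha, ih, zpow_add]

/-- The invariant one-parameter subgroup has exponents on weight vectors. -/
theorem exists_mu_exponent (hτ : IsAlg τ) {V : Type u} [AddCommGroup V] [Module k V] [Module.Finite k V]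
    {π : Rat G →* (V ≃ₗ[k] V)} (hπ : IsRegular π) {i : Fin r} {S : Finset (kˣ → Rat G)}
    (hS : ∀ φ ∈ S, φ ∈ orbitSet τ i) {y : (kˣ → Rat G) → kˣ → Fin r → kˣ} (hy : ∀ φ ∈ S, ∀ s, τ (y φ s) = φ s)
    {u : V} (hu0 : u ≠ 0) {d : Fin r → ℤ} (hu : ∀ x, π (τ x) u = (pw d x : k) • u) :
    ∃ m : ℤ, ∀ s, pw d (∏ φ ∈ S, y φ s) = s ^ m := by
  classical
  choose m hm using fun φ : S => exists_conj_exponent hτ hπ (hS φ φ.2) hu
  refine ⟨∑ φ : S, m φ, fun s => ?_⟩
  rw [pw_prod, ← zpow_sum_units, ← Finset.prod_coe_sort]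
  refine Finset.prod_congr rfl fun φ _ => Units.ext (smul_left_injective k hu0 ?_)
  show (pw d (y φ s) : k) • u = ((s ^ m φ : kˣ) : k) • u
  rw [← hm φ s, ← hu, hy φ φ.2]

/-- The weights of translates by the normalizer agree on the invariant subgroup. -/
theorem pw_norm_eq {V : Type u} [AddCommGroup V] [Module k V] {π : Rat G →* (V ≃ₗ[k] V)} {i : Fin r}
    {S : Finset (kˣ → Rat G)} (hS : ∀ φ, φ ∈ S ↔ φ ∈ orbitSet τ i) {y : (kˣ → Rat G) → kˣ → Fin r → kˣ}
    (hy : ∀ φ ∈ S, ∀ s, τ (y φ s) = φ s) {n : Rat G} (hn : InNorm τ n) {u : V} (hu0 : u ≠ 0) {d d' : Fin r → ℤ}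
    (hu : ∀ x, π (τ x) u = (pw d x : k) • u) (hu' : ∀ x, π (τ x) (π n u) = (pw d' x : k) • π n u) (s : kˣ) :
    pw d' (∏ φ ∈ S, y φ s) = pw d (∏ φ ∈ S, y φ s) := by
  classical
  rw [pw_prod, pw_prod]
  have hmem : ∀ m : Rat G, InNorm τ m → ∀ φ ∈ S, (fun t => m * φ t * m⁻¹) ∈ S := fun m hm φ hφ => by
    obtain ⟨n', hn', rfl⟩ := (hS φ).mp hφ
    exact (hS _).mpr ⟨m * n', hm.mul hn', funext fun t => by group⟩
  refine Finset.prod_bij' (fun φ _ => fun t => n⁻¹ * φ t * n) (fun φ _ => fun t => n * φ t * n⁻¹)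
    (fun φ hφ => by simpa only [_root_.inv_inv] using hmem n⁻¹ hn.inv φ hφ) (fun φ hφ => hmem n hn φ hφ)
    (fun φ _ => funext fun t => by group) (fun φ _ => funext fun t => by group) fun φ hφ => ?_
  have hφ' : (fun t => n⁻¹ * φ t * n) ∈ S := by simpa only [_root_.inv_inv] using hmem n⁻¹ hn.inv φ hφ
  refine Units.ext (smul_left_injective k (fun h => hu0 ((π n).injective (h.trans (map_zero _).symm))) ?_)
  show (pw d' (y φ s) : k) • π n u = ((pw d (y (fun t => n⁻¹ * φ t * n) s) : kˣ) : k) • π n u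
  rw [← hu', hy φ hφ s, ← map_smul, ← hu, hy _ hφ' s, ← LinearEquiv.mul_apply, ← LinearEquiv.mul_apply, ← map_mul,
    ← map_mul]
  congr 1
  group

/-- A character is given by a weight on a torus. -/
theorem exists_char_weight (hτ : IsAlg τ) (χ : G ⟶ Red.Gm (Spec (CommRingCat.of k))) [IsMonHom χ] :
    ∃ d : Fin r → ℤ, ∀ x, cv χ (τ x) = (pw d x : k) := by
  let π : Rat G →* (k ≃ₗ[k] k) := MonoidHom.mk' (fun g => LinearEquiv.smulOfNeZero k k (cv χ g) (cv_ne_zero χ g))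
    fun g h => LinearEquiv.ext fun x => by
      show cv χ (g * h) • x = cv χ g • (cv χ h • x)
      rw [cv_hom, smul_smul]
  have hπ : IsRegular π := fun m => ⟨Red.gmFn χ ⊗ₜ[k] m, fun g => by rw [evl_tmul]; rfl⟩
  obtain ⟨J, _, b, d, hb⟩ := exists_weight_basis hτ hπ
  obtain ⟨j⟩ : Nonempty J := b.index_nonempty
  exact ⟨d j, fun x => smul_left_injective k (b.ne_zero j) (hb x j)⟩

variable {B Y : Over (Spec (CommRingCat.of k))} [GrpObj B] [IsAffine B.left] [Smooth B.hom] {i : B ⟶ G} [IsMonHom i]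
  [IsClosedImmersion i.left] {a : AlgGrp.Action G Y} {o : 𝟙_ (Over (Spec (CommRingCat.of k))) ⟶ Y}

/-- Torus-fixed lines in the closed orbit come from the normalizer. -/
theorem exists_fixed_exponent (hY : AGF.IsQuotient i Y a o) [IsProper Y.hom] (hτ : IsAlg τ)
    (key : ∀ g : Rat G, (∀ x, Mem i (g⁻¹ * τ x * g)) → ∃ b : Rat B, InNorm τ (g * (b ≫ i)))
    {V : Type u} [AddCommGroup V] [Module k V] [Module.Finite k V] {π : Rat G →* (V ≃ₗ[k] V)} (hπ : IsRegular π)
    {v : V} (hv : v ≠ 0) (hv' : ∀ g, Mem i g ↔ ∃ c : k, π g v = c • v) {d₀ : Fin r → ℤ}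
    (hd₀ : ∀ x, π (τ x) v = (pw d₀ x : k) • v) {i₀ : Fin r} {S : Finset (kˣ → Rat G)}
    (hS : ∀ φ, φ ∈ S ↔ φ ∈ orbitSet τ i₀) {y : (kˣ → Rat G) → kˣ → Fin r → kˣ}
    (hy : ∀ φ ∈ S, ∀ s, τ (y φ s) = φ s) {J : Type u} [Fintype J] {b : Module.Basis J k V} {dJ : J → Fin r → ℤ}
    (hb : ∀ x j, π (τ x) (b j) = (pw (dJ j) x : k) • b j) (g : Rat G) :
    ∃ j, b.repr (π g v) j ≠ 0 ∧ ∀ s, pw (dJ j) (∏ φ ∈ S, y φ s) = pw d₀ (∏ φ ∈ S, y φ s) := by
  classical
  have hstab : ∀ x : Rat B, ∃ c : k, π (x ≫ i) v = c • v := fun x => (hv' _).mp ⟨x, rfl⟩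
  obtain ⟨l, hl⟩ := AGFRoot.Cent.exists_separating_int
    (((Finset.univ : Finset (J × J)).filter fun p => dJ p.1 ≠ dJ p.2).image
      fun p => Multiplicative.ofAdd (dJ p.1 - dJ p.2)) (fun d hd => by
      obtain ⟨p, hp, rfl⟩ := Finset.mem_image.mp hd
      intro h
      exact (Finset.mem_filter.mp hp).2 (sub_eq_zero.mp (Multiplicative.ofAdd.injective (h.trans ofAdd_zero.symm))))
  have hsep : ∀ j j', l (dJ j) = l (dJ j') → dJ j = dJ j' := fun j j' h => by
    by_contra hne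
    refine hl (Multiplicative.ofAdd (dJ j - dJ j')) (Finset.mem_image.mpr ⟨(j, j'), by simp [hne], rfl⟩) ?_
    rw [toAdd_ofAdd, map_sub, h, sub_self]
  let op : kˣ → Rat G := fun s => τ (fun a => s ^ l (Pi.single a 1))
  have hlpw : ∀ (d : Fin r → ℤ) (s : kˣ), pw d (fun a => s ^ l (Pi.single a 1)) = s ^ l d := fun d s => by
    show ∏ a, (s ^ l (Pi.single a 1)) ^ d a = _
    simp only [← zpow_mul]
    rw [zpow_sum_units]
    congr 1
    conv_rhs => rw [← Finset.univ_sum_single d]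
    rw [map_sum]
    refine Finset.sum_congr rfl fun a _ => ?_
    rw [show (Pi.single a (d a) : Fin r → ℤ) = d a • Pi.single a 1 from by
      rw [← Pi.single_smul]; simp, map_zsmul, smul_eq_mul, _root_.mul_comm]
  have hne : (Finset.univ.filter fun j => b.repr (π g v) j ≠ 0).Nonempty := by
    by_contra h
    rw [Finset.not_nonempty_iff_eq_empty, Finset.filter_eq_empty_iff] at h
    refine hv ((π g).injective (b.repr.injective (Finsupp.ext fun j => ?_)))
    rw [map_zero, map_zero]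
    simpa using h (Finset.mem_univ j)
  obtain ⟨j₀, hj₀, hmin⟩ := Finset.exists_min_image _ (fun j => l (dJ j)) hne
  rw [Finset.mem_filter] at hj₀
  obtain ⟨g', c, hc, hg'⟩ := exists_lowest hY hπ hv hstab b (fun j => l (dJ j)) op
    (fun s j => by rw [hb, hlpw]) g j₀ hj₀.2 fun j hj => hmin j (by simpa using hj)
  have hwt : ∀ x, π (τ x) (π g' v) = (pw (dJ j₀) x : k) • π g' v := fun x => by
    conv_lhs => rw [← b.sum_repr (π g' v)]
    conv_rhs => rw [← b.sum_repr (π g' v)]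
    simp only [map_sum, map_smul, Finset.smul_sum, hb, smul_smul]
    refine Finset.sum_congr rfl fun j _ => ?_
    rw [hg' j]
    by_cases h : l (dJ j) = l (dJ j₀)
    · rw [hsep j j₀ h, _root_.mul_comm]
    · rw [if_neg h, zero_mul, mul_zero, zero_smul]
  obtain ⟨β, hn⟩ := key g' fun x => (hv' _).mpr ⟨(pw (dJ j₀) x : k), by
    rw [map_mul, map_mul, LinearEquiv.mul_apply, LinearEquiv.mul_apply, hwt, map_smul, ← LinearEquiv.mul_apply,
      ← map_mul, inv_mul_cancel, map_one]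
    rfl⟩
  obtain ⟨cβ, hcβ⟩ := hstab β
  refine ⟨j₀, hj₀.2, fun s => pw_norm_eq hS hy hn hv hd₀ (fun x => ?_) s⟩
  rw [map_mul, LinearEquiv.mul_apply, hcβ, map_smul, map_smul, hwt, smul_comm]

/-- The invariant subgroup fixes every line of the closed orbit. -/
theorem mu_mem_conj (hY : AGF.IsQuotient i Y a o) [IsProper Y.hom] (hτ : IsAlg τ) (hτi : ∀ x, Mem i (τ x))
    (key : ∀ g : Rat G, (∀ x, Mem i (g⁻¹ * τ x * g)) → ∃ b : Rat B, InNorm τ (g * (b ≫ i)))
    {i₀ : Fin r} {S : Finset (kˣ → Rat G)} (hS : ∀ φ, φ ∈ S ↔ φ ∈ orbitSet τ i₀)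
    {y : (kˣ → Rat G) → kˣ → Fin r → kˣ} (hy : ∀ φ ∈ S, ∀ s, τ (y φ s) = φ s) (s : kˣ) (g : Rat G) :
    Mem i (g⁻¹ * τ (∏ φ ∈ S, y φ s) * g) := by
  classical
  obtain ⟨V, _, _, _, π, hπ, v, hv, hv'⟩ := exists_line_stab i
  obtain ⟨J, _, b, dJ, hb⟩ := exists_weight_basis hτ hπ
  have hstab : ∀ x : Rat B, ∃ c : k, π (x ≫ i) v = c • v := fun x => (hv' _).mp ⟨x, rfl⟩
  obtain ⟨d₀, hd₀⟩ := exists_weight b hb hv fun x => (hv' _).mp (hτi x)
  obtain ⟨m₀, hm₀⟩ := exists_mu_exponent hτ hπ (fun φ h => (hS φ).mp h) hy hv hd₀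
  choose m hm using fun j => exists_mu_exponent hτ hπ (fun φ h => (hS φ).mp h) hy (b.ne_zero j) (fun x => hb x j)
  let μc : kˣ → Rat G := fun t => τ (∏ φ ∈ S, y φ t)
  have hop : ∀ t j, π (μc t) (b j) = ((t ^ m j : kˣ) : k) • b j := fun t j => by rw [hb, hm]
  -- in every line of the orbit the extreme exponents are that of the base line
  have hext : ∀ g₁ j₁, b.repr (π g₁ v) j₁ ≠ 0 → (∀ j, b.repr (π g₁ v) j ≠ 0 → m j₁ ≤ m j) → m j₁ = m₀ := by
    intro g₁ j₁ hj₁ hmin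
    obtain ⟨g', c, hc, hg'⟩ := exists_lowest hY hπ hv hstab b m μc hop g₁ j₁ hj₁ hmin
    obtain ⟨j₂, hj₂, he⟩ := exists_fixed_exponent hY hτ key hπ hv hv' hd₀ hS hy hb g'
    have h1 : m j₂ = m j₁ := by
      by_contra h
      exact hj₂ (by rw [hg', if_neg h])
    refine sub_eq_zero.mp (zpow_eq_one_of_forall (k := k) fun t => ?_)
    rw [zpow_sub, ← h1, ← hm, he, hm₀, mul_inv_cancel]
  have hext' : ∀ g₁ j₁, b.repr (π g₁ v) j₁ ≠ 0 → (∀ j, b.repr (π g₁ v) j ≠ 0 → m j ≤ m j₁) → m j₁ = m₀ := by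
    intro g₁ j₁ hj₁ hmax
    obtain ⟨g', c, hc, hg'⟩ := exists_lowest hY hπ hv hstab b (fun j => -m j) (fun t => μc t⁻¹)
      (fun t j => by rw [hop, inv_zpow, zpow_neg]) g₁ j₁ hj₁ fun j hj => neg_le_neg (hmax j hj)
    obtain ⟨j₂, hj₂, he⟩ := exists_fixed_exponent hY hτ key hπ hv hv' hd₀ hS hy hb g'
    have h1 : m j₂ = m j₁ := by
      by_contra h
      exact hj₂ (by rw [hg', if_neg fun h' => h (neg_inj.mp h')])
    refine sub_eq_zero.mp (zpow_eq_one_of_forall (k := k) fun t => ?_)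
    rw [zpow_sub, ← h1, ← hm, he, hm₀, mul_inv_cancel]
  have hall : ∀ j, b.repr (π g v) j ≠ 0 → m j = m₀ := by
    intro j hj
    have hne : (Finset.univ.filter fun j => b.repr (π g v) j ≠ 0).Nonempty := ⟨j, by simp [hj]⟩
    obtain ⟨j₁, hj₁, hmin⟩ := Finset.exists_min_image _ m hne
    obtain ⟨j₂, hj₂, hmax⟩ := Finset.exists_max_image _ m hne
    have e1 := hext g j₁ (Finset.mem_filter.mp hj₁).2 fun l hl => hmin l (by simp [hl])
    have e2 := hext' g j₂ (Finset.mem_filter.mp hj₂).2 fun l hl => hmax l (by simp [hl])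
    have h3 := hmin j (by simp [hj])
    have h4 := hmax j (by simp [hj])
    omega
  refine (hv' _).mpr ⟨((s ^ m₀ : kˣ) : k), ?_⟩
  rw [map_mul, map_mul, LinearEquiv.mul_apply, LinearEquiv.mul_apply]
  have h5 : π (μc s) (π g v) = ((s ^ m₀ : kˣ) : k) • π g v := by
    conv_lhs => rw [← b.sum_repr (π g v)]
    conv_rhs => rw [← b.sum_repr (π g v)]
    simp only [map_sum, map_smul, Finset.smul_sum, hop, smul_smul]
    refine Finset.sum_congr rfl fun j _ => ?_
    by_cases hj : b.repr (π g v) j = 0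
    · rw [hj, zero_mul, mul_zero]
    · rw [hall j hj, _root_.mul_comm]
  rw [show π (τ (∏ φ ∈ S, y φ s)) (π g v) = _ from h5, map_smul, ← LinearEquiv.mul_apply, ← map_mul,
    inv_mul_cancel, map_one]
  rfl

omit [IsAffine B.left] [Smooth B.hom] in
/-- The identity component of the intersection of the conjugates of a solvable subgroup. -/
theorem exists_core (hs : Red.IsSolvableGrp B) :
    ∃ (R : Over (Spec (CommRingCat.of k))) (_ : GrpObj R) (rr : R ⟶ G), IsMonHom rr ∧ IsClosedImmersion rr.left ∧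
      Smooth R.hom ∧ ConnectedSpace R.left ∧ AlgGrp.IsNormalHom rr ∧ Red.IsSolvableGrp R ∧
      (∃ N, 0 < N ∧ ∀ x : Rat G, (∀ g, Mem i (g⁻¹ * x * g)) → Mem rr (x ^ N)) ∧
      ∀ (R' : Over (Spec (CommRingCat.of k))) [GrpObj R'] (r' : R' ⟶ G), IsMonHom r' → Smooth R'.hom →
        ConnectedSpace R'.left → (∀ (x : Rat R') (g : Rat G), Mem i (g⁻¹ * (x ≫ r') * g)) → ∃ f : R' ⟶ R, f ≫ rr = r' := by
  haveI : Mono i.left := inferInstance
  haveI : Mono i := Over.mono_of_mono_left i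
  let K : Subgroup (Rat G) :=
    { carrier := {x | ∀ g, Mem i (g⁻¹ * x * g)}
      one_mem' := fun g => by simpa using Mem.one i
      mul_mem' := fun {x x'} hx hx' g => by
        have := Mem.mul (hx g) (hx' g)
        rwa [show g⁻¹ * x * g * (g⁻¹ * x' * g) = g⁻¹ * (x * x') * g by group] at this
      inv_mem' := fun {x} hx g => by
        obtain ⟨z, hz⟩ := hx g
        exact ⟨z⁻¹, by rw [GrpObj.inv_comp, hz]; group⟩ }
  let C : Rat G → Set G.left := fun g => (cst g⁻¹ * 𝟙 G * cst g : G ⟶ G).left ⁻¹' Set.range i.left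
  have hC : ∀ g x, ptx x ∈ C g ↔ Mem i (g⁻¹ * x * g) := fun g x => by
    rw [Set.mem_preimage, ← ptx_comp, MonObj.comp_mul, MonObj.comp_mul, Category.comp_id, comp_cst, comp_cst, cst_pt,
      cst_pt]
    refine ⟨fun ⟨c, hc⟩ => ?_, fun ⟨z, hz⟩ => ⟨ptx z, by rw [← hz, ptx_comp]⟩⟩
    haveI : LocallyOfFiniteType B.hom := by rw [← Over.w i]; infer_instance
    obtain ⟨h, hh⟩ := exists_rat (X := B) (Z := i.left ⁻¹' {ptx (g⁻¹ * x * g)}) ⟨c, hc⟩
      ((ActPts.isClosed_ptx _).preimage i.left.continuous).isLocallyClosed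
    exact ⟨h, ActPts.rat_ext (by rw [ptx_comp]; exact hh)⟩
  haveI : QuasiCompact G.hom := (qc_grp G).1
  obtain ⟨H, _, j, hj, hjc, -, hHs, -, -, hmem⟩ := AGStr.Chev.exists_closedSubgroup (G := G) K (⋂ g, C g)
    (isClosed_iInter fun g => i.left.isClosedEmbedding.isClosed_range.preimage (Scheme.Hom.continuous _))
    fun x => by
      show ptx x ∈ ⋂ g, C g ↔ _
      rw [Set.mem_iInter]
      exact forall_congr' fun g => hC g x
  haveI := hj; haveI := hjc; haveI := hHs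
  haveI : IsAffine H.left := isAffine_of_closed j
  haveI : Mono j.left := inferInstance
  haveI : Mono j := Over.mono_of_mono_left j
  obtain ⟨R, _, jR, hjR, hjRo, hjRc, hRa, hRs, hRc, -⟩ := exists_open_identityComponent H
  haveI := hjR; haveI := hjRo; haveI := hjRc; haveI := hRa; haveI := hRs; haveI := hRc
  haveI : IsClosedImmersion (jR ≫ j).left := by rw [Over.comp_left]; infer_instance
  haveI : Mono (jR ≫ j).left := inferInstance
  haveI : Mono (jR ≫ j) := Over.mono_of_mono_left (jR ≫ j)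
  have hK : ∀ x : Rat R, x ≫ jR ≫ j ∈ K := fun x => (hmem _).mp ⟨x ≫ jR, Category.assoc _ _ _⟩
  refine ⟨R, inferInstance, jR ≫ j, inferInstance, inferInstance, inferInstance, inferInstance, ?_, ?_, ?_, ?_⟩
  · refine RadM.isNormalHom_of_rat (jR ≫ j) fun g x => ?_
    let φ := AGF.conjBy (ActPts.sec g) (jR ≫ j)
    obtain ⟨φ', hφ'⟩ := RadM.fac_of_rat φ j fun q => by
      have hq : q ≫ φ ∈ K := fun g' => by
        have := hK q (g⁻¹ * g')
        rw [comp_conjBy_sec]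
        rwa [show (g⁻¹ * g')⁻¹ * (q ≫ jR ≫ j) * (g⁻¹ * g') = g'⁻¹ * (g * (q ≫ jR ≫ j) * g⁻¹) * g' by group] at this
      exact (hmem _).mpr hq
    haveI : IsMonHom (φ' ≫ j) := by rw [hφ']; infer_instance
    haveI : IsMonHom φ' := RedSub30.isMonHom_of_mono j φ'
    obtain ⟨φ'', hφ''⟩ := RadM.fac_component jR φ'
    exact ⟨x ≫ φ'', by rw [← comp_conjBy_sec, show AGF.conjBy (ActPts.sec g) (jR ≫ j) = φ'' ≫ jR ≫ j by rw [← Category.assoc, hφ'', hφ'], Category.assoc]⟩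
  · obtain ⟨f, hf⟩ := RadM.fac_of_rat (jR ≫ j) i fun x => by
      obtain ⟨z, hz⟩ := hK x 1
      exact ⟨z, by rw [hz, inv_one, _root_.one_mul, _root_.mul_one]⟩
    haveI : IsMonHom (f ≫ i) := by rw [hf]; infer_instance
    haveI : IsMonHom f := RedSub30.isMonHom_of_mono i f
    haveI : Mono f := by
      haveI : Mono (f ≫ i) := by rw [hf]; infer_instance
      exact mono_of_mono f i
    exact isSolvableGrp_of_mono f hs
  · haveI := finite_cosets jR
    let P : Subgroup (Rat H) := (MonoidHom.mk' (fun w : Rat R => w ≫ jR) fun w w' => MonObj.mul_comp w w' jR).range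
    haveI : P.FiniteIndex := Subgroup.finiteIndex_of_finite_quotient
    refine ⟨P.index.factorial, Nat.factorial_pos _, fun x hx => ?_⟩
    obtain ⟨z, hz⟩ := (hmem x).mpr hx
    obtain ⟨N, hN, hle, hzN⟩ := Subgroup.exists_pow_mem_of_index_ne_zero (H := P) Subgroup.FiniteIndex.index_ne_zero z
    obtain ⟨w, hw⟩ : z ^ P.index.factorial ∈ P := by
      obtain ⟨c, hc⟩ := Nat.dvd_factorial hN hle
      rw [hc, pow_mul]
      exact P.pow_mem hzN c
    refine ⟨w, ?_⟩
    rw [← Category.assoc, show w ≫ jR = z ^ P.index.factorial from hw, ← hz]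
    exact map_pow (MonoidHom.mk' (fun q : Rat H => q ≫ j) fun q q' => MonObj.mul_comp q q' j) z _
  · intro R' _ r' h1 h2 h3 hin
    haveI := h1; haveI := h2; haveI := h3
    obtain ⟨f', hf'⟩ := RadM.fac_of_rat r' j fun x => (hmem _).mpr (hin x)
    haveI : IsMonHom (f' ≫ j) := by rw [hf']; infer_instance
    haveI : IsMonHom f' := RedSub30.isMonHom_of_mono j f'
    obtain ⟨f, hf⟩ := RadM.fac_component jR f'
    exact ⟨f, by rw [← Category.assoc, hf, hf']⟩

omit [IsAffine B.left] [Smooth B.hom] in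
/-- Characters which are trivial on all connected solvable normal subgroups are trivial. -/
theorem char_eq_one_of_radical [ConnectedSpace G.left] (χ : G ⟶ Red.Gm (Spec (CommRingCat.of k))) [IsMonHom χ]
    (hR : ∀ (R : Over (Spec (CommRingCat.of k))) [GrpObj R] (rr : R ⟶ G) [IsMonHom rr], IsClosedImmersion rr.left →
      Smooth R.hom → ConnectedSpace R.left → AlgGrp.IsNormalHom rr → Red.IsSolvableGrp R → rr ≫ χ = 1) : χ = 1 := by
  classical
  by_contra hχ
  obtain ⟨B, _, i, hB, hp⟩ := AGFRoot.exists_borel_proper (G := G)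
  obtain ⟨hi, hic, hBs, hBc, hs, -⟩ := id hB
  haveI := hi; haveI := hic; haveI := hBs; haveI := hBc
  haveI : IsAffine B.left := isAffine_of_closed i
  haveI : Mono i.left := inferInstance
  haveI : Mono i := Over.mono_of_mono_left i
  haveI : IsAffine (Red.Gm (Spec (CommRingCat.of k))).left := isAffine_Gm
  have hχB : ∃ b : Rat B, cv χ (b ≫ i) ≠ 1 := by
    by_contra h
    push Not at h
    refine hχ (AGFRoot.hom_eq_of_eq_on_borel hB χ 1 ?_)
    rw [MonObj.comp_one]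
    exact char_eq_one fun b => by rw [← cv_comp]; exact h b
  obtain ⟨r, τ, hτ, hτi, ⟨x₀, hx₀⟩, key⟩ := exists_good_torus hs i χ hχB
  obtain ⟨dχ, hdχ⟩ := exists_char_weight hτ χ
  obtain ⟨i₀, hi₀⟩ : ∃ i₀, dχ i₀ ≠ 0 := by
    by_contra h
    push Not at h
    refine hx₀ ?_
    rw [hdχ, show dχ = 0 from funext h]
    simp [pw]
  let S := (finite_orbitSet hτ i₀).toFinset
  have hS : ∀ φ, φ ∈ S ↔ φ ∈ orbitSet τ i₀ := fun φ => Set.Finite.mem_toFinset _
  have hex : ∀ φ : kˣ → Rat G, ∀ t, ∃ w : Fin r → kˣ, φ ∈ S → τ w = φ t := fun φ t => by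
    by_cases h : φ ∈ S
    · obtain ⟨n, hn, rfl⟩ := (hS φ).mp h
      obtain ⟨w, hw⟩ := (hn (dir τ i₀ t) ⟨_, rfl⟩).2
      exact ⟨w, fun _ => hw⟩
    · exact ⟨1, fun h' => absurd h' h⟩
  choose y hy using hex
  have hy' : ∀ φ ∈ S, ∀ t, τ (y φ t) = φ t := fun φ hφ t => hy φ t hφ
  obtain ⟨Y, a, o, hY1, -, hY2, hY3, hY4⟩ := GrpSchLib.HomogeneousQuot.exists_quot G B i
  haveI := hp Y a o ⟨hY1, hY2, hY3, hY4⟩
  obtain ⟨R, _, rr, hrr, hrc, hRs, hRc, hRn, hRsol, ⟨N, hN, hpow⟩, -⟩ := exists_core (G := G) (i := i) hs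
  haveI := hrr; haveI := hrc; haveI := hRs
  haveI : IsAffine R.left := isAffine_of_closed rr
  have hone := hR R rr hrc hRs hRc hRn hRsol
  have hval : ∀ t : kˣ, cv χ (τ (∏ φ ∈ S, y φ t)) = ((t ^ ((S.card : ℤ) * dχ i₀) : kˣ) : k) := fun t => by
    rw [hdχ, pw_prod, _root_.mul_comm, zpow_mul, zpow_natCast, ← Finset.prod_const]
    congr 1
    refine Finset.prod_congr rfl fun φ hφ => Units.ext ?_
    rw [← hdχ, hy' φ hφ]
    obtain ⟨n, hn, rfl⟩ := (hS φ).mp hφ
    rw [cv_conj, dir, hdχ, pw_single]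
  have hcard : S.card ≠ 0 := Finset.card_ne_zero.mpr
    ⟨_, (hS _).mpr ⟨1, InNorm.one, rfl⟩⟩
  -- a power of the invariant subgroup lies in the core
  have hpow' : ∀ t : kˣ, t ^ ((S.card : ℤ) * dχ i₀ * (N : ℤ)) = 1 := fun t => by
    obtain ⟨w, hw⟩ := hpow _ (mu_mem_conj ⟨hY1, hY2, hY3, hY4⟩ hτ hτi key hS hy' t)
    rw [zpow_mul, zpow_natCast]
    refine Units.ext ?_
    rw [Units.val_pow_eq_pow_val, ← hval, Units.val_one]
    have h1 : ∀ M : ℕ, cv χ (τ (∏ φ ∈ S, y φ t)) ^ M = cv χ ((τ (∏ φ ∈ S, y φ t)) ^ M) := fun M => by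
      induction M with
      | zero => rw [pow_zero, pow_zero, cv_one_pt]
      | succ M ih => rw [pow_succ, pow_succ, cv_hom, ih]
    rw [h1, ← hw, cv_comp, hone, cv_one']
  exact mul_ne_zero (mul_ne_zero (by exact_mod_cast hcard) hi₀) (by exact_mod_cast hN.ne')
    (zpow_eq_one_of_forall (k := k) hpow')

end Groth.Agent.Obs28.TorW
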