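import Groth.Agent.Obs28.Criterion

/-! Extension of modules of an observable subgroup, and open subgroups. -/

universe u

open CategoryTheory MonoidalCategory CartesianMonoidalCategory MonObj GrpObj AlgebraicGeometry
open scoped TensorProduct

namespace Groth.Agent.Obs28

open GrpSchLib.Kunneth

set_option linter.unusedSectionVars false
set_option linter.style.haveILetI false

variable {k : Type u} [Field k] [IsAlgClosed k] {G H : Over (Spec (CommRingCat.of k))} [GrpObj G] [GrpObj H]
  [IsAffine G.left] [Smooth G.hom] [IsAffine H.left] [Smooth H.hom] (i : H ⟶ G)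

/-- An equivariant injection on rational points gives an extension. -/
theorem extendsAlong_of_rep {V W : Type u} [AddCommGroup V] [Module k V] [AddCommGroup W] [Module k W]
    [Module.Finite k W] (σ : VecGrp.GMod H V) {π : Rat G →* (W ≃ₗ[k] W)} (hπ : IsRegular π) (φ : V →ₗ[k] W)
    (hφ : Function.Injective φ) (heq : ∀ (h : Rat H) (x : V), φ (rep σ h x) = π (h ≫ i) (φ x)) :
    σ.ExtendsAlong i := by
  refine ⟨W, inferInstance, inferInstance, inferInstance, ofRat hπ, φ, hφ, fun B _ _ h x => ?_⟩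
  haveI := isReduced_grp H
  have e : ∀ v, φ.lTensor (Fn H) (coact σ v) = VecGrp.Wmap (ev i) (coact (ofRat hπ) (φ v)) := fun v =>
    eq_of_evl_pts fun w => by
      rw [evl_lTensor, evl_Wmap, ← rep_eq_evl, heq]
      exact (LinearEquiv.congr_fun (DFunLike.congr_fun (rep_ofRat hπ) (w ≫ i)) (φ v)).symm.trans
        (rep_eq_evl (ofRat hπ) (w ≫ i) (φ v))
  induction x using TensorProduct.induction_on with
  | zero => simp
  | tmul b v =>
    have e2 : φ.baseChange B (σ.ρ B h ((1 : B) ⊗ₜ[k] v)) = (ofRat hπ).ρ B (h ≫ i) ((1 : B) ⊗ₜ[k] φ v) := by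
      have hnat : ∀ z : Fn H ⊗[k] V,
          φ.baseChange B (VecGrp.Wmap (pfn h) z) = VecGrp.Wmap (pfn h) (φ.lTensor (Fn H) z) := fun z => by
        induction z using TensorProduct.induction_on with
        | zero => simp
        | tmul c y => simp
        | add p q hp hq => simp only [map_add, hp, hq]
      rw [rho_one_tmul, rho_one_tmul, hnat, e, Wmap_comp']
      rfl
    rw [show b ⊗ₜ[k] v = b • ((1 : B) ⊗ₜ[k] v) by rw [TensorProduct.smul_tmul', smul_eq_mul, _root_.mul_one],
      map_smul, map_smul, e2, map_smul, map_smul, LinearMap.baseChange_tmul]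
  | add p q hp hq => simp only [map_add, hp, hq]

variable [IsMonHom i]

/-- If a subspace is stable, its line in the exterior algebra is stable. -/
theorem extPi_line {M : Type u} [AddCommGroup M] [Module k M] (π : Rat G →* (M ≃ₗ[k] M)) {n : ℕ}
    {U : Submodule k M} (b : Module.Basis (Fin n) k U) (g : Rat G) (hg : ∀ x ∈ U, π g x ∈ U) :
    ∃ c : k, extPi π g (ExteriorAlgebra.ιMulti k n fun j => (b j : M)) =
      c • ExteriorAlgebra.ιMulti k n fun j => (b j : M) := by
  let e : U →ₗ[k] U := ((π g).toLinearMap ∘ₗ U.subtype).codRestrict U fun x => hg x x.2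
  refine ⟨LinearMap.det e, ?_⟩
  rw [extPi_apply, ExteriorAlgebra.map_apply_ιMulti]
  refine sub_eq_zero.mp ((Module.forall_dual_apply_eq_zero_iff k _).mp fun φ => ?_)
  let F : U [⋀^Fin n]→ₗ[k] k := φ.compAlternatingMap ((ExteriorAlgebra.ιMulti k n).compLinearMap U.subtype)
  have key : F (fun j => e (b j)) = LinearMap.det e * F b := by
    have h2 := F.eq_smul_basis_det b
    conv_lhs => rw [h2]
    rw [AlternatingMap.smul_apply, show (fun j => e (b j)) = e ∘ b from rfl, Module.Basis.det_comp,
      Module.Basis.det_self, _root_.mul_one, smul_eq_mul, mul_comm]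
  rw [map_sub, map_smul, smul_eq_mul, sub_eq_zero]
  exact key

/-- A module of a subgroup is a subquotient of a restricted module of the group. -/
theorem exists_subquotient [IsClosedImmersion i.left] {V : Type u} [AddCommGroup V] [Module k V]
    [Module.Finite k V] (σ : VecGrp.GMod H V) :
    ∃ (W : Type u) (_ : AddCommGroup W) (_ : Module k W) (_ : Module.Finite k W)
      (π : Rat G →* (W ≃ₗ[k] W)) (_ : IsRegular π) (W₀ : Submodule k W) (L : V →ₗ[k] W),
      (∀ (h : Rat H), ∀ x ∈ W₀, π (h ≫ i) x ∈ W₀) ∧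
      (∀ (h : Rat H) v, L (rep σ h v) - π (h ≫ i) (L v) ∈ W₀) ∧ ∀ v, L v ∈ W₀ → v = 0 := by
  classical
  haveI := isReduced_grp H
  let β := Module.finBasis k V
  let J := ULift.{u} (Fin (Module.finrank k V))
  let emb : V →ₗ[k] J → Fn H := LinearMap.pi fun j =>
    { toFun := fun v => coeff (rep_isRegular σ) (β.coord j.down) v
      map_add' := fun v w => ext_pts fun x => by
        rw [map_add (pfn x), pfn_coeff, pfn_coeff, pfn_coeff, map_add, map_add]
      map_smul' := fun c v => ext_pts fun x => by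
        rw [RingHom.id_apply, map_smul (pfn x), pfn_coeff, pfn_coeff, map_smul, map_smul] }
  have hemb : ∀ v j x, pfn x (emb v j) = β.coord j.down (rep σ x v) := fun v j x => pfn_coeff (rep_isRegular σ) _ v x
  obtain ⟨sec, hsec⟩ := LinearMap.exists_rightInverse_of_surjective (ev i).toLinearMap
    (LinearMap.range_eq_top.mpr (ev_surjective i))
  let L' : V →ₗ[k] J → Fn G := LinearMap.pi fun j => sec ∘ₗ LinearMap.proj j ∘ₗ emb
  have hL' : ∀ v j, ev i (L' v j) = emb v j := fun v j => LinearMap.congr_fun hsec (emb v j)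
  let π₀ := piPi J (rPi (G := G))
  have hπ₀ : IsRegular π₀ := piPi_regular _ rPi_regular
  let W := orbitSpan π₀ (Set.range (L' ∘ β))
  haveI : Module.Finite k W := finite_orbitSpan hπ₀ (Set.finite_range _)
  have hLW : ∀ v, L' v ∈ W := fun v => by
    have hle : LinearMap.range L' ≤ W := by
      rw [← Submodule.map_top, ← β.span_eq, Submodule.map_span, Submodule.span_le]
      rintro _ ⟨_, ⟨j, rfl⟩, rfl⟩
      exact subset_orbitSpan _ _ ⟨j, rfl⟩
    exact hle ⟨v, rfl⟩
  let W₀ : Submodule k W := ⨅ j, LinearMap.ker ((ev i).toLinearMap ∘ₗ LinearMap.proj j ∘ₗ W.subtype)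
  have hW₀ : ∀ x : W, x ∈ W₀ ↔ ∀ j, ev i ((x : J → Fn G) j) = 0 := fun x => by
    simp [W₀, Submodule.mem_iInf]
  have hact : ∀ (x : W) (h : Rat H) (j : J) (y : Rat H),
      pfn y (ev i (π₀ (h ≫ i) (x : J → Fn G) j)) = pfn (y * h) (ev i ((x : J → Fn G) j)) := fun x h j y => by
    rw [← pfn_comp, piPi_apply, rPi_apply, pfn_rMap', ← MonObj.mul_comp, pfn_comp]
  refine ⟨W, inferInstance, inferInstance, inferInstance, subPi π₀ W (orbitSpan_stable _ _),
    subPi_regular _ _ _ hπ₀, W₀, L'.codRestrict W hLW, fun h x hx => ?_, fun h v => ?_, fun v hv => ?_⟩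
  · rw [hW₀] at hx ⊢
    intro j
    refine eq_zero_of_val _ fun y => ?_
    rw [subPi_coe, hact, hx, map_zero]
  · rw [hW₀]
    intro j
    refine eq_zero_of_val _ fun y => ?_
    rw [Submodule.coe_sub, Pi.sub_apply, map_sub, map_sub, subPi_coe, hact]
    simp only [LinearMap.codRestrict_apply, hL', hemb, map_mul, LinearEquiv.mul_apply, sub_self]
  · rw [hW₀] at hv
    have h0 : ∀ j, β.coord j v = 0 := fun j => by
      have h2 := hemb v ⟨j⟩ 1
      rw [← hL', show ev i (L' v ⟨j⟩) = 0 from hv ⟨j⟩, map_zero, map_one] at h2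
      exact h2.symm
    exact β.forall_coord_eq_zero_iff.mp h0

/-- Modules of an observable subgroup extend. -/
theorem extendsAlong_of_observable [IsClosedImmersion i.left] (hobs : AGF.IsObservableIn k i)
    {V : Type u} [AddCommGroup V] [Module k V] [Module.Finite k V] (σ : VecGrp.GMod H V) :
    σ.ExtendsAlong i := by
  classical
  obtain ⟨W, iW, iM, iF, π, hπ, W₀, L, hst, hL, hinj⟩ := exists_subquotient i σ
  let b := Module.finBasis k W₀
  let bW : Fin (Module.finrank k W₀) → W := fun j => (b j : W)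
  have hb : LinearIndependent k bW := b.linearIndependent.map' W₀.subtype W₀.ker_subtype
  have hspan : Submodule.span k (Set.range bW) = W₀ := by
    rw [show Set.range bW = W₀.subtype '' Set.range b from by rw [← Set.range_comp]; rfl,
      Submodule.span_image, b.span_eq, Submodule.map_top, Submodule.range_subtype]
  let ω := ExteriorAlgebra.ιMulti k (Module.finrank k W₀) bW
  have hω : ω ≠ 0 := ιMulti_ne_zero hb
  obtain ⟨χ, hχ, hωχ⟩ := exists_char_of_line i (extPi_regular π hπ) hω
    fun h => extPi_line π b (h ≫ i) (hst h)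
  obtain ⟨U, iU, iMU, iFU, πU, hπU, u, hu, hue⟩ :=
    eigen_inv_of_observable i hobs (cv χ) (cv_ne_zero χ) (extPi_regular π hπ) hω hωχ
  have hgen : ∀ y : W, ExteriorAlgebra.ι k y * ω = 0 ↔ y ∈ W₀ := by
    intro y
    have e : ExteriorAlgebra.ιMulti k (Module.finrank k W₀ + 1) (Matrix.vecCons y bW) = ExteriorAlgebra.ι k y * ω := by
      rw [ExteriorAlgebra.ιMulti_succ_apply]; rfl
    rw [← e]
    refine Iff.trans ?_ (iff_of_eq (congrArg (y ∈ ·) hspan))
    constructor
    · intro h
      by_contra hy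
      exact ιMulti_ne_zero (linearIndependent_finCons.mpr ⟨hb, hy⟩) h
    · intro hy
      refine AlternatingMap.map_linearDependent _ _ fun h => ?_
      rw [show Matrix.vecCons y bW = Fin.cons y bW from rfl, linearIndependent_finCons] at h
      exact h.2 hy
  let Ψ : V →ₗ[k] ExteriorAlgebra k W ⊗[k] U :=
    (TensorProduct.mk k _ U).flip u ∘ₗ LinearMap.mulRight k ω ∘ₗ ExteriorAlgebra.ι k ∘ₗ L
  let π' := tensorPi (extPi π) πU
  have hπ' : IsRegular π' := tensorPi_regular _ _ (extPi_regular π hπ) hπU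
  have heq : ∀ h v, Ψ (rep σ h v) = π' (h ≫ i) (Ψ v) := by
    intro h v
    show (ExteriorAlgebra.ι k (L (rep σ h v)) * ω) ⊗ₜ[k] u =
      π' (h ≫ i) ((ExteriorAlgebra.ι k (L v) * ω) ⊗ₜ[k] u)
    have hω' := hωχ h
    rw [extPi_apply] at hω'
    rw [tensorPi_tmul, extPi_apply, map_mul, hω', hue, ExteriorAlgebra.map_apply_ι, mul_smul_comm,
      TensorProduct.smul_tmul, smul_smul, mul_inv_cancel₀ (cv_ne_zero χ h), one_smul]
    congr 1
    rw [← sub_eq_zero, ← sub_mul, ← map_sub]
    exact (hgen _).mpr (hL h v)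
  let β := Module.finBasis k V
  let X := orbitSpan π' (Set.range (Ψ ∘ β))
  haveI : Module.Finite k X := finite_orbitSpan hπ' (Set.finite_range _)
  have hX : ∀ v, Ψ v ∈ X := fun v => by
    have hle : LinearMap.range Ψ ≤ X := by
      rw [← Submodule.map_top, ← β.span_eq, Submodule.map_span, Submodule.span_le]
      rintro _ ⟨_, ⟨j, rfl⟩, rfl⟩
      exact subset_orbitSpan _ _ ⟨j, rfl⟩
    exact hle ⟨v, rfl⟩
  refine extendsAlong_of_rep i σ (subPi_regular π' X (orbitSpan_stable _ _) hπ') (Ψ.codRestrict X hX) ?_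
    fun h v => Subtype.ext (heq h v)
  refine (injective_iff_map_eq_zero _).mpr fun v hv => hinj v ((hgen _).mp ?_)
  have h2 : (ExteriorAlgebra.ι k (L v) * ω) ⊗ₜ[k] u = 0 := congrArg Subtype.val hv
  obtain ⟨ψ, hψ⟩ : ∃ ψ : U →ₗ[k] k, ψ u ≠ 0 := by
    by_contra h
    push Not at h
    exact hu ((Module.forall_dual_apply_eq_zero_iff k _).mp h)
  have h3 := congrArg (fun t => TensorProduct.rid k (ExteriorAlgebra k W) (ψ.lTensor _ t)) h2
  simp only [LinearMap.lTensor_tmul, TensorProduct.rid_tmul, map_zero] at h3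
  exact (smul_eq_zero.mp h3).resolve_left hψ

/-- Observability from extension of the one-dimensional modules. -/
theorem observable_of_extends [IsClosedImmersion i.left]
    (hyp : ∀ (V : Type u) [AddCommGroup V] [Module k V] [Module.Finite k V] (σ : VecGrp.GMod H V),
      σ.ExtendsAlong i) : AGF.IsObservableIn k i := by
  refine observable_of_chars i fun χ hχ V _ _ _ π hπ v hv hev => ?_
  let σπ : Rat H →* (k ≃ₗ[k] k) :=
    { toFun := fun h => LinearEquiv.smulOfUnit (Units.mk0 (cv χ h) (cv_ne_zero χ h))⁻¹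
      map_one' := LinearEquiv.ext fun x => by
        have h1 : cv χ (1 : Rat H) = 1 := by
          have := cv_hom χ 1 1
          rw [_root_.one_mul] at this
          exact (mul_left_eq_self₀.mp this.symm).resolve_right (cv_ne_zero χ 1)
        show ((cv χ 1)⁻¹ : k) * x = x
        rw [h1, inv_one, _root_.one_mul]
      map_mul' := fun a b => LinearEquiv.ext fun x => by
        show ((cv χ (a * b))⁻¹ : k) * x = (cv χ a)⁻¹ * ((cv χ b)⁻¹ * x)
        rw [cv_hom, _root_.mul_inv, _root_.mul_assoc] }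
  have hσ : IsRegular σπ := fun x => ⟨Red.gmFn χ⁻¹ ⊗ₜ[k] x, fun h => by
    rw [evl_tmul]
    show (cv χ h)⁻¹ * x = _
    rw [smul_eq_mul, ← cv_inv]
    rfl⟩
  obtain ⟨W, iW, iM, iF, ρ, φ, hφ, heq⟩ := hyp k (ofRat hσ)
  refine ⟨W, iW, iM, rep ρ, rep_isRegular ρ, φ 1, fun h => one_ne_zero (hφ (h.trans (map_zero φ).symm)),
    fun h => ?_⟩
  have h2 := congrArg (TensorProduct.lid k W) (heq k h ((1 : k) ⊗ₜ[k] (1 : k)))
  rw [rho_k_apply, LinearMap.baseChange_tmul, LinearMap.baseChange_tmul, rho_k_apply, TensorProduct.lid_tmul,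
    TensorProduct.lid_tmul, one_smul, one_smul, rep_ofRat] at h2
  rw [← h2, show σπ h 1 = (cv χ h)⁻¹ • (1 : k) from rfl, map_smul]

omit [IsMonHom i] in
theorem mem_of_range_subset [IsOpenImmersion i.left] (g : Rat G)
    (h : Set.range g.left.base ⊆ Set.range i.left.base) : Mem i g :=
  ⟨Over.homMk (IsOpenImmersion.lift i.left g.left h) (by
      rw [← Over.w i, IsOpenImmersion.lift_fac_assoc, Over.w g]),
    Over.OverMorphism.ext (IsOpenImmersion.lift_fac _ _ _)⟩

/-- The indicator function of an open and closed subgroup. -/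
theorem exists_indicator [IsClosedImmersion i.left] [IsOpenImmersion i.left] :
    ∃ e : Fn G, (∀ y, Mem i y → pfn y e = 1) ∧ ∀ y, ¬ Mem i y → pfn y e = 0 := by
  haveI := isReduced_grp G
  haveI := isReduced_grp H
  let J : Ideal (Fn G) :=
    { carrier := {f | ∀ y : Rat G, ¬ Mem i y → pfn y f = 0}
      add_mem' := fun ha hb y hy => by rw [map_add, ha y hy, hb y hy, add_zero]
      zero_mem' := fun y _ => map_zero _
      smul_mem' := fun c x hx y hy => by rw [smul_eq_mul, map_mul, hx y hy, mul_zero] }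
  have htop : RingHom.ker (ev i) ⊔ J = ⊤ := by
    by_contra hne
    obtain ⟨x, hx⟩ := exists_zero (X := G) hne
    have hxm : Mem i x := mem_of_vanish i x fun f hf => hx f (Ideal.mem_sup_left hf)
    let p₀ : (VecGrp.pt k k).left := IsLocalRing.closedPoint k
    have hxU : x.left.base p₀ ∈ (i.left.opensRange : Set G.left) := by
      obtain ⟨h, rfl⟩ := hxm
      exact ⟨h.left.base p₀, rfl⟩
    obtain ⟨f, hfle, hxf⟩ := (isAffineOpen_top G.left).exists_basicOpen_le
      (V := i.left.opensRange) ⟨x.left.base p₀, hxU⟩ trivial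
    have key : ∀ y : Rat G, pfn y f ≠ 0 ↔ y.left.base p₀ ∈ G.left.basicOpen f := by
      intro y
      show _ ↔ p₀ ∈ y.left ⁻¹ᵁ G.left.basicOpen f
      rw [Scheme.preimage_basicOpen_top, ← isUnit_iff_ne_zero]
      constructor
      · intro hu
        have : IsUnit (y.left.appTop f) :=
          (isUnit_map_iff (Scheme.ΓSpecIso (CommRingCat.of k)).commRingCatIsoToRingEquiv _).mp hu
        rw [(VecGrp.pt k k).left.basicOpen_of_isUnit this]
        trivial
      · intro hp
        refine isUnit_iff_ne_zero.mpr fun h0 => ?_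
        have h1 : y.left.appTop f = 0 :=
          (Scheme.ΓSpecIso (CommRingCat.of k)).commRingCatIsoToRingEquiv.injective (h0.trans (map_zero _).symm)
        rw [h1, Scheme.basicOpen_zero] at hp
        exact hp
    refine (key x).mpr hxf (hx f (Ideal.mem_sup_right fun y hy => ?_))
    by_contra h0
    refine hy (mem_of_range_subset i y ?_)
    rintro _ ⟨q, rfl⟩
    rw [show q = p₀ from Subsingleton.elim (α := PrimeSpectrum k) q p₀]
    exact hfle ((key y).mp h0)
  obtain ⟨b, hb, e, he, hbe⟩ := Submodule.mem_sup.mp (htop ▸ Submodule.mem_top : (1 : Fn G) ∈ _)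
  have he1 : ∀ y, Mem i y → pfn y e = 1 := by
    rintro _ ⟨h, rfl⟩
    rw [show e = 1 - b from eq_sub_of_add_eq' hbe, map_sub, map_one, pfn_comp, show ev i b = 0 from hb, map_zero,
      sub_zero]
  exact ⟨e, he1, he⟩

/-- An open subgroup is observable. -/
theorem observable_of_open [IsClosedImmersion i.left] [IsOpenImmersion i.left] : AGF.IsObservableIn k i := by
  haveI := isReduced_grp G
  obtain ⟨e, he1, he⟩ := exists_indicator i
  rw [observable_iff]
  intro g hg
  by_contra hgm
  have hinv : Inv' i e := fun h => ext_pts fun x => by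
    rw [pfn_rMap']
    by_cases hx : Mem i x
    · rw [he1 x hx, he1 _ (hx.mul ⟨h, rfl⟩)]
    · rw [he x hx, he _ fun hxh => hx (by
        have := hxh.mul (⟨h⁻¹, rfl⟩ : Mem i (h⁻¹ ≫ i))
        rwa [_root_.mul_assoc, ← MonObj.mul_comp, mul_inv_cancel, MonObj.one_comp, _root_.mul_one] at this)]
  have := (fix_iff i g).mp hg e hinv
  rw [he g hgm, he1 1 (Mem.one i)] at this
  exact zero_ne_one this

end Groth.Agent.Obs28
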