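import Mathlib.RingTheory.Invariant.Basic
import Mathlib.RingTheory.Adjoin.Tower
import Mathlib.RingTheory.FiniteType
import Mathlib.LinearAlgebra.LinearIndependent.Basic
import Mathlib.RingTheory.Localization.FractionRing
import Mathlib.FieldTheory.LinearDisjoint
import Mathlib.RingTheory.Noetherian.Basic
import Mathlib.RingTheory.Finiteness.Subalgebra

/-! Finite groups acting on algebras. -/

universe u

namespace Groth.Agent.Obs28.FinInv

set_option linter.style.haveILetI false

variable {k C : Type u} [Field k] [CommRing C] [Algebra k C] (Γ : Subgroup (C ≃ₐ[k] C)) [Finite Γ]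

/-- The invariants of a group of automorphisms. -/
def inv : Subalgebra k C where
  carrier := {c | ∀ γ ∈ Γ, γ c = c}
  mul_mem' {a b} ha hb γ hγ := by rw [map_mul, ha γ hγ, hb γ hγ]
  one_mem' γ _ := map_one γ
  add_mem' {a b} ha hb γ hγ := by rw [map_add, ha γ hγ, hb γ hγ]
  zero_mem' γ _ := map_zero γ
  algebraMap_mem' c γ _ := γ.commutes c

omit [Finite Γ] in
theorem mem_inv {c : C} : c ∈ inv Γ ↔ ∀ γ ∈ Γ, γ c = c := Iff.rfl

omit [Finite Γ] in
theorem sum_mem_inv [Fintype Γ] (c : C) : ∑ γ : Γ, (γ : C ≃ₐ[k] C) c ∈ inv Γ := fun δ hδ => by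
  rw [map_sum]
  exact Fintype.sum_equiv (Equiv.mulLeft (⟨δ, hδ⟩ : Γ)) _ _ fun γ => rfl

instance isIntegral_inv : Algebra.IsIntegral (inv Γ) C := by
  haveI : Algebra.IsInvariant (inv Γ) C Γ := ⟨fun c hc => ⟨⟨c, fun γ hγ => hc ⟨γ, hγ⟩⟩, rfl⟩⟩
  haveI : SMulCommClass Γ (inv Γ) C := ⟨fun γ a c => by
    show (γ : C ≃ₐ[k] C) ((a : C) * c) = (a : C) * (γ : C ≃ₐ[k] C) c
    rw [map_mul, a.2 _ γ.2]⟩
  exact Algebra.IsInvariant.isIntegral (inv Γ) C Γ

theorem finiteType_inv [Algebra.FiniteType k C] : Algebra.FiniteType k (inv Γ) := by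
  haveI : IsNoetherianRing k := inferInstance
  haveI : Algebra.FiniteType (inv Γ) C := Algebra.FiniteType.of_restrictScalars_finiteType k (inv Γ) C
  haveI : Module.Finite (inv Γ) C := Algebra.IsIntegral.finite
  exact (Subalgebra.fg_iff_finiteType _).mp
    ((fg_of_fg_of_fg k (inv Γ) C (Algebra.FiniteType.out) Module.Finite.fg_top Subtype.val_injective).map (inv Γ).val
      |> fun h => by rwa [Algebra.map_top, Subalgebra.range_val] at h)

theorem finiteType_of_inv [IsDomain C] [Algebra.FiniteType k (inv Γ)] : Algebra.FiniteType k C := by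
  classical
  haveI := Fintype.ofFinite Γ
  let L := FractionRing C
  let ι : C →+* L := algebraMap C L
  let v : C → (Γ → L) := fun x γ => ι ((γ : C ≃ₐ[k] C) x)
  let ch : Γ → (C →* L) := fun γ => (ι : C →* L).comp ((γ : C ≃ₐ[k] C).toMulEquiv.toMonoidHom)
  have hch : Function.Injective ch := fun γ δ h => Subtype.ext (AlgEquiv.ext fun x =>
    IsFractionRing.injective C L (DFunLike.congr_fun h x))
  have hli : LinearIndependent L (fun γ => (ch γ : C → L)) :=
    (linearIndependent_monoidHom C L).comp ch hch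
  obtain ⟨s, hs, hspan⟩ := (Submodule.fg_span_iff_fg_span_finset_subset (R := L) (Set.range v)).1
    (IsNoetherian.noetherian _)
  choose! pre hpre using fun w (hw : w ∈ s) => hs hw
  let φ : C →ₗ[inv Γ] (↥s → inv Γ) :=
    { toFun := fun c w => ⟨_, sum_mem_inv Γ (c * pre w)⟩
      map_add' := fun c d => funext fun w => Subtype.ext (by
        simp [add_mul, Finset.sum_add_distrib])
      map_smul' := fun a c => funext fun w => Subtype.ext (by
        show ∑ γ : Γ, (γ : C ≃ₐ[k] C) ((a : C) * c * pre w) = (a : C) * ∑ γ : Γ, (γ : C ≃ₐ[k] C) (c * pre w)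
        rw [Finset.mul_sum]
        refine Finset.sum_congr rfl fun γ _ => ?_
        rw [_root_.mul_assoc, map_mul, a.2 _ γ.2]) }
  have hφ : Function.Injective φ := (injective_iff_map_eq_zero φ).mpr fun c hc => by
    let f : (Γ → L) →ₗ[L] L := ∑ γ : Γ, ι ((γ : C ≃ₐ[k] C) c) • LinearMap.proj γ
    have h1 : Submodule.span L (s : Set (Γ → L)) ≤ LinearMap.ker f := Submodule.span_le.mpr fun w hw => by
      have h2 : ∑ γ : Γ, (γ : C ≃ₐ[k] C) (c * pre w) = 0 := congrArg Subtype.val (congrFun hc ⟨w, hw⟩)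
      have h3 := congrArg ι h2
      rw [map_zero, map_sum] at h3
      show f w = 0
      rw [← h3]
      simp only [f, LinearMap.sum_apply, LinearMap.smul_apply, LinearMap.proj_apply, smul_eq_mul, map_mul]
      exact Finset.sum_congr rfl fun γ _ => by rw [show w γ = v (pre w) γ by rw [hpre w hw]]
    have h4 : ∀ x, ∑ γ : Γ, ι ((γ : C ≃ₐ[k] C) c) * ι ((γ : C ≃ₐ[k] C) x) = 0 := fun x => by
      have h5 : f (v x) = 0 := h1 (hspan.le (Submodule.subset_span ⟨x, rfl⟩))
      simpa [f, v] using h5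
    have h6 := Fintype.linearIndependent_iff.mp hli (fun γ => ι ((γ : C ≃ₐ[k] C) c)) (funext fun x => by
      simp only [Finset.sum_apply, Pi.smul_apply, smul_eq_mul, Pi.zero_apply]
      exact h4 x) 1
    have h7 : ι c = 0 := by simpa using h6
    exact IsFractionRing.injective C L (h7.trans (map_zero ι).symm)
  haveI : IsNoetherianRing (inv Γ) := Algebra.FiniteType.isNoetherianRing k _
  haveI : Module.Finite (inv Γ) C := Module.Finite.of_injective φ hφ
  exact Algebra.FiniteType.trans (S := inv Γ) inferInstance inferInstance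

end Groth.Agent.Obs28.FinInv
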