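import Groth.Agent.Obs28.Hull
import Groth.Agent.Obs28.Chev
import Groth.Agent.Obs28.Criterion

/-! The spectrum of a finitely generated ring of invariants and the image of the group in it. -/

universe u

open CategoryTheory MonoidalCategory CartesianMonoidalCategory MonObj GrpObj AlgebraicGeometry
open scoped TensorProduct

namespace Groth.Agent.Obs28

open GrpSchLib.Kunneth

set_option linter.unusedSectionVars false
set_option linter.style.haveILetI false

variable {k : Type u} [Field k] [IsAlgClosed k] {G H : Over (Spec (CommRingCat.of k))} [GrpObj G] [GrpObj H]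
  [IsAffine G.left] [Smooth G.hom] [IsAffine H.left] [Smooth H.hom] (i : H ⟶ G)

/-- The algebra of invariant functions. -/
noncomputable def invAlg : Subalgebra k (Fn G) where
  carrier := {f | Inv' i f}
  mul_mem' {a b} ha hb h := by rw [map_mul, ha h, hb h]
  one_mem' h := map_one _
  add_mem' {a b} ha hb h := by rw [map_add, ha h, hb h]
  zero_mem' h := map_zero _
  algebraMap_mem' c h := AlgHom.commutes _ c

theorem mem_invAlg {f : Fn G} : f ∈ invAlg i ↔ Inv' i f := Iff.rfl

theorem mem_rTransInv_iff' {f : Fn G} : f ∈ AGF.rTransInv i ↔ f ∈ invAlg i := inv'_iff i f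

theorem fg_invAlg (h : AGF.SubringFGOver k G (AGF.rTransInv i)) : Algebra.FiniteType k (invAlg i) := by
  obtain ⟨s, hs, hle⟩ := h
  refine (Subalgebra.fg_iff_finiteType _).mp ⟨s, le_antisymm (Algebra.adjoin_le fun x hx =>
    (mem_rTransInv_iff' i).mp (hs hx)) fun x hx => ?_⟩
  have hc : Subring.closure
      (Set.range (fun c : k => G.hom.appTop ((Scheme.ΓSpecIso (CommRingCat.of k)).inv c)) ∪ ↑s) ≤
      (Algebra.adjoin k (s : Set (Fn G))).toSubring := Subring.closure_le.mpr (by
    rintro y (⟨c, rfl⟩ | hy)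
    · exact (Algebra.adjoin k (s : Set (Fn G))).algebraMap_mem c
    · exact Algebra.subset_adjoin hy)
  exact hc (hle ((mem_rTransInv_iff' i).mpr hx))

variable (hfg : Algebra.FiniteType k (invAlg i))

include hfg

/-- The image of the group in the spectrum of its invariants is open. -/
theorem isOpen_range_comap : IsOpen (Set.range (PrimeSpectrum.comap (invAlg i).val.toRingHom)) := by
  classical
  haveI := hfg
  haveI := finiteType_fn G
  haveI := isReduced_grp G
  haveI : _root_.IsReduced (Fn G) := inferInstanceAs (_root_.IsReduced Γ(G.left, ⊤))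
  haveI : _root_.IsReduced (invAlg i) := isReduced_of_injective (invAlg i).val Subtype.val_injective
  haveI : IsNoetherianRing (invAlg i) := Algebra.FiniteType.isNoetherianRing k _
  haveI : Nontrivial (Fn G) := RingHom.domain_nontrivial (pfn (1 : Rat G)).toRingHom
  let A := invAlg i
  obtain ⟨q, hq⟩ := Ideal.nonempty_minimalPrimes (bot_ne_top : (⊥ : Ideal A) ≠ ⊤)
  haveI := hq.1.1
  obtain ⟨P, hP, hPq⟩ := Ideal.exists_comap_eq_of_mem_minimalPrimes_of_injective
    (f := A.val.toRingHom) Subtype.val_injective q hq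
  haveI := hP
  let φ : (A ⧸ q) →ₐ[k] Fn G ⧸ P := Ideal.quotientMapₐ P A.val (le_of_eq hPq.symm)
  have hφ : Function.Injective φ := (injective_iff_map_eq_zero φ).mpr fun x hx => by
    obtain ⟨y, rfl⟩ := Ideal.Quotient.mk_surjective x
    refine Ideal.Quotient.eq_zero_iff_mem.mpr (hPq.le ?_)
    show (y : Fn G) ∈ P
    exact Ideal.Quotient.eq_zero_iff_mem.mp hx
  obtain ⟨a', ha', hlift⟩ := exists_ne_zero_prime φ hφ (one_ne_zero (α := Fn G ⧸ P))
  obtain ⟨a, rfl⟩ := Ideal.Quotient.mk_surjective a'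
  obtain ⟨e, he, heq'⟩ : ∃ e : A, e ∉ q ∧ ∀ q' ∈ minimalPrimes A, q' ≠ q → e ∈ q' := by
    have hfin : (minimalPrimes A).Finite := minimalPrimes.finite_of_isNoetherianRing A
    have hne : ∀ q' ∈ hfin.toFinset.erase q, ∃ t, t ∈ q' ∧ t ∉ q := fun q' hq' => by
      rw [Finset.mem_erase, Set.Finite.mem_toFinset] at hq'
      exact SetLike.not_le_iff_exists.mp fun h => hq'.1 (le_antisymm h (hq.2 hq'.2.1 h))
    choose! t ht1 ht2 using hne
    refine ⟨∏ q' ∈ hfin.toFinset.erase q, t q', fun h => ?_, fun q' hq' hne' => ?_⟩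
    · obtain ⟨x, hx, hxq⟩ := (Ideal.IsPrime.prod_mem_iff (p := q)).mp h
      exact ht2 x hx hxq
    · have hmem : q' ∈ hfin.toFinset.erase q := Finset.mem_erase.mpr ⟨hne', hfin.mem_toFinset.mpr hq'⟩
      exact q'.mem_of_dvd (Finset.dvd_prod_of_mem t hmem) (ht1 q' hmem)
  let c : A := a * e
  have hc : c ∉ q := fun h => (Ideal.IsPrime.mem_or_mem hq.1.1 h).elim
    (fun h => ha' (Ideal.Quotient.eq_zero_iff_mem.mpr h)) he
  have hlc : ∀ m : Ideal A, m.IsPrime → c ∉ m → ∃ Q : Ideal (Fn G), Q.IsPrime ∧ Q.comap A.val.toRingHom = m := by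
    intro m hm hcm
    haveI := hm
    obtain ⟨q', hq', hq'm⟩ := Ideal.exists_minimalPrimes_le (I := (⊥ : Ideal A)) (J := m) bot_le
    have hqm : q ≤ m := by
      by_cases hqq : q' = q
      · exact hqq ▸ hq'm
      · exact absurd (m.mul_mem_left a (hq'm (heq' q' hq' hqq))) hcm
    have hker : RingHom.ker (Ideal.Quotient.mk q) ≤ m := by rw [Ideal.mk_ker]; exact hqm
    haveI : (m.map (Ideal.Quotient.mk q)).IsPrime :=
      Ideal.map_isPrime_of_surjective Ideal.Quotient.mk_surjective hker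
    have hcm' : Ideal.Quotient.mk q a ∉ m.map (Ideal.Quotient.mk q) := fun h => hcm (by
      rw [← Ideal.mem_comap, Ideal.comap_map_of_surjective _ Ideal.Quotient.mk_surjective,
        ← RingHom.ker_eq_comap_bot, sup_eq_left.mpr hker] at h
      exact m.mul_mem_right e h)
    obtain ⟨Q, hQ, -, hQm⟩ := hlift _ inferInstance hcm'
    haveI := hQ
    refine ⟨Q.comap (Ideal.Quotient.mk P), inferInstance, ?_⟩
    rw [Ideal.comap_comap, show (Ideal.Quotient.mk P).comp A.val.toRingHom =
      φ.toRingHom.comp (Ideal.Quotient.mk q) from rfl, ← Ideal.comap_comap, hQm,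
      Ideal.comap_map_of_surjective _ Ideal.Quotient.mk_surjective, ← RingHom.ker_eq_comap_bot, sup_eq_left.mpr hker]
  let L : Rat G → (A →ₐ[k] A) := fun g => ((lMap g).comp A.val).codRestrict A fun x => Inv'.lMap i x.2 g
  have key : Set.range (PrimeSpectrum.comap A.val.toRingHom) =
      ⋃ g : Rat G, ((PrimeSpectrum.basicOpen (L g c) : TopologicalSpace.Opens _) : Set (PrimeSpectrum A)) := by
    ext m
    simp only [Set.mem_iUnion, SetLike.mem_coe, PrimeSpectrum.mem_basicOpen]
    constructor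
    · rintro ⟨Q, rfl⟩
      obtain ⟨ψ, -, hψ⟩ := exists_point_of_prime (k := k) Q.asIdeal (b := 1)
        (fun h => Q.2.ne_top ((Ideal.eq_top_iff_one _).mpr h))
      by_contra hh
      push Not at hh
      refine hc ?_
      have hc0 : (c : Fn G) = 0 := eq_zero_of_val _ fun y => by
        have h1 := hψ _ (hh (y * (ptOf ψ)⁻¹))
        change ψ (lMap (y * (ptOf ψ)⁻¹) (c : Fn G)) = 0 at h1
        rwa [← pfn_ptOf ψ, pfn_lMap, inv_mul_cancel_right] at h1
      rw [show c = 0 from Subtype.ext hc0]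
      exact q.zero_mem
    · rintro ⟨g, hg⟩
      haveI := m.2
      obtain ⟨Q, hQ, hQm⟩ := hlc (m.asIdeal.comap (L g).toRingHom) inferInstance hg
      haveI := hQ
      refine ⟨⟨Q.comap (lMap g⁻¹).toRingHom, inferInstance⟩, PrimeSpectrum.ext ?_⟩
      show (Q.comap (lMap g⁻¹).toRingHom).comap A.val.toRingHom = m.asIdeal
      have h2 : (Q.comap A.val.toRingHom).comap (L g⁻¹).toRingHom = m.asIdeal := by
        rw [hQm, Ideal.comap_comap]
        refine Eq.trans (congrArg (fun r => Ideal.comap r m.asIdeal) (?_ : _ = RingHom.id A)) (Ideal.comap_id _)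
        refine RingHom.ext fun x => Subtype.ext (ext_pts fun y => ?_)
        show pfn y (lMap g (lMap g⁻¹ (x : Fn G))) = pfn y (x : Fn G)
        rw [pfn_lMap, pfn_lMap, inv_mul_cancel_left]
      rw [← h2, Ideal.comap_comap, Ideal.comap_comap]
      rfl
  rw [key]
  exact isOpen_iUnion fun g => (PrimeSpectrum.basicOpen _).2

/-- Outside the image the codimension is at least two. -/
theorem two_le_height (p : PrimeSpectrum (invAlg i))
    (hp : p ∉ Set.range (PrimeSpectrum.comap (invAlg i).val.toRingHom)) : (2 : ℕ∞) ≤ p.asIdeal.height := by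
  classical
  haveI := hfg
  haveI := finiteType_fn G
  haveI := isReduced_grp G
  haveI : _root_.IsReduced (Fn G) := inferInstanceAs (_root_.IsReduced Γ(G.left, ⊤))
  haveI : IsNoetherianRing (invAlg i) := Algebra.FiniteType.isNoetherianRing k _
  haveI : IsNoetherianRing (Fn G) := Algebra.FiniteType.isNoetherianRing k _
  let A := invAlg i
  have hopen := isOpen_range_comap i hfg
  have hunit : p.asIdeal.map A.val.toRingHom = ⊤ := by
    by_contra h
    obtain ⟨Q, hQ, hQle⟩ := Ideal.exists_le_maximal _ h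
    haveI := hQ.isPrime
    refine hp (hopen.stableUnderGeneralization
      ((PrimeSpectrum.le_iff_specializes p (PrimeSpectrum.comap A.val.toRingHom ⟨Q, inferInstance⟩)).mp ?_) ⟨_, rfl⟩)
    exact Ideal.map_le_iff_le_comap.mp hQle
  have hfinB : (minimalPrimes (Fn G)).Finite := minimalPrimes.finite_of_isNoetherianRing _
  have hnot : ¬ ((p.asIdeal : Set A) ⊆ ⋃ P ∈ (hfinB.toFinset : Set (Ideal (Fn G))),
      ((P.comap A.val.toRingHom : Ideal A) : Set A)) := by
    rw [Ideal.subset_union_prime ⊥ ⊥ fun P hP _ _ => by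
      haveI : P.IsPrime := (hfinB.mem_toFinset.mp hP).1.1
      infer_instance]
    rintro ⟨P, hP, hle⟩
    refine (hfinB.mem_toFinset.mp hP).1.1.ne_top (top_le_iff.mp ?_)
    rw [← hunit, Ideal.map_le_iff_le_comap]
    exact hle
  obtain ⟨f, hfp, hfP⟩ := Set.not_subset.mp hnot
  simp only [Set.mem_iUnion, not_exists, Set.Finite.coe_toFinset] at hfP
  have hcancel : ∀ x : Fn G, (f : Fn G) * x = 0 → x = 0 := fun x hx => by
    have h : x ∈ sInf (minimalPrimes (Fn G)) := Submodule.mem_sInf.mpr fun (P : Ideal (Fn G)) hP =>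
      (hP.1.1.mem_or_mem (show (f : Fn G) * x ∈ P by rw [hx]; exact P.zero_mem)).resolve_left (hfP P hP)
    rw [minimalPrimes, Ideal.sInf_minimalPrimes] at h
    exact (Ideal.radical_eq_iff.mpr (Ideal.isRadical_bot)).le h
  have hminA : ∀ q' ∈ minimalPrimes A, f ∉ q' := fun q' hq' hfq' => by
    obtain ⟨P, hP, hPq⟩ := Ideal.exists_comap_eq_of_mem_minimalPrimes_of_injective
      (f := A.val.toRingHom) Subtype.val_injective q' hq'
    haveI := hP
    obtain ⟨P₀, hP₀, hle⟩ := Ideal.exists_minimalPrimes_le (I := (⊥ : Ideal (Fn G))) (J := P) bot_le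
    haveI := hP₀.1.1
    have hle' : P₀.comap A.val.toRingHom ≤ q' := hPq ▸ Ideal.comap_mono hle
    refine hfP P₀ hP₀ ?_
    exact (le_antisymm hle' (hq'.2 ⟨inferInstance, bot_le⟩ hle')).symm ▸ hfq'
  obtain ⟨q, hq, hqlt⟩ : ∃ q ∈ (Ideal.span {f}).minimalPrimes, q < p.asIdeal := by
    by_contra hnone
    push Not at hnone
    have hfinI : (Ideal.span {f}).minimalPrimes.Finite :=
      Ideal.finite_minimalPrimes_of_isNoetherianRing A _
    have hnle : ∀ q ∈ hfinI.toFinset.erase p.asIdeal, ∃ t, t ∈ q ∧ t ∉ p.asIdeal := fun q hq => by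
      rw [Finset.mem_erase, Set.Finite.mem_toFinset] at hq
      exact SetLike.not_le_iff_exists.mp fun h => hnone q hq.2 (lt_of_le_of_ne h hq.1)
    choose! t ht1 ht2 using hnle
    let T := ∏ q ∈ hfinI.toFinset.erase p.asIdeal, t q
    have hT : T ∉ p.asIdeal := fun h => by
      obtain ⟨x, hx, hxp⟩ := (Ideal.IsPrime.prod_mem_iff (p := p.asIdeal)).mp h
      exact ht2 x hx hxp
    have hrad : Ideal.span {T} * p.asIdeal ≤ (Ideal.span {f}).radical := by
      rw [← Ideal.sInf_minimalPrimes]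
      refine le_sInf fun q hq => ?_
      by_cases hqp : q = p.asIdeal
      · exact hqp ▸ Ideal.mul_le_right
      · have hmem : q ∈ hfinI.toFinset.erase p.asIdeal := Finset.mem_erase.mpr ⟨hqp, hfinI.mem_toFinset.mpr hq⟩
        exact Ideal.mul_le_left.trans ((Ideal.span_singleton_le_iff_mem q).mpr
          (q.mem_of_dvd (Finset.dvd_prod_of_mem t hmem) (ht1 q hmem)))
    obtain ⟨n, hn⟩ := Ideal.exists_pow_le_of_le_radical_of_fg hrad (IsNoetherian.noetherian _)
    rw [mul_pow, Ideal.span_singleton_pow] at hn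
    have hn' := Ideal.map_mono (f := A.val.toRingHom) hn
    rw [Ideal.map_mul, Ideal.map_pow, hunit, Ideal.top_pow, Ideal.mul_top, Ideal.map_span, Ideal.map_span,
      Set.image_singleton, Set.image_singleton, Ideal.span_singleton_le_span_singleton] at hn'
    obtain ⟨r, hr⟩ := hn'
    have hrA : r ∈ A := fun h => by
      refine sub_eq_zero.mp (hcancel _ ?_)
      have h1 := congrArg (rMap (h ≫ i)) hr
      change rMap (h ≫ i) ((T ^ n : A) : Fn G) = rMap (h ≫ i) ((f : Fn G) * r) at h1
      rw [(T ^ n).2 h, map_mul, f.2 h] at h1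
      rw [mul_sub, ← h1]
      exact sub_eq_zero.mpr hr
    have hT' : T ^ n = f * ⟨r, hrA⟩ := Subtype.ext hr
    exact hT (p.2.mem_of_pow_mem n (hT' ▸ p.asIdeal.mul_mem_right _ hfp))
  haveI := hq.1.1
  obtain ⟨q₀, hq₀, hle₀⟩ := Ideal.exists_minimalPrimes_le (I := (⊥ : Ideal A)) (J := q) bot_le
  haveI := hq₀.1.1
  have hlt₀ : q₀ < q := lt_of_le_of_ne hle₀ fun e =>
    hminA q₀ hq₀ (e ▸ hq.1.2 (Ideal.mem_span_singleton_self f))
  have h1 := Ideal.height_add_one_le_of_lt_of_isPrime hlt₀
  have h2 := Ideal.height_add_one_le_of_lt_of_isPrime hqlt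
  refine le_trans ?_ h2
  calc (2 : ℕ∞) = 0 + 1 + 1 := by norm_num
    _ ≤ q.height + 1 := add_le_add ((add_le_add_left ((zero_le (a := q₀.height))) 1).trans h1) le_rfl

end Groth.Agent.Obs28
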