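import Groth.Agent.Obs28.Ops
import Mathlib.RingTheory.Noetherian.Basic
import Mathlib.RingTheory.FiniteType

/-! Invariant functions of a subgroup, its hull, and stabilisers of vectors. -/

universe u

open CategoryTheory MonoidalCategory CartesianMonoidalCategory MonObj GrpObj AlgebraicGeometry
open scoped TensorProduct

namespace Groth.Agent.Obs28

open GrpSchLib.Kunneth

set_option linter.unusedSectionVars false
set_option linter.style.haveILetI false

variable {k : Type u} [Field k] {G H : Over (Spec (CommRingCat.of k))}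

theorem finiteType_fn (X : Over (Spec (CommRingCat.of k))) [IsAffine X.left] [LocallyOfFiniteType X.hom] :
    Algebra.FiniteType k (Fn X) := by
  have h : X.hom.appTop.hom.FiniteType :=
    (HasRingHomProperty.iff_of_isAffine (P := @LocallyOfFiniteType)).mp inferInstance
  have h2 : (Scheme.ΓSpecIso (CommRingCat.of k)).inv.hom.FiniteType :=
    RingHom.FiniteType.of_surjective _ (ConcreteCategory.bijective_of_isIso _).2
  have h3 := h.comp h2
  exact RingHom.finiteType_algebraMap.mp h3

theorem isAffine_of_closed (i : H ⟶ G) [IsClosedImmersion i.left] [IsAffine G.left] : IsAffine H.left :=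
  (IsClosedImmersion.isAffine_surjective_of_isAffine i.left).1

theorem ev_surjective (i : H ⟶ G) [IsClosedImmersion i.left] [IsAffine G.left] :
    Function.Surjective (ev i) :=
  (IsClosedImmersion.isAffine_surjective_of_isAffine i.left).2

/-- The point factors through the subgroup. -/
def Mem (i : H ⟶ G) (g : Rat G) : Prop := ∃ h : Rat H, h ≫ i = g

theorem mem_of_vanish (i : H ⟶ G) [IsClosedImmersion i.left] [IsAffine G.left] (g : Rat G)
    (h : ∀ f : Fn G, ev i f = 0 → pfn g f = 0) : Mem i g := by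
  haveI := isAffine_of_closed i
  let φ : Fn H →ₐ[k] k := AlgHom.liftOfSurjective (ev i) (ev_surjective i) (pfn g) fun a ha => h a ha
  refine ⟨VecGrp.ptMap φ ≫ univ H, pfn_injective (AlgHom.ext fun a => ?_)⟩
  rw [pfn_comp, pfn_ptMap, pfn_univ]
  exact DFunLike.congr_fun (AlgHom.liftOfSurjective_comp (ev i) (ev_surjective i) (pfn g) _) a

variable [IsAlgClosed k] [GrpObj G] [GrpObj H] [IsAffine G.left] [Smooth G.hom]

theorem Mem.one (i : H ⟶ G) [IsMonHom i] : Mem i 1 := ⟨1, MonObj.one_comp _⟩

theorem Mem.mul {i : H ⟶ G} [IsMonHom i] {a b : Rat G} (ha : Mem i a) (hb : Mem i b) : Mem i (a * b) := by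
  obtain ⟨x, rfl⟩ := ha; obtain ⟨y, rfl⟩ := hb
  exact ⟨x * y, MonObj.mul_comp _ _ _⟩

/-- Left translation of functions by a rational point. -/
noncomputable def lMap (a : Rat G) : Fn G →ₐ[k] Fn G := ev (cst a * 𝟙 G)

theorem pfn_lMap (x a : Rat G) (f : Fn G) : pfn x (lMap a f) = pfn (a * x) f := by
  rw [lMap, ← pfn_comp, MonObj.comp_mul, Category.comp_id, comp_cst, cst_pt]

theorem rMap_lMap (a g : Rat G) (f : Fn G) : rMap g (lMap a f) = lMap a (rMap g f) := by
  haveI := isReduced_grp G
  exact ext_pts fun x => by rw [pfn_rMap', pfn_lMap, pfn_lMap, pfn_rMap', _root_.mul_assoc]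

variable (i : H ⟶ G) [IsAffine H.left] [Smooth H.hom]

/-- Invariance of a function under right translation by the rational points of the subgroup. -/
def Inv' (f : Fn G) : Prop := ∀ h : Rat H, rMap (h ≫ i) f = f

theorem inv'_iff (f : Fn G) : AGF.IsRTransInv i f ↔ Inv' i f := isRTransInv_iff i f

theorem Inv'.lMap {f : Fn G} (hf : Inv' i f) (a : Rat G) : Inv' i (Obs28.lMap a f) := fun h => by
  rw [rMap_lMap, hf h]

theorem Inv'.apply {f : Fn G} (hf : Inv' i f) (g : Rat G) (h : Rat H) : pfn (g * (h ≫ i)) f = pfn g f := by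
  rw [← pfn_rMap', hf h]

/-- The point fixes all invariants of the subgroup. -/
def Fix (g : Rat G) : Prop := ∀ f : Fn G, Inv' i f → rMap g f = f

theorem fix_iff (g : Rat G) : Fix i g ↔ ∀ f : Fn G, Inv' i f → pfn g f = pfn 1 f := by
  constructor
  · intro h f hf
    rw [← _root_.one_mul g, ← pfn_rMap', h f hf]
  · intro h f hf
    haveI := isReduced_grp G
    refine ext_pts fun x => ?_
    have := h _ (Inv'.lMap i hf x)
    rwa [pfn_lMap, pfn_lMap, _root_.mul_one, ← pfn_rMap'] at this

theorem observable_iff : AGF.IsObservableIn k i ↔ ∀ g, Fix i g → Mem i g := by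
  refine forall_congr' fun g => ?_
  simp only [inv'_iff, isRTransInv_pt_iff]
  rfl

theorem fix_of_agree {g g' : Rat G} (h : ∀ f : Fn G, Inv' i f → pfn g f = pfn g' f) : Fix i (g⁻¹ * g') := by
  rw [fix_iff]
  intro f hf
  have := h _ (Inv'.lMap i hf g⁻¹)
  rw [pfn_lMap, pfn_lMap, inv_mul_cancel] at this
  exact this.symm

/-- Finitely many invariants separate as much as all invariants. -/
theorem exists_finset_sep : ∃ s : Finset (Fn G), (∀ f ∈ s, Inv' i f) ∧
    ∀ g g' : Rat G, (∀ f ∈ s, pfn g f = pfn g' f) → ∀ f, Inv' i f → pfn g f = pfn g' f := by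
  classical
  haveI := finiteType_fn G
  haveI : Algebra.FiniteType k (Fn G ⊗[k] Fn G) :=
    Algebra.FiniteType.trans (S := Fn G) inferInstance inferInstance
  haveI : IsNoetherianRing (Fn G ⊗[k] Fn G) := Algebra.FiniteType.isNoetherianRing k _
  let φ : Fn G → Fn G ⊗[k] Fn G := fun f => f ⊗ₜ 1 - 1 ⊗ₜ f
  obtain ⟨t, ht1, ht2⟩ := (Submodule.fg_span_iff_fg_span_finset_subset
    (R := Fn G ⊗[k] Fn G) (φ '' {f | Inv' i f})).1 (IsNoetherian.noetherian _)
  choose! pre hpre using fun x (hx : x ∈ t) => ht1 hx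
  refine ⟨t.image pre, fun f hf => ?_, fun g g' hgg f hf => ?_⟩
  · obtain ⟨x, hx, rfl⟩ := Finset.mem_image.mp hf
    exact (hpre x hx).1
  let χ : Fn G ⊗[k] Fn G →ₐ[k] k := Algebra.TensorProduct.lift (pfn g) (pfn g') fun _ _ => .all _ _
  have hχ : ∀ a, χ (φ a) = pfn g a - pfn g' a := fun a => by simp [χ, φ]
  have hle : Submodule.span (Fn G ⊗[k] Fn G) (t : Set (Fn G ⊗[k] Fn G)) ≤ RingHom.ker χ := by
    refine Submodule.span_le.mpr fun x hx => ?_
    show χ x = 0
    rw [← (hpre x hx).2, hχ, hgg _ (Finset.mem_image_of_mem _ hx), sub_self]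
  have hmem : φ f ∈ Submodule.span (Fn G ⊗[k] Fn G) (φ '' {f | Inv' i f}) := Submodule.subset_span ⟨f, hf, rfl⟩
  have := hle (ht2 ▸ hmem)
  exact sub_eq_zero.mp ((hχ f).symm.trans this)

section Coeff

variable {M : Type u} [AddCommGroup M] [Module k M] {π : Rat G →* (M ≃ₗ[k] M)} (hπ : IsRegular π)

/-- The function `g ↦ φ (g · v)`. -/
noncomputable def coeff (φ : M →ₗ[k] k) (v : M) : Fn G :=
  TensorProduct.rid k (Fn G) (φ.lTensor (Fn G) (regCoact hπ v))

theorem pfn_coeff (φ : M →ₗ[k] k) (v : M) (g : Rat G) : pfn g (coeff hπ φ v) = φ (π g v) := by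
  rw [coeff, ← evl_regCoact hπ g v]
  generalize regCoact hπ v = z
  induction z using TensorProduct.induction_on with
  | zero => simp
  | tmul a m => simp [mul_comm]
  | add p q hp hq => simp only [map_add, hp, hq]

theorem inv'_coeff {v : M} (hv : ∀ h : Rat H, π (h ≫ i) v = v) (φ : M →ₗ[k] k) : Inv' i (coeff hπ φ v) := by
  haveI := isReduced_grp G
  exact fun h => ext_pts fun x => by rw [pfn_rMap', pfn_coeff, pfn_coeff, map_mul, LinearEquiv.mul_apply, hv h]

include hπ in
theorem fixed_of_fix {v : M} (hv : ∀ h : Rat H, π (h ≫ i) v = v) {g : Rat G} (hg : Fix i g) :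
    π g v = v := by
  refine Module.forall_dual_apply_eq_zero_iff k (π g v - v) |>.mp (fun φ => ?_) |> sub_eq_zero.mp
  have := (fix_iff i g).mp hg _ (inv'_coeff i hπ hv φ)
  rw [pfn_coeff, pfn_coeff, map_one] at this
  rw [map_sub, this]
  exact sub_self _

include hπ in
theorem observable_of_stab {v : M} (hv : ∀ g, π g v = v ↔ Mem i g) : AGF.IsObservableIn k i :=
  (observable_iff i).mpr fun g hg =>
    (hv g).mp (fixed_of_fix i hπ (fun h => (hv _).mpr ⟨h, rfl⟩) hg)

end Coeff

section Pi

variable {J : Type u} [Finite J] {M : Type u} [AddCommGroup M] [Module k M] (π : Rat G →* (M ≃ₗ[k] M))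

variable (J) in
/-- Finite powers of a representation. -/
noncomputable def piPi : Rat G →* ((J → M) ≃ₗ[k] (J → M)) where
  toFun g := LinearEquiv.piCongrRight fun _ => π g
  map_one' := by ext v j; simp
  map_mul' g h := by ext v j; simp

theorem piPi_apply (g : Rat G) (v : J → M) (j : J) : piPi J π g v j = π g (v j) := rfl

theorem piPi_regular (hπ : IsRegular π) : IsRegular (piPi J π) := by
  classical
  haveI := Fintype.ofFinite J
  intro v
  choose z hz using hπ
  refine ⟨∑ j, (LinearMap.single k (fun _ => M) j).lTensor (Fn G) (z (v j)), fun g => ?_⟩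
  rw [map_sum]
  simp only [evl_lTensor, ← hz]
  exact (Finset.univ_sum_single (piPi J π g v)).symm

end Pi

/-- A finite separating family of invariants gives a vector with stabiliser the subgroup. -/
theorem exists_stab_of_sep [IsMonHom i] (s : Finset (Fn G)) (hs : ∀ f ∈ s, Inv' i f)
    (hsep : ∀ g g' : Rat G, (∀ f ∈ s, pfn g f = pfn g' f) → ∃ h : Rat H, g' = g * (h ≫ i)) :
    ∃ (V : Type u) (_ : AddCommGroup V) (_ : Module k V) (_ : Module.Finite k V)
      (π : Rat G →* (V ≃ₗ[k] V)) (_ : IsRegular π) (v : V), ∀ g, π g v = v ↔ Mem i g := by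
  classical
  let W := orbitSpan (rPi (G := G)) (s : Set (Fn G))
  haveI : Module.Finite k W := finite_orbitSpan rPi_regular s.finite_toSet
  let πW := subPi (rPi (G := G)) W (orbitSpan_stable _ _)
  haveI : Finite ↥s := Finset.finite_toSet s |>.to_subtype
  refine ⟨↥s → W, inferInstance, inferInstance, inferInstance, piPi ↥s πW,
    piPi_regular _ (subPi_regular _ _ _ rPi_regular), fun f => ⟨f.1, subset_orbitSpan _ _ f.2⟩, fun g => ?_⟩
  constructor
  · intro hg
    obtain ⟨h, hh⟩ := hsep 1 g fun f hf => by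
      have := congrArg Subtype.val (congrFun hg ⟨f, hf⟩)
      rw [piPi_apply, subPi_coe, rPi_apply] at this
      rw [← _root_.one_mul g, ← pfn_rMap', this]
    exact ⟨h, by rw [hh, _root_.one_mul]⟩
  · rintro ⟨h, rfl⟩
    refine funext fun f => Subtype.ext ?_
    rw [piPi_apply, subPi_coe, rPi_apply]
    exact hs f.1 f.2 h

/-- An observable subgroup has a finite separating family of invariants. -/
theorem exists_sep_of_observable (h : AGF.IsObservableIn k i) :
    ∃ s : Finset (Fn G), (∀ f ∈ s, Inv' i f) ∧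
      ∀ g g' : Rat G, (∀ f ∈ s, pfn g f = pfn g' f) → ∃ h : Rat H, g' = g * (h ≫ i) := by
  obtain ⟨s, hs, hsep⟩ := exists_finset_sep i
  refine ⟨s, hs, fun g g' hgg => ?_⟩
  obtain ⟨x, hx⟩ := (observable_iff i).mp h _ (fix_of_agree i (hsep g g' hgg))
  exact ⟨x, by rw [hx, mul_inv_cancel_left]⟩

theorem exists_stab_of_observable [IsMonHom i] (h : AGF.IsObservableIn k i) :
    ∃ (V : Type u) (_ : AddCommGroup V) (_ : Module k V) (_ : Module.Finite k V)
      (π : Rat G →* (V ≃ₗ[k] V)) (_ : IsRegular π) (v : V), ∀ g, π g v = v ↔ Mem i g := by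
  obtain ⟨s, hs, hsep⟩ := exists_sep_of_observable i h
  exact exists_stab_of_sep i s hs hsep

end Groth.Agent.Obs28
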