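import Groth.Agent.Obs28.Unip.Main
import Groth.Agent.Obs28.Hull

/-! Minimal primes are stable under connected groups. -/

universe u

open CategoryTheory MonoidalCategory CartesianMonoidalCategory MonObj GrpObj AlgebraicGeometry
open scoped TensorProduct

namespace Groth.Agent.Obs28

open GrpSchLib.Kunneth

set_option linter.unusedSectionVars false
set_option linter.style.haveILetI false

variable {k : Type u} [Field k] [IsAlgClosed k] {G : Over (Spec (CommRingCat.of k))} [GrpObj G]
  [IsAffine G.left] [Smooth G.hom] [ConnectedSpace G.left]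

/-- The functions of a connected group form a domain. -/
theorem isDomain_fn : IsDomain (Fn G) := by
  haveI := Unip.isIntegral_grp (G := G)
  exact inferInstanceAs (IsDomain Γ(G.left, ⊤))

/-- Inside a prime, the elements all of whose translates lie in it form a prime. -/
theorem exists_prime_core {A : Type u} [CommRing A] [Algebra k A] {ρ : VecGrp.GMod G A} (hρ : ρ.IsMult)
    (p : Ideal A) [p.IsPrime] : ∃ P : Ideal A, P.IsPrime ∧ P ≤ p ∧ ∀ y, y ∈ P ↔ ∀ g, rep ρ g y ∈ p := by
  haveI := isDomain_fn (G := G)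
  haveI := isReduced_grp G
  set π := rep ρ
  let P : Ideal A :=
    { carrier := {y | ∀ g : Rat G, π g y ∈ p}
      add_mem' := fun hy hz g => by rw [map_add]; exact p.add_mem (hy g) (hz g)
      zero_mem' := fun g => by rw [map_zero]; exact p.zero_mem
      smul_mem' := fun c y hy g => by
        rw [smul_eq_mul, rep_mul ρ hρ]; exact p.mul_mem_left _ (hy g) }
  have hle : P ≤ p := fun y hy => by
    have := hy 1
    rwa [show π 1 y = y by rw [map_one]; rfl] at this
  have hP : P.IsPrime := by
    refine ⟨fun e => ?_, fun {y z} hyz => ?_⟩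
    · exact Ideal.IsPrime.ne_top ‹p.IsPrime› (top_le_iff.mp (e ▸ hle))
    · by_contra hh
      obtain ⟨⟨g₁, h₁⟩, g₂, h₂⟩ : (∃ g, π g y ∉ p) ∧ ∃ g, π g z ∉ p :=
        ⟨by simpa using fun h : ∀ g, π g y ∈ p => hh (Or.inl h),
          by simpa using fun h : ∀ g, π g z ∈ p => hh (Or.inr h)⟩
      have hne : ∀ a : A, a ∉ p → ∃ φ : A →ₗ[k] k, φ a ≠ 0 ∧ ∀ b ∈ p, φ b = 0 := fun a ha => by
        obtain ⟨φ, hφ, hφp⟩ := Submodule.exists_dual_map_eq_bot_of_notMem
          (p := p.restrictScalars k) ha inferInstance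
        exact ⟨φ, hφ, fun b hb => (Submodule.mem_bot k).mp (hφp ▸ Submodule.mem_map_of_mem hb)⟩
      obtain ⟨φ, hφ, hφp⟩ := hne _ h₁
      obtain ⟨ψ, hψ, hψp⟩ := hne _ h₂
      have hprod : coeff (rep_isRegular ρ) φ y * coeff (rep_isRegular ρ) ψ z = 0 := ext_pts fun g => by
        rw [map_mul, map_zero, pfn_coeff, pfn_coeff]
        have := hyz g
        rw [rep_mul ρ hρ] at this
        rcases ‹p.IsPrime›.mem_or_mem this with h | h
        · rw [hφp _ h, MulZeroClass.zero_mul]
        · rw [hψp _ h, MulZeroClass.mul_zero]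
      rcases mul_eq_zero.mp hprod with h | h
      · exact hφ (by rw [← pfn_coeff (rep_isRegular ρ), h, map_zero])
      · exact hψ (by rw [← pfn_coeff (rep_isRegular ρ), h, map_zero])
  exact ⟨P, hP, hle, fun _ => Iff.rfl⟩

/-- A minimal prime is stable under a connected group of automorphisms. -/
theorem minimalPrime_stable {A : Type u} [CommRing A] [Algebra k A] {ρ : VecGrp.GMod G A} (hρ : ρ.IsMult)
    {p : Ideal A} (hp : p ∈ minimalPrimes A) (g : Rat G) {x : A} (hx : x ∈ p) : rep ρ g x ∈ p := by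
  haveI : p.IsPrime := hp.1.1
  obtain ⟨P, hP, hle, hmem⟩ := exists_prime_core hρ p
  exact (hmem x).mp (hp.2 ⟨hP, bot_le⟩ hle hx) g

/-- In a reduced algebra the translates of a pair of zero divisors stay orthogonal. -/
theorem mul_rep_eq_zero {A : Type u} [CommRing A] [_root_.IsReduced A] [Algebra k A] {ρ : VecGrp.GMod G A}
    (hρ : ρ.IsMult) {a b : A} (hab : a * b = 0) (g g' : Rat G) : rep ρ g a * rep ρ g' b = 0 := by
  have h : rep ρ g a * rep ρ g' b ∈ sInf (minimalPrimes A) := Submodule.mem_sInf.mpr fun (p : Ideal A) hp => by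
    haveI : p.IsPrime := hp.1.1
    rcases Ideal.IsPrime.mem_or_mem ‹p.IsPrime› (show a * b ∈ p by rw [hab]; exact p.zero_mem) with h | h
    · exact p.mul_mem_right _ (minimalPrime_stable hρ hp g h)
    · exact p.mul_mem_left _ (minimalPrime_stable hρ hp g' h)
  rw [minimalPrimes, Ideal.sInf_minimalPrimes] at h
  exact (Ideal.radical_eq_iff.mpr (Ideal.isRadical_bot)).le h

end Groth.Agent.Obs28
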