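import Groth.Agent.Obs28.Comp
import Groth.Agent.Obs28.OrbitImage
import Groth.Agent.Obs28.FinInv
import Groth.Agent.Obs28.Primes

/-! Finite generation of invariants and components. -/

universe u

open CategoryTheory MonoidalCategory CartesianMonoidalCategory MonObj GrpObj AlgebraicGeometry
open scoped TensorProduct

namespace Groth.Agent.Obs28

open GrpSchLib.Kunneth

set_option linter.unusedSectionVars false
set_option linter.style.haveILetI false

variable {k : Type u} [Field k] [IsAlgClosed k] {G H K : Over (Spec (CommRingCat.of k))} [GrpObj G] [GrpObj H]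
  [GrpObj K] [IsAffine G.left] [Smooth G.hom] [IsAffine H.left] [Smooth H.hom] [IsAffine K.left] [Smooth K.hom]

theorem subringFG_iff (i : H ⟶ G) :
    AGF.SubringFGOver k G (AGF.rTransInv i) ↔ Algebra.FiniteType k (invAlg i) := by
  refine ⟨fg_invAlg i, fun h => ?_⟩
  obtain ⟨s, hs⟩ := (Subalgebra.fg_iff_finiteType _).mpr h
  refine ⟨s, fun x hx => (mem_rTransInv_iff' i).mpr (hs ▸ Algebra.subset_adjoin hx), fun x hx => ?_⟩
  have hx' : x ∈ Algebra.adjoin k (s : Set (Fn G)) := hs ▸ (mem_rTransInv_iff' i).mp hx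
  induction hx' using Algebra.adjoin_induction with
  | mem y hy => exact Subring.subset_closure (Or.inr hy)
  | algebraMap c => exact Subring.subset_closure (Or.inl ⟨c, rfl⟩)
  | add a b ha hb iha ihb =>
    exact add_mem (iha ((mem_rTransInv_iff' i).mpr (hs ▸ ha))) (ihb ((mem_rTransInv_iff' i).mpr (hs ▸ hb)))
  | mul a b ha hb iha ihb =>
    exact mul_mem (iha ((mem_rTransInv_iff' i).mpr (hs ▸ ha))) (ihb ((mem_rTransInv_iff' i).mpr (hs ▸ hb)))

/-- An open subgroup is stable under conjugation by rational points if it is connected. -/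
theorem conj_mem (j : K ⟶ H) [IsMonHom j] [IsOpenImmersion j.left] [ConnectedSpace K.left] (h : Rat H) (x : Rat K) :
    Mem j (h * (x ≫ j) * h⁻¹) := by
  haveI := isClosedImmersion_of_open j
  let f : K ⟶ H := cst h * j * cst h⁻¹
  have hf : ∀ y : Rat K, y ≫ f = h * (y ≫ j) * h⁻¹ := fun y => by
    simp only [f, MonObj.comp_mul, comp_cst, cst_pt]
  have hsub : Set.range f.left.base ⊆ Set.range j.left.base := by
    refine (isPreconnected_range f.left.base.hom.continuous).subset_isClopen
      ⟨j.left.isClosedEmbedding.isClosed_range, j.left.isOpenEmbedding.isOpen_range⟩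
      ⟨ptx ((1 : Rat K) ≫ f), ⟨_, rfl⟩, ?_⟩
    rw [hf, MonObj.one_comp, _root_.mul_one, mul_inv_cancel]
    exact (mem_iff_ptx j 1).mp (Mem.one j)
  rw [← hf, mem_iff_ptx, ptx_comp]
  exact hsub ⟨_, rfl⟩

section Ext

variable (j : K ⟶ G) [IsMonHom j] [IsOpenImmersion j.left]

theorem exists_extFn (f : Fn K) : ∃ F : Fn G, ev j F = f ∧ ∀ y, ¬ Mem j y → pfn y F = 0 := by
  haveI := isClosedImmersion_of_open j
  haveI := isReduced_grp K
  obtain ⟨e, he1, he⟩ := exists_indicator j
  obtain ⟨F, rfl⟩ := ev_surjective j f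
  refine ⟨e * F, ext_pts fun x => ?_, fun y hy => by rw [map_mul, he y hy, zero_mul]⟩
  rw [← pfn_comp, ← pfn_comp, map_mul, he1 _ ⟨x, rfl⟩, _root_.one_mul]

/-- Extension by zero from an open subgroup. -/
noncomputable def extFn (f : Fn K) : Fn G := (exists_extFn j f).choose

theorem ev_extFn (f : Fn K) : ev j (extFn j f) = f := (exists_extFn j f).choose_spec.1

theorem pfn_extFn_mem (f : Fn K) (x : Rat K) : pfn (x ≫ j) (extFn j f) = pfn x f := by
  rw [pfn_comp, ev_extFn]

theorem pfn_extFn_not (f : Fn K) {y : Rat G} (hy : ¬ Mem j y) : pfn y (extFn j f) = 0 :=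
  (exists_extFn j f).choose_spec.2 y hy

theorem extFn_add (f g : Fn K) : extFn j (f + g) = extFn j f + extFn j g := by
  haveI := isReduced_grp G
  refine ext_pts fun y => ?_
  by_cases hy : Mem j y
  · obtain ⟨x, rfl⟩ := hy; simp only [map_add, pfn_extFn_mem]
  · simp [pfn_extFn_not j _ hy]

theorem extFn_mul (f g : Fn K) : extFn j (f * g) = extFn j f * extFn j g := by
  haveI := isReduced_grp G
  refine ext_pts fun y => ?_
  by_cases hy : Mem j y
  · obtain ⟨x, rfl⟩ := hy; simp only [map_mul, pfn_extFn_mem]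
  · simp [pfn_extFn_not j _ hy]

theorem extFn_algebraMap (c : k) : extFn j (algebraMap k (Fn K) c) = c • extFn j 1 := by
  haveI := isReduced_grp G
  refine ext_pts fun y => ?_
  by_cases hy : Mem j y
  · obtain ⟨x, rfl⟩ := hy; rw [map_smul, pfn_extFn_mem, pfn_extFn_mem, AlgHom.commutes, map_one]; simp
  · rw [map_smul, pfn_extFn_not j _ hy, pfn_extFn_not j _ hy, smul_zero]

end Ext

section Norm

variable (a : K ⟶ G) (P : Subgroup (Rat G))
  (hnorm : ∀ p ∈ P, ∀ y : Rat K, ∃ y' : Rat K, p⁻¹ * (y ≫ a) * p = y' ≫ a)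

/-- The functions invariant under a group of rational points. -/
noncomputable def invP : Subalgebra k (Fn G) where
  carrier := {f | ∀ p ∈ P, rMap p f = f}
  mul_mem' {f g} hf hg p hp := by rw [map_mul, hf p hp, hg p hp]
  one_mem' p hp := map_one _
  add_mem' {f g} hf hg p hp := by rw [map_add, hf p hp, hg p hp]
  zero_mem' p hp := map_zero _
  algebraMap_mem' c p hp := AlgHom.commutes _ c

include hnorm in
theorem rMap_mem (p : P) {f : Fn G} (hf : f ∈ invAlg a) : rMap (p : Rat G) f ∈ invAlg a := fun y => by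
  haveI := isReduced_grp G
  obtain ⟨y', hy'⟩ := hnorm p p.2 y
  refine ext_pts fun x => ?_
  rw [pfn_rMap', pfn_rMap', pfn_rMap', show x * (y ≫ a) * (p : Rat G) = x * p * (y' ≫ a) by rw [← hy']; group,
    Inv'.apply a hf]

/-- The action of the normalizing points on the invariants. -/
noncomputable def normHom (p : P) : invAlg a →ₐ[k] invAlg a :=
  ((rMap (p : Rat G)).comp (invAlg a).val).codRestrict _ fun f => rMap_mem a P hnorm p f.2

theorem coe_normHom (p : P) (f : invAlg a) : (normHom a P hnorm p f : Fn G) = rMap (p : Rat G) f := rfl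

noncomputable def normAct : P →* (invAlg a ≃ₐ[k] invAlg a) where
  toFun p := AlgEquiv.ofAlgHom (normHom a P hnorm p) (normHom a P hnorm p⁻¹)
    (by haveI := isReduced_grp G; exact AlgHom.ext fun f => Subtype.ext (ext_pts fun x => by
          simp [coe_normHom, pfn_rMap']))
    (by haveI := isReduced_grp G; exact AlgHom.ext fun f => Subtype.ext (ext_pts fun x => by
          simp [coe_normHom, pfn_rMap']))
  map_one' := by
    haveI := isReduced_grp G
    exact AlgEquiv.ext fun f => Subtype.ext (ext_pts fun x => by simp [coe_normHom, pfn_rMap'])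
  map_mul' p q := by
    haveI := isReduced_grp G
    exact AlgEquiv.ext fun f => Subtype.ext (ext_pts fun x => by
      simp [coe_normHom, pfn_rMap', _root_.mul_assoc])

theorem coe_normAct (p : P) (f : invAlg a) : (normAct a P hnorm p f : Fn G) = rMap (p : Rat G) f := rfl

variable (hle : ∀ y : Rat K, y ≫ a ∈ P) {Q : Type u} [Finite Q] (q : P → Q)
  (hq : ∀ p p', q p = q p' → ∃ y : Rat K, (p' : Rat G) = p * (y ≫ a))

include hq in
theorem finite_range_normAct : Finite (normAct a P hnorm).range := by
  haveI := isReduced_grp G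
  choose pre hpre using fun γ : (normAct a P hnorm).range => MonoidHom.mem_range.mp γ.2
  refine Finite.of_injective (fun γ => q (pre γ)) fun γ δ h => Subtype.ext ?_
  rw [← hpre γ, ← hpre δ]
  obtain ⟨y, hy⟩ := hq _ _ h
  refine AlgEquiv.ext fun f => Subtype.ext (ext_pts fun x => ?_)
  rw [coe_normAct, coe_normAct, pfn_rMap', pfn_rMap', hy, ← _root_.mul_assoc, Inv'.apply a f.2]

/-- The fixed ring of the finite group is the ring of invariants. -/
noncomputable def invEquiv : FinInv.inv (normAct a P hnorm).range ≃ₐ[k] invP P :=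
  AlgEquiv.ofBijective (((invAlg a).val.comp (Subalgebra.val _)).codRestrict (invP P) fun f p hp =>
      congrArg Subtype.val (f.2 _ ⟨⟨p, hp⟩, rfl⟩))
    ⟨fun f g h => Subtype.ext (Subtype.ext (congrArg Subtype.val h :)),
      fun f => ⟨⟨⟨f, fun y => f.2 _ (hle y)⟩, by
        rintro _ ⟨p, rfl⟩
        exact Subtype.ext (f.2 _ p.2)⟩, rfl⟩⟩

include hnorm hle hq in
theorem finiteType_invP (h : Algebra.FiniteType k (invAlg a)) : Algebra.FiniteType k (invP P) := by
  haveI := finite_range_normAct a P hnorm q hq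
  exact (FinInv.finiteType_inv (normAct a P hnorm).range).equiv (invEquiv a P hnorm hle)

include hnorm hle hq in
theorem finiteType_of_invP [ConnectedSpace G.left] (h : Algebra.FiniteType k (invP P)) :
    Algebra.FiniteType k (invAlg a) := by
  haveI := finite_range_normAct a P hnorm q hq
  haveI := isDomain_fn (G := G)
  haveI : Algebra.FiniteType k (FinInv.inv (normAct a P hnorm).range) := h.equiv (invEquiv a P hnorm hle).symm
  exact FinInv.finiteType_of_inv (normAct a P hnorm).range

end Norm

end Groth.Agent.Obs28
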