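import Groth.Agent.Obs28.Unip.Main
import Groth.Agent.Obs28.Unip.Fixed
import Groth.Agent.GrpSchLib.GLnHom
import Groth.Agent.GrpSchLib.Syntomic

/-! Homomorphisms to the general linear group from regular representations. -/

universe u

open CategoryTheory MonoidalCategory CartesianMonoidalCategory MonObj GrpObj AlgebraicGeometry
open scoped TensorProduct

namespace Groth.Agent.Obs28

open GrpSchLib.Kunneth

set_option linter.unusedSectionVars false
set_option linter.style.haveILetI false

variable {k : Type u} [Field k]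

theorem isAffine_GLn (n : ℕ) : IsAffine (FrB.GLn n (Spec (CommRingCat.of k))).left := by
  haveI : IsAffine (FrB.GLZ.{u} n).left := inferInstanceAs (IsAffine (Spec _))
  haveI : IsAffineHom (FrB.GLZ.{u} n).hom := inferInstance
  haveI : IsAffineHom (FrB.GLn n (Spec (CommRingCat.of k))).hom :=
    inferInstanceAs (IsAffineHom (Limits.pullback.snd _ _))
  exact isAffine_of_isAffineHom (FrB.GLn n (Spec (CommRingCat.of k))).hom

set_option backward.isDefEq.respectTransparency false in
set_option backward.isDefEq.respectTransparency.types false in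
theorem smooth_GLn (n : ℕ) : Smooth (FrB.GLn n (Spec (CommRingCat.of k))).hom := by
  let R := ULift.{u} ℤ
  haveI : Smooth (FrB.GLZ.{u} n).hom := by
    refine (HasRingHomProperty.Spec_iff (P := @Smooth)).mpr ?_
    haveI := GrpSchLib.Syntomic.formallySmooth_GLn R n
    haveI : Algebra.FiniteType R (CoordGrp.GLn n R) :=
      @Algebra.FiniteType.of_surjective _ _ _ _ _ _ _ _
        (inferInstance : Algebra.FiniteType R (MvPolynomial (CoordGrp.GLPoly.Idx n) R)) (CoordGrp.GLn.mk n R)
        Ideal.Quotient.mk_surjective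
    haveI : IsNoetherianRing R := isNoetherianRing_of_ringEquiv ℤ ULift.ringEquiv.symm
    haveI : Algebra.FinitePresentation R (CoordGrp.GLn n R) :=
      Algebra.FinitePresentation.of_finiteType.mp inferInstance
    exact RingHom.smooth_algebraMap.mpr ⟨inferInstance, inferInstance⟩
  exact inferInstanceAs (Smooth (Limits.pullback.snd _ _))

variable [IsAlgClosed k] {G : Over (Spec (CommRingCat.of k))} [GrpObj G] [IsAffine G.left] [Smooth G.hom]
  {V : Type u} [AddCommGroup V] [Module k V] {π : Rat G →* (V ≃ₗ[k] V)} (hπ : IsRegular π)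
  {n : ℕ} (b : Module.Basis (Fin n) k V)

section General

variable {J : Type} [Fintype J] [DecidableEq J] (bJ : Module.Basis J k V)

theorem fnMat_map_mul (T : Over (Spec (CommRingCat.of k))) (g h : T ⟶ G) :
    (Unip.fnMat hπ bJ).map (ev (g * h)) = (Unip.fnMat hπ bJ).map (ev g) * (Unip.fnMat hπ bJ).map (ev h) := by
  haveI : IsSeparated G.hom := GrpSchLib.AntiAffine.isSeparated_grp G
  haveI : IsAffine (G ⊗ G).left := inferInstanceAs (IsAffine (Limits.pullback G.hom G.hom))
  haveI : Smooth (G ⊗ G).hom := inferInstanceAs (Smooth (Limits.pullback.fst G.hom G.hom ≫ G.hom))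
  haveI : IsReduced (G ⊗ G).left := GrpSchLib.isReduced_of_smooth_field (G ⊗ G).hom
  have key : (Unip.fnMat hπ bJ).map (ev μ[G]) =
      (Unip.fnMat hπ bJ).map (ev (fst G G)) * (Unip.fnMat hπ bJ).map (ev (snd G G)) := Matrix.ext fun i j =>
    ext_pts fun w => by
      have e := congrFun (congrFun (map_mul (Unip.ptMat hπ bJ k) (w ≫ fst G G) (w ≫ snd G G)) i) j
      rw [Unip.ptMat_apply, Unip.ptMat_apply, Unip.ptMat_apply, Matrix.map_apply, Matrix.mul_apply] at e
      rw [Matrix.map_apply, ← pfn_comp, ← lift_comp_fst_snd w, ← Hom.mul_def, e, lift_comp_fst_snd,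
        Matrix.mul_apply, map_sum]
      exact Finset.sum_congr rfl fun l _ => by rw [map_mul]; rfl
  have hc : ∀ {A B C : Over (Spec (CommRingCat.of k))} (f : A ⟶ B) (f' : B ⟶ C) (M : Matrix J J (Fn C)),
      M.map (ev (f ≫ f')) = (M.map (ev f')).map (ev f) := fun f f' M => Matrix.ext fun _ _ => (ev_ev f f' _).symm
  rw [Hom.mul_def, hc, key, Matrix.map_mul, ← hc, ← hc, lift_fst, lift_snd]

theorem fnMat_map_one (T : Over (Spec (CommRingCat.of k))) :
    (Unip.fnMat hπ bJ).map (ev (1 : T ⟶ G)) = 1 := by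
  have h0 : (Unip.fnMat hπ bJ).map (ev (1 : Rat G)) = 1 := by
    refine Matrix.ext fun i j => ?_
    apply (ConcreteCategory.bijective_of_isIso (Scheme.ΓSpecIso (CommRingCat.of k)).hom).1
    show pfn (1 : Rat G) (Unip.fnMat hπ bJ i j) = _
    rw [← Matrix.map_apply (f := pfn (1 : Rat G)), ← Unip.ptMat_apply, map_one, Matrix.one_apply, Matrix.one_apply]
    split_ifs <;> simp
  rw [← cst_one, cst]
  refine Matrix.ext fun i j => ?_
  simp only [← Category.assoc]
  rw [Matrix.map_apply, ← ev_ev, ← Matrix.map_apply (f := ev (1 : Rat G)), h0, Matrix.one_apply,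
    Matrix.one_apply]
  split_ifs
  · exact map_one _
  · exact map_zero _

end General

include hπ in
theorem isRepMatrix_fnMat : IsRepMatrix (Unip.fnMat hπ b) := ⟨fnMat_map_mul hπ b, fnMat_map_one hπ b⟩

include hπ b in
/-- Two representations agreeing on a subgroup give homomorphisms to the general linear group agreeing on it. -/
theorem exists_homs_GL {H : Over (Spec (CommRingCat.of k))} [GrpObj H] [IsAffine H.left] [Smooth H.hom]
    (i : H ⟶ G) {π' : Rat G →* (V ≃ₗ[k] V)} (hπ' : IsRegular π')
    (hi : ∀ h : Rat H, π (h ≫ i) = π' (h ≫ i)) :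
    ∃ r s : G ⟶ FrB.GLn n (Spec (CommRingCat.of k)), IsMonHom r ∧ IsMonHom s ∧ i ≫ r = i ≫ s ∧
      (r = s → π = π') := by
  haveI := isReduced_grp H
  refine ⟨(isRepMatrix_fnMat hπ b).hom, (isRepMatrix_fnMat hπ' b).hom, (isRepMatrix_fnMat hπ b).isMonHom_hom,
    (isRepMatrix_fnMat hπ' b).isMonHom_hom, ?_, fun e => ?_⟩
  · rw [IsRepMatrix.hom, IsRepMatrix.hom, comp_matPt, comp_matPt]
    refine matPt_congr (Matrix.ext fun a c => ext_pts fun h => ?_)
    rw [Matrix.map_apply, Matrix.map_apply, ← pfn_comp, ← pfn_comp,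
      ← Matrix.map_apply (f := pfn (h ≫ i)), ← Matrix.map_apply (f := pfn (h ≫ i)) (M := Unip.fnMat hπ' b),
      Unip.map_fnMat, Unip.map_fnMat, hi]
  · have hM := matPt_injective e
    refine MonoidHom.ext fun g => LinearEquiv.toLinearMap_injective ((LinearMap.toMatrix b b).injective ?_)
    rw [← Unip.map_fnMat hπ b, ← Unip.map_fnMat hπ' b, hM]

end Groth.Agent.Obs28
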