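import Groth.Agent.Obs28.SepInv
import Groth.Agent.GrpSchLib.OrbitImmersion
import Groth.Agent.GrpSchLib.AntiAffineAction
import Mathlib.AlgebraicGeometry.QuasiAffine

/-! Quotients by observable subgroups are quasi-affine. -/

set_option backward.isDefEq.respectTransparency false
set_option backward.isDefEq.respectTransparency.types false

universe u

open CategoryTheory MonoidalCategory CartesianMonoidalCategory MonObj GrpObj AlgebraicGeometry
open scoped TensorProduct

namespace Groth.Agent.Obs28

open GrpSchLib GrpSchLib.Kunneth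

set_option linter.unusedSectionVars false
set_option linter.style.haveILetI false

variable {k : Type u} [Field k] [IsAlgClosed k] {G H : Over (Spec (CommRingCat.of k))} [GrpObj G] [GrpObj H]
  [IsAffine G.left] [Smooth G.hom] [IsAffine H.left] [Smooth H.hom] (i : H ⟶ G) [IsMonHom i]
  [IsClosedImmersion i.left] {X : Over (Spec (CommRingCat.of k))} {a : AlgGrp.Action G X}
  {o : 𝟙_ (Over (Spec (CommRingCat.of k))) ⟶ X} (hX : AGF.IsQuotient i X a o)

include hX

theorem quot_facts : LocallyOfFiniteType X.hom ∧ Flat (a.orbitMap o).left ∧ Surjective (a.orbitMap o).left ∧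
    LocallyOfFinitePresentation (a.orbitMap o).left ∧ CompactSpace X.left ∧ QuasiCompact (a.orbitMap o).left := by
  obtain ⟨hl, hfl, hs, -⟩ := hX
  haveI := hl; haveI := hfl; haveI := hs
  haveI : IsLocallyNoetherian X.left := LocallyOfFiniteType.isLocallyNoetherian X.hom
  haveI : LocallyOfFiniteType ((a.orbitMap o).left ≫ X.hom) := by rw [Over.w (a.orbitMap o)]; infer_instance
  haveI : LocallyOfFiniteType (a.orbitMap o).left := locallyOfFiniteType_of_comp _ X.hom
  haveI : CompactSpace G.left := inferInstance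
  haveI hc : CompactSpace X.left := ⟨by
    rw [← Set.range_eq_univ.mpr (a.orbitMap o).left.surjective]
    exact isCompact_range (a.orbitMap o).left.continuous⟩
  haveI : QuasiCompact ((a.orbitMap o).left ≫ X.hom) := by rw [Over.w (a.orbitMap o)]; infer_instance
  haveI : QuasiSeparatedSpace X.left := inferInstance
  haveI : QuasiSeparated X.hom := inferInstance
  exact ⟨hl, hfl, hs, inferInstance, hc, QuasiCompact.of_comp _ X.hom⟩

/-- The quotient by an observable subgroup is immersed in a representation. -/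
theorem exists_immersion (hobs : AGF.IsObservableIn k i) :
    ∃ (n : ℕ) (j : X ⟶ aff k n), IsImmersion j.left := by
  obtain ⟨hl, hfl, hs, hlfp, hc, -⟩ := quot_facts i hX
  haveI := hl; haveI := hfl; haveI := hs; haveI := hlfp
  obtain ⟨n, M, hM, v, hv⟩ := exists_vec_stab i hobs
  haveI := isReduced_grp G
  let act := hM.action
  let o' : 𝟙_ (Over (Spec (CommRingCat.of k))) ⟶ aff k n := affPt fun l => algebraMap k _ (v l)
  have horb : ∀ (T : Over (Spec (CommRingCat.of k))) (g : T ⟶ G) l,
      ev (g ≫ act.orbitMap o') (affCoord l) = ∑ j, ev g (M l j) * algebraMap k (Fn T) (v j) := fun T g l => by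
    rw [comp_orbitMap]
    show ev (lift g _ ≫ linAct M) (affCoord l) = _
    rw [ev_comp_linAct, lift_fst, lift_snd]
    refine Finset.sum_congr rfl fun j _ => ?_
    rw [← ev_ev (toUnit T) o', ev_affPt, AlgHom.commutes]
  have hconst : ∀ (T : Over (Spec (CommRingCat.of k))) (f : T ⟶ 𝟙_ _) l,
      ev (f ≫ o') (affCoord l) = algebraMap k (Fn T) (v l) := fun T f l => by
    rw [← ev_ev f o', ev_affPt, AlgHom.commutes]
  haveI : Mono i.left := inferInstance
  haveI : Mono i := Over.mono_of_mono_left i
  have sq : IsPullback i (toUnit H) (act.orbitMap o') o' := by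
    refine ⟨⟨aff_ext fun l => ?_⟩, ⟨Limits.PullbackCone.IsLimit.mk _ (fun s => ?_) (fun s => ?_) (fun s => ?_) ?_⟩⟩
    · rw [horb, hconst]
      exact (hv H i).mpr ⟨𝟙 H, Category.id_comp i⟩ l
    · exact ((hv s.pt s.fst).mp fun l => by rw [← horb, s.condition, hconst]).choose
    · exact ((hv s.pt s.fst).mp fun l => by rw [← horb, s.condition, hconst]).choose_spec
    · exact toUnit_unique _ _
    · intro s m hm _
      rw [← cancel_mono i, hm]
      exact ((hv s.pt s.fst).mp fun l => by rw [← horb, s.condition, hconst]).choose_spec.symm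
  obtain ⟨Q, q, m, ⟨hq1, hq2, hq3, hq4⟩, hQ, hmono, hqm⟩ := OrbitImmersion.exists_quot act o' i sq
  haveI := hmono; haveI := hQ; haveI := hq1; haveI := hq2; haveI := hq3
  obtain ⟨eXQ, heXQ⟩ := OrbitImmersion.exists_desc (p := a.orbitMap o) hX.2.2.2 q hq4.w
  obtain ⟨eQX, heQX⟩ := OrbitImmersion.exists_desc (p := q) hq4 (a.orbitMap o) hX.2.2.2.w
  have h1 : eXQ ≫ eQX = 𝟙 X := by
    refine Over.OverMorphism.ext ?_
    rw [← cancel_epi (a.orbitMap o).left, ← Over.comp_left, ← Over.comp_left, ← Category.assoc, heXQ, heQX]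
    exact congrArg CommaMorphism.left (Category.comp_id (a.orbitMap o)).symm
  haveI : Mono eXQ := (SplitMono.mk eQX h1).mono
  have hpm : a.orbitMap o ≫ eXQ ≫ m = act.orbitMap o' := by rw [← Category.assoc, heXQ, hqm]
  haveI : IsSeparated (aff k n).hom := inferInstance
  haveI : Mono (eXQ ≫ m) := mono_comp _ _
  exact ⟨n, eXQ ≫ m, (OrbitImmersion.main act o' (a.orbitMap o) (eXQ ≫ m) hpm).1⟩

/-- The quotient by an observable subgroup is quasi-affine. -/
theorem isQuasiAffine_of_observable (hobs : AGF.IsObservableIn k i) : X.left.IsQuasiAffine := by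
  obtain ⟨-, -, -, -, hc, -⟩ := quot_facts i hX
  haveI := hc
  obtain ⟨n, j, hj⟩ := exists_immersion i hX hobs
  haveI := hj
  haveI : IsAffine (aff k n).left := isAffine_of_isAffineHom (aff k n).hom
  exact Scheme.IsQuasiAffine.of_isImmersion j.left

/-- Functions on the quotient are the invariant functions. -/
theorem exists_fn_iff (f : Fn G) : (∃ e : Fn X, ev (a.orbitMap o) e = f) ↔ AGF.IsRTransInv i f := by
  obtain ⟨hl, hfl, hs, hlfp, -, -⟩ := quot_facts i hX
  haveI := hl; haveI := hfl; haveI := hs; haveI := hlfp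
  constructor
  · rintro ⟨e, rfl⟩
    show ev ((G ◁ i) ≫ μ[G]) (ev (a.orbitMap o) e) = ev (fst G H) (ev (a.orbitMap o) e)
    rw [ev_ev, ev_ev, hX.2.2.2.w]
  · intro hf
    obtain ⟨e, he⟩ := OrbitImmersion.exists_desc (p := a.orbitMap o) hX.2.2.2
      (affPt (n := 1) fun _ => f) (aff_ext fun l => by
        rw [← ev_ev, ← ev_ev, ev_affPt]
        exact (hf : ev ((G ◁ i) ≫ μ[G]) f = ev (fst G H) f).symm)
    exact ⟨ev e (affCoord 0), by rw [ev_ev, he, ev_affPt]⟩

theorem ev_orbit_injective : Function.Injective (ev (a.orbitMap o)) := by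
  obtain ⟨hl, hfl, hs, hlfp, -, -⟩ := quot_facts i hX
  haveI := hl; haveI := hfl; haveI := hs; haveI := hlfp
  intro e e' h
  have h1 : (affPt (n := 1) fun _ => e) = (affPt (n := 1) fun _ => e') := by
    refine Over.OverMorphism.ext ?_
    rw [← cancel_epi (a.orbitMap o).left, ← Over.comp_left, ← Over.comp_left]
    exact congrArg CommaMorphism.left (aff_ext fun l => by rw [← ev_ev, ← ev_ev, ev_affPt, ev_affPt, h])
  simpa [ev_affPt] using congrArg (fun u => ev u (affCoord 0)) h1

/-- Conversely a subgroup with quasi-affine quotient is observable. -/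
theorem observable_of_quasiAffine [X.left.IsQuasiAffine] : AGF.IsObservableIn k i := by
  haveI := isReduced_grp G
  rw [observable_iff]
  intro g hg
  let r : Rat G → (VecGrp.pt k k ⟶ X) := fun x => x ≫ a.orbitMap o
  have he : ∀ e : Fn X, pfn (r g) e = pfn (r 1) e := fun e => by
    show pfn (g ≫ a.orbitMap o) e = pfn ((1 : Rat G) ≫ a.orbitMap o) e
    rw [pfn_comp, pfn_comp]
    exact (fix_iff i g).mp hg _ ((inv'_iff i _).mp ((exists_fn_iff i hX _).mp ⟨e, rfl⟩))
  have hr : r g = r 1 := by
    refine Over.OverMorphism.ext ((cancel_mono X.left.toSpecΓ).mp (ext_of_isAffine ?_))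
    refine CommRingCat.hom_ext (RingHom.ext fun x => ?_)
    rw [Scheme.Hom.comp_appTop, Scheme.Hom.comp_appTop, Scheme.toSpecΓ_appTop]
    apply (ConcreteCategory.bijective_of_isIso (Scheme.ΓSpecIso (CommRingCat.of k)).hom).1
    exact he _
  refine ⟨hX.2.2.2.lift 1 g hr.symm ≫ snd G H, ?_⟩
  have h2 := hX.2.2.2.lift_snd 1 g hr.symm
  have h3 := hX.2.2.2.lift_fst 1 g hr.symm
  generalize hX.2.2.2.lift 1 g hr.symm = w at h2 h3
  rw [← lift_comp_fst_snd w, h3, lift_whiskerLeft_assoc, ← Hom.mul_def, _root_.one_mul] at h2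
  rw [h2]

end Groth.Agent.Obs28
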