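import Groth.Agent.Obs28.Homog
import Groth.Agent.Obs28.OrbitImage

/-! Affine quotients. -/

set_option backward.isDefEq.respectTransparency false
set_option backward.isDefEq.respectTransparency.types false

universe u

open CategoryTheory MonoidalCategory CartesianMonoidalCategory MonObj GrpObj AlgebraicGeometry
open scoped TensorProduct

namespace Groth.Agent.Obs28

open GrpSchLib GrpSchLib.Kunneth

set_option linter.unusedSectionVars false
set_option linter.style.haveILetI false

variable {k : Type u} [Field k] [IsAlgClosed k] {G H : Over (Spec (CommRingCat.of k))} [GrpObj G] [GrpObj H]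
  [IsAffine G.left] [Smooth G.hom] [IsAffine H.left] [Smooth H.hom] (i : H ⟶ G) [IsMonHom i]
  [IsClosedImmersion i.left] {X : Over (Spec (CommRingCat.of k))} {a : AlgGrp.Action G X}
  {o : 𝟙_ (Over (Spec (CommRingCat.of k))) ⟶ X} (hX : AGF.IsQuotient i X a o)

include hX

/-- A quasi-affine quotient over all primes of whose functions lie primes of the group is affine. -/
theorem isAffine_of_primes [X.left.IsQuasiAffine]
    (h : ∀ q : Ideal (Fn X), q.IsPrime → ∃ p : Ideal (Fn G), p.IsPrime ∧ p.comap (ev (a.orbitMap o)).toRingHom = q) :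
    IsAffine X.left := by
  haveI : Surjective X.left.toSpecΓ := ⟨fun q => by
    obtain ⟨p, hp, hpq⟩ := h q.asIdeal q.2
    obtain ⟨y, hy⟩ := G.left.toSpecΓ.surjective ⟨p, hp⟩
    refine ⟨(a.orbitMap o).left y, ?_⟩
    rw [← Scheme.Hom.comp_apply, Scheme.toSpecΓ_naturality, Scheme.Hom.comp_apply, hy]
    exact PrimeSpectrum.ext hpq⟩
  haveI : IsIso X.left.toSpecΓ :=
    (isIso_iff_isOpenImmersion_and_epi_base _).mpr
      ⟨inferInstance, (TopCat.epi_iff_surjective _).mpr X.left.toSpecΓ.surjective⟩
  exact IsAffine.of_isIso X.left.toSpecΓ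

/-- Quotients by subgroups for which invariants lift primes are affine. -/
theorem isAffine_of_inv_primes (hobs : AGF.IsObservableIn k i)
    (h : ∀ q : Ideal (invAlg i), q.IsPrime → ∃ p : Ideal (Fn G), p.IsPrime ∧ p.comap (invAlg i).val.toRingHom = q) :
    IsAffine X.left := by
  haveI := isQuasiAffine_of_observable i hX hobs
  refine isAffine_of_primes i hX fun q hq => ?_
  let e : Fn X →+* invAlg i := (ev (a.orbitMap o)).toRingHom.codRestrict (invAlg i).toSubring fun x =>
    (inv'_iff i _).mp ((exists_fn_iff i hX _).mp ⟨x, rfl⟩)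
  have he : Function.Bijective e := ⟨fun x y hxy => ev_orbit_injective i hX (congrArg Subtype.val hxy), fun f => by
    obtain ⟨x, hx⟩ := (exists_fn_iff i hX f.1).mpr ((inv'_iff i _).mpr f.2)
    exact ⟨x, Subtype.ext hx⟩⟩
  let eE : Fn X ≃+* invAlg i := RingEquiv.ofBijective e he
  obtain ⟨p, hp, hpq⟩ := h (q.comap (eE.symm : invAlg i →+* Fn X)) inferInstance
  refine ⟨p, hp, ?_⟩
  rw [show (ev (a.orbitMap o)).toRingHom = (invAlg i).val.toRingHom.comp (eE : Fn X →+* invAlg i) from rfl,
    ← Ideal.comap_comap, hpq, Ideal.comap_comap]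
  refine (congrArg (fun r => Ideal.comap r q) (?_ : _ = RingHom.id _)).trans (Ideal.comap_id q)
  exact RingHom.ext fun x => eE.symm_apply_apply x

end Groth.Agent.Obs28
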