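import Mathlib.Algebra.Module.PID
import Mathlib.Algebra.Polynomial.Module.AEval
import Mathlib.RingTheory.AdjoinRoot
import Mathlib.LinearAlgebra.DFinsupp
import Mathlib.LinearAlgebra.FiniteDimensional.Basic
import Mathlib.Tactic.Abel

/-! The Jordan basis of a nilpotent endomorphism. -/

universe u

namespace Groth.Agent.Obs28.Jordan

open Polynomial DirectSum

set_option linter.style.haveILetI false

variable {k V : Type u} [Field k] [AddCommGroup V] [Module k V] [Module.Finite k V]

theorem exists_basis (M : Module.End k V) (hM : IsNilpotent M) :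
    ∃ (I : Type u) (_ : Fintype I) (d : I → ℕ) (b : Module.Basis (Σ i, Fin (d i)) k V),
      ∀ i j (h : j < d i), M (b ⟨i, ⟨j, h⟩⟩) = if h' : j + 1 < d i then b ⟨i, ⟨j + 1, h'⟩⟩ else 0 := by
  classical
  obtain ⟨N, hN⟩ := hM
  have hkill : ∀ x : Module.AEval' M, (X : k[X]) ^ N • x = 0 := fun x => by
    obtain ⟨v, rfl⟩ := (Module.AEval'.of M).surjective x
    rw [Module.AEval'.X_pow_smul_of, hN]
    simp
  have htor : Module.IsTorsion k[X] (Module.AEval' M) := fun {x} =>
    ⟨⟨X ^ N, mem_nonZeroDivisors_of_ne_zero (pow_ne_zero N X_ne_zero)⟩, hkill x⟩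
  obtain ⟨I, hI, p, hp, e, ⟨g⟩⟩ := Module.equiv_directSum_of_isTorsion htor
  have hspan : ∀ i, (Submodule.span k[X] {p i ^ e i} : Submodule k[X] k[X]) =
      Ideal.span {(X : k[X]) ^ e i} := fun i => by
    have h0 := congrArg (fun z => g z i) (hkill (g.symm (DirectSum.lof k[X] I _ i (Submodule.Quotient.mk 1))))
    simp only [map_smul, LinearEquiv.apply_symm_apply, map_zero, DirectSum.smul_apply, DirectSum.zero_apply,
      DirectSum.lof_apply] at h0
    rw [← Submodule.Quotient.mk_smul, Submodule.Quotient.mk_eq_zero, smul_eq_mul, _root_.mul_one,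
      Submodule.mem_span_singleton] at h0
    obtain ⟨c, hc⟩ := h0
    refine Ideal.span_singleton_eq_span_singleton.mpr ?_
    rcases Nat.eq_zero_or_pos (e i) with he | he
    · rw [he, pow_zero, pow_zero]
    refine Associated.pow_pow ?_
    refine (hp i).associated_of_dvd irreducible_X ((hp i).prime.dvd_of_dvd_pow (n := N) ?_)
    exact dvd_trans (dvd_pow_self _ he.ne') ⟨c, by rw [← hc, smul_eq_mul, mul_comm]⟩
  let φ : ∀ i, (k[X] ⧸ Submodule.span k[X] {p i ^ e i}) ≃ₗ[k] AdjoinRoot ((X : k[X]) ^ e i) :=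
    fun i => (Submodule.quotEquivOfEq _ _ (hspan i)).restrictScalars k
  let b1 : ∀ i, Module.Basis (Fin (e i)) k (k[X] ⧸ Submodule.span k[X] {p i ^ e i}) := fun i =>
    ((AdjoinRoot.powerBasis' (monic_X_pow (e i))).basis.map (φ i).symm).reindex (finCongr (natDegree_X_pow (e i)))
  have hb1 : ∀ i (j : Fin (e i)), b1 i j = Submodule.Quotient.mk ((X : k[X]) ^ (j : ℕ)) := fun i j => by
    rw [Module.Basis.reindex_apply, Module.Basis.map_apply, LinearEquiv.symm_apply_eq, PowerBasis.coe_basis,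
      AdjoinRoot.powerBasis'_gen]
    show AdjoinRoot.root _ ^ (j : ℕ) = AdjoinRoot.mk _ (X ^ (j : ℕ))
    rw [map_pow, AdjoinRoot.mk_X]
  let b := (DFinsupp.basis b1).map ((g.restrictScalars k).symm ≪≫ₗ (Module.AEval'.of M).symm)
  refine ⟨I, hI, e, b, fun i j h => ?_⟩
  have hb : ∀ i (j : Fin (e i)), Module.AEval'.of M (b ⟨i, j⟩) =
      g.symm (DirectSum.lof k[X] I _ i (Submodule.Quotient.mk ((X : k[X]) ^ (j : ℕ)))) := fun i j => by
    rw [Module.Basis.map_apply, LinearEquiv.trans_apply, LinearEquiv.apply_symm_apply, ← hb1]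
    refine congrArg g.symm ?_
    show DFinsupp.basis b1 ⟨i, j⟩ = DFinsupp.single i (b1 i j)
    simp [DFinsupp.basis]
  refine (Module.AEval'.of M).injective ?_
  rw [← Module.AEval'.X_smul_of, hb, ← map_smul, ← map_smul, ← Submodule.Quotient.mk_smul, smul_eq_mul,
    ← pow_succ']
  split_ifs with h'
  · rw [hb]
  · rw [map_zero, (Submodule.Quotient.mk_eq_zero _).mpr ?_, map_zero, map_zero]
    rw [hspan]
    exact Ideal.mem_span_singleton.mpr (pow_dvd_pow _ (Nat.not_lt.mp h'))

end Groth.Agent.Obs28.Jordan
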