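import Groth.Agent.Obs28.KilledOrbit
import Groth.Agent.GrpSchLib.HomogeneousQuot
import Groth.Agent.GrpSchLib.RedSubgroup
import Groth.Agent.GrpSchLib.Cartier
import Groth.Agent.AGStr.Descend
import Groth.Agent.AGStr.Basic
import Groth.Agent.ChevAffine.Main
import Groth.Agent.RedSub30.TorusOverField
import Groth.Agent.GrpSchLib.Coincidence
import Groth.Agent.GrpSchLib.RankOneBig

/-! A scheme onto which an affine group killed by a power of the characteristic exponent maps flatly, with fibres the
cosets of a subgroup, is affine. -/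

universe u

open CategoryTheory CategoryTheory.Limits MonoidalCategory CartesianMonoidalCategory MonObj GrpObj AlgebraicGeometry

namespace Groth.Agent.Obs28.Killed

set_option linter.style.haveILetI false

variable {k : Type u} [Field k] [IsAlgClosed k]

omit [IsAlgClosed k] in
theorem exists_reduced_lift {Z Y T : Over (Spec (CommRingCat.of k))} (j : Z ⟶ Y) [IsClosedImmersion j.left]
    [Surjective j.left] [IsReduced T.left] (f : T ⟶ Y) : ∃ g : T ⟶ Z, g ≫ j = f := by
  obtain ⟨g, hg⟩ := H23.RedSub.exists_lift_closed f.left j.left (by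
    rw [j.left.surjective.range_eq]; exact Set.subset_univ _)
  exact ⟨Over.homMk g (by rw [← Over.w j, reassoc_of% hg, Over.w f]), Over.OverMorphism.ext hg⟩

/-- Comparison with the quotient of a smooth killed group. -/
theorem isAffine_target {G S X : Over (Spec (CommRingCat.of k))} [GrpObj G] [GrpObj S] [IsAffine G.left]
    [Smooth G.hom] [Smooth S.hom] (i : S ⟶ G) [IsMonHom i] [IsClosedImmersion i.left]
    (p n : ℕ) [ExpChar k p] (hkill : ∀ g : Rat G, g ^ p ^ n = 1)
    (ψ : G ⟶ X) [Surjective ψ.left] [UniversallyOpen ψ.left] [LocallyOfFiniteType X.hom]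
    (hw : fst G S ≫ ψ = ((G ◁ i) ≫ μ[G]) ≫ ψ)
    (hc : Function.Surjective (pullback.lift (fst G S).left ((G ◁ i) ≫ μ[G]).left
      (congrArg CommaMorphism.left hw) : (G ⊗ S).left ⟶ pullback ψ.left ψ.left)) :
    IsAffine X.left := by
  haveI : IsAffine S.left := isAffine_of_isAffineHom i.left
  haveI : Mono i.left := inferInstance
  haveI : Mono i := Over.mono_of_mono_left i
  obtain ⟨Y, a, o, hYl, -, hYf, hYs, hYp⟩ := GrpSchLib.HomogeneousQuot.exists_quot G S i
  haveI : IsAffine Y.left := isAffine_quotient p n hkill i (a := a) (o := o) ⟨hYl, hYf, hYs, hYp⟩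
  let π := a.orbitMap o
  haveI : Flat π.left := hYf
  haveI : Surjective π.left := hYs
  haveI := hYl
  haveI : LocallyOfFiniteType G.hom := inferInstance
  haveI : QuasiCompact G.hom := inferInstance
  haveI : QuasiCompact π.left := AGStr.quasiCompact_left π
  obtain ⟨u, hu⟩ := AGStr.exists_desc π ψ fun T g₁ g₂ e => by
    rw [← hYp.lift_fst g₁ g₂ e, Category.assoc, hw, hYp.lift_snd_assoc]
  have hπu : π.left ≫ u.left = ψ.left := by rw [← Over.comp_left, hu]
  haveI : Surjective u.left := ⟨fun x => by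
    obtain ⟨g, hg⟩ := ψ.left.surjective x
    exact ⟨π.left g, by rw [← Scheme.Hom.comp_apply, hπu, hg]⟩⟩
  haveI : IsLocallyNoetherian X.left := LocallyOfFiniteType.isLocallyNoetherian X.hom
  haveI : LocallyOfFiniteType u.left := AGStr.locallyOfFiniteType_left u
  haveI : UniversallyOpen (π.left ≫ u.left) := by rw [hπu]; infer_instance
  haveI : UniversallyOpen u.left := AGStr.universallyOpen_of_comp_surjective π.left u.left
  haveI : UniversallyInjective u.left := by
    rw [UniversallyInjective.iff_diagonal]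
    let c : Limits.pullback ψ.left ψ.left ⟶ Limits.pullback u.left u.left :=
      Limits.pullback.map ψ.left ψ.left u.left u.left π.left π.left (𝟙 _)
        (by rw [Category.comp_id, hπu]) (by rw [Category.comp_id, hπu])
    have hcs : Function.Surjective c := fun z => by
      have hz : z ∈ Set.range c := by
        rw [show Set.range c = _ from Scheme.Pullback.range_map _ _ _ _ _ _ _ _ _]
        exact ⟨π.left.surjective _, π.left.surjective _⟩
      exact hz
    let w := pullback.lift (fst G S).left ((G ◁ i) ≫ μ[G]).left (congrArg CommaMorphism.left hw)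
    have hfac : w ≫ c = (fst G S ≫ π).left ≫ Limits.pullback.diagonal u.left := by
      apply Limits.pullback.hom_ext
      · simp only [c, w, Category.assoc, Limits.pullback.lift_fst, Limits.pullback.lift_fst_assoc,
          Limits.pullback.diagonal_fst, Category.comp_id]
        rfl
      · simp only [c, w, Category.assoc, Limits.pullback.lift_snd, Limits.pullback.lift_snd_assoc,
          Limits.pullback.diagonal_snd, Category.comp_id]
        exact congrArg CommaMorphism.left hYp.w.symm
    refine ⟨fun z => ?_⟩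
    obtain ⟨z₁, rfl⟩ := hcs z
    obtain ⟨z₂, rfl⟩ := hc z₁
    refine ⟨(fst G S ≫ π).left z₂, ?_⟩
    show Limits.pullback.diagonal u.left ((fst G S ≫ π).left z₂) = c (w z₂)
    rw [← Scheme.Hom.comp_apply, ← Scheme.Hom.comp_apply, hfac]
  haveI : IsFinite u.left := AGStr.isFinite_of_universal_homeomorph u.left
  haveI : CompactSpace ↥X.left := u.left.surjective.compactSpace u.left.continuous
  haveI : IsNoetherian X.left := {}
  exact ChevAffine.isAffine_of_finite_surjective u.left

/-- A scheme onto which an affine killed group maps flatly, through a group with a cartesian quotient map, is affine. -/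
theorem isAffine_of_killed {K R H X : Over (Spec (CommRingCat.of k))} [GrpObj K] [GrpObj R] [GrpObj H]
    [IsAffine K.left] [LocallyOfFiniteType K.hom] (iK : K ⟶ R) [IsMonHom iK] (j : H ⟶ R) [IsMonHom j]
    [IsClosedImmersion j.left] (ψ : R ⟶ X) (hψ : IsPullback (fst R H) ((R ◁ j) ≫ μ[R]) ψ ψ)
    [LocallyOfFiniteType X.hom] [Flat (iK ≫ ψ).left] [Surjective (iK ≫ ψ).left]
    (p n : ℕ) [ExpChar k p] (hkill : (𝟙 K : K ⟶ K) ^ p ^ n = 1) : IsAffine X.left := by
  haveI : QuasiCompact K.hom := inferInstance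
  haveI : Mono j.left := inferInstance
  haveI : Mono j := Over.mono_of_mono_left j
  -- the stabiliser
  let S := Limits.pullback iK j
  let sK : S ⟶ K := Limits.pullback.fst iK j
  let sH : S ⟶ H := Limits.pullback.snd iK j
  haveI : Mono sK := inferInstance
  haveI : IsClosedImmersion sK.left :=
    MorphismProperty.of_isPullback ((IsPullback.of_hasPullback iK j).map (Over.forget _)).flip
      (inferInstanceAs (IsClosedImmersion j.left))
  obtain ⟨e, he⟩ : ∃ e : 𝟙_ _ ⟶ S, e ≫ sK = η[K] :=
    ⟨Limits.pullback.lift η[K] η[H] (by rw [IsMonHom.one_hom, IsMonHom.one_hom]), Limits.pullback.lift_fst _ _ _⟩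
  obtain ⟨m, hm⟩ : ∃ m : S ⊗ S ⟶ S, m ≫ sK = (fst S S ≫ sK) * (snd S S ≫ sK) :=
    ⟨Limits.pullback.lift ((fst S S ≫ sK) * (snd S S ≫ sK)) ((fst S S ≫ sH) * (snd S S ≫ sH)) (by
      simp only [MonObj.mul_comp, Category.assoc, sK, sH, Limits.pullback.condition]), Limits.pullback.lift_fst _ _ _⟩
  obtain ⟨v, hv⟩ : ∃ v : S ⟶ S, v ≫ sK = sK⁻¹ :=
    ⟨Limits.pullback.lift sK⁻¹ sH⁻¹ (by simp only [GrpObj.inv_comp, sK, sH, Limits.pullback.condition]),
      Limits.pullback.lift_fst _ _ _⟩
  obtain ⟨str, hsK⟩ := GrpSchLib.exists_grpObj_of_mono sK e he m hm v hv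
  haveI := hsK
  haveI : LocallyOfFiniteType S.hom := by rw [← Over.w sK]; infer_instance
  haveI : QuasiCompact S.hom := by rw [← Over.w sK]; infer_instance
  -- reduced subgroups
  obtain ⟨G, _, iG, _, _, _, _, _, _⟩ := GrpSchLib.RedSubgroup.exists_redSubgroup K
  obtain ⟨T, _, iT, _, _, _, _, _, _⟩ := GrpSchLib.RedSubgroup.exists_redSubgroup S
  haveI : IsAffine G.left := isAffine_of_isAffineHom iG.left
  haveI : Smooth G.hom := GrpSchLib.smooth_of_isReduced_of_isAlgClosed G
  haveI : Smooth T.hom := GrpSchLib.smooth_of_isReduced_of_isAlgClosed T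
  haveI : Mono iG := Over.mono_of_mono_left iG
  obtain ⟨i, hi⟩ := exists_reduced_lift iG (iT ≫ sK)
  haveI : IsMonHom (i ≫ iG) := by rw [hi]; infer_instance
  haveI : IsMonHom i := RedSub30.isMonHom_of_mono iG i
  haveI : IsClosedImmersion i.left := by
    have : IsClosedImmersion (i.left ≫ iG.left) := by
      rw [← Over.comp_left, hi, Over.comp_left]; infer_instance
    exact IsClosedImmersion.of_comp i.left iG.left
  have hk : ∀ g : Rat G, g ^ p ^ n = 1 := fun g => by
    rw [← cancel_mono iG, MonObj.pow_comp, MonObj.one_comp, ← Category.comp_id (g ≫ iG), ← MonObj.comp_pow, hkill,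
      MonObj.comp_one]
  let φ := iK ≫ ψ
  -- the kernel pair of the orbit map
  have hwK : fst K S ≫ φ = ((K ◁ sK) ≫ μ[K]) ≫ φ := by
    have e1 : (K ◁ sK) ≫ μ[K] = fst K S * (snd K S ≫ sK) := by
      rw [Hom.mul_def]; congr 1
    have e2 : lift (fst K S ≫ iK) (snd K S ≫ sH) ≫ (R ◁ j) ≫ μ[R] =
        (fst K S ≫ iK) * ((snd K S ≫ sH) ≫ j) := by
      rw [← Category.assoc, lift_whiskerLeft, ← Hom.mul_def]
    have h1 := congrArg (lift (fst K S ≫ iK) (snd K S ≫ sH) ≫ ·) hψ.w
    simp only [lift_fst_assoc] at h1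
    have h2 : (fst K S ≫ iK) ≫ ψ = ((fst K S ≫ iK) * ((snd K S ≫ sH) ≫ j)) ≫ ψ := by
      rw [h1, ← e2]
      simp only [Category.assoc]
    have h3 : ((fst K S * (snd K S ≫ sK)) ≫ iK) = (fst K S ≫ iK) * ((snd K S ≫ sH) ≫ j) := by
      rw [MonObj.mul_comp, Category.assoc, Category.assoc, Limits.pullback.condition]
    rw [e1]
    simp only [φ]
    rw [← Category.assoc, h2, ← Category.assoc (_ * _) iK ψ, h3]
  have sq : IsPullback (fst K S) ((K ◁ sK) ≫ μ[K]) φ φ := by
    have e1 : ∀ {Z : Over (Spec (CommRingCat.of k))} (c : Z ⟶ K ⊗ S),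
        c ≫ (K ◁ sK) ≫ μ[K] = (c ≫ fst K S) * (c ≫ snd K S ≫ sK) := fun c => by
      rw [Hom.mul_def, ← Category.assoc]
      congr 1
      apply CartesianMonoidalCategory.hom_ext <;> simp
    have hsec : ∀ c : PullbackCone φ φ, ∃ s : c.pt ⟶ S, c.snd = c.fst * (s ≫ sK) := by
      intro c
      have hc : (c.fst ≫ iK) ≫ ψ = (c.snd ≫ iK) ≫ ψ := by
        simp only [Category.assoc]; exact c.condition
      let z := hψ.lift (c.fst ≫ iK) (c.snd ≫ iK) hc
      have hz1 : z ≫ fst R H = c.fst ≫ iK := hψ.lift_fst _ _ _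
      have hz2 : (c.fst ≫ iK) * ((z ≫ snd R H) ≫ j) = c.snd ≫ iK := by
        rw [← hψ.lift_snd (c.fst ≫ iK) (c.snd ≫ iK) hc, Hom.mul_def, ← Category.assoc _ _ μ[R]]
        congr 1
        apply CartesianMonoidalCategory.hom_ext
        · rw [lift_fst, Category.assoc, whiskerLeft_fst, hz1]
        · simp only [lift_snd, Category.assoc, whiskerLeft_snd, z]
      refine ⟨Limits.pullback.lift (c.fst⁻¹ * c.snd) (z ≫ snd R H) ?_, ?_⟩
      · rw [MonObj.mul_comp, GrpObj.inv_comp, ← hz2, inv_mul_cancel_left]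
      · rw [Limits.pullback.lift_fst, mul_inv_cancel_left]
    choose s hs using hsec
    refine ⟨⟨hwK⟩, ⟨PullbackCone.IsLimit.mk _ (fun c => lift c.fst (s c)) (fun c => lift_fst _ _) (fun c => ?_)
      (fun c m h₁ h₂ => ?_)⟩⟩
    · rw [e1, lift_fst, lift_snd_assoc, ← hs]
    · refine CartesianMonoidalCategory.hom_ext _ _ (by rw [h₁, lift_fst]) ?_
      rw [e1, h₁] at h₂
      rw [lift_snd, ← cancel_mono sK, Category.assoc]
      exact mul_left_cancel (h₂.trans (hs c))
  haveI : LocallyOfFiniteType φ.left := AGStr.locallyOfFiniteType_left φ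
  haveI : IsLocallyNoetherian X.left := LocallyOfFiniteType.isLocallyNoetherian X.hom
  haveI : Flat φ.left := inferInstanceAs (Flat (iK ≫ ψ).left)
  haveI : Surjective φ.left := inferInstanceAs (Surjective (iK ≫ ψ).left)
  haveI : UniversallyOpen φ.left := inferInstance
  haveI : Surjective (iG ≫ φ).left := by rw [Over.comp_left]; infer_instance
  haveI : UniversallyOpen iG.left := by
    -- a surjective closed immersion is a universal homeomorphism
    refine ⟨fun X' Y' i₁ i₂ f' hf => ?_⟩
    haveI : IsClosedImmersion f' := MorphismProperty.of_isPullback hf.flip (inferInstanceAs (IsClosedImmersion iG.left))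
    haveI : Surjective f' := MorphismProperty.of_isPullback hf.flip (inferInstanceAs (Surjective iG.left))
    exact (f'.isClosedEmbedding.toIsEmbedding.toHomeomorphOfSurjective f'.surjective).isOpenMap
  haveI : UniversallyOpen (iG ≫ φ).left := by rw [Over.comp_left]; infer_instance
  have hwG : fst G T ≫ iG ≫ φ = ((G ◁ i) ≫ μ[G]) ≫ iG ≫ φ := by
    have := congrArg ((iG ⊗ₘ iT) ≫ ·) hwK
    have e1 : ((G ◁ i) ≫ μ[G]) ≫ iG = (iG ⊗ₘ iT) ≫ (K ◁ sK) ≫ μ[K] := by
      rw [Category.assoc, IsMonHom.mul_hom, ← Category.assoc, ← Category.assoc]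
      congr 1
      apply CartesianMonoidalCategory.hom_ext <;> simp [hi]
    rw [← Category.assoc ((G ◁ i) ≫ μ[G]) iG φ, e1]
    simpa [CartesianMonoidalCategory.tensorHom_fst_assoc] using this
  refine isAffine_target i p n hk (iG ≫ φ) hwG ?_
  -- surjectivity onto the kernel pair
  intro z
  let d : Limits.pullback (iG ≫ φ).left (iG ≫ φ).left ⟶ Limits.pullback φ.left φ.left :=
    Limits.pullback.map _ _ _ _ iG.left iG.left (𝟙 _) (by rw [Category.comp_id]; rfl)
      (by rw [Category.comp_id]; rfl)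
  haveI : Mono d := ⟨fun a b h => by
    have h1 := congrArg (· ≫ Limits.pullback.fst φ.left φ.left) h
    have h2 := congrArg (· ≫ Limits.pullback.snd φ.left φ.left) h
    simp only [d, Category.assoc, Limits.pullback.lift_fst, Limits.pullback.lift_snd] at h1 h2
    simp only [← Category.assoc, cancel_mono] at h1 h2
    exact Limits.pullback.hom_ext h1 h2⟩
  haveI : UniversallyInjective d := inferInstance
  have sqL : IsPullback (fst K S).left ((K ◁ sK) ≫ μ[K]).left φ.left φ.left := sq.map (Over.forget _)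
  let eK := sqL.isoPullback
  haveI : Surjective (iG ⊗ₘ iT).left :=
    haveI : MorphismProperty.IsStableUnderComposition (@Surjective : MorphismProperty Scheme.{u}) :=
      ⟨fun f g hf hg => haveI := hf; haveI := hg; inferInstanceAs (Surjective (f ≫ g))⟩
    GrpSchLib.RankOne.property_tensorHom iG iT (@Surjective : MorphismProperty Scheme.{u}) inferInstance inferInstance
  obtain ⟨w, hw⟩ := (iG ⊗ₘ iT).left.surjective (eK.inv (d z))
  refine ⟨w, d.injective ?_⟩
  rw [← Scheme.Hom.comp_apply]
  have hfac : Limits.pullback.lift (fst G T).left ((G ◁ i) ≫ μ[G]).left (congrArg CommaMorphism.left hwG) ≫ d =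
      (iG ⊗ₘ iT).left ≫ eK.hom := by
    apply Limits.pullback.hom_ext
    · simp only [d, Category.assoc, Limits.pullback.lift_fst, Limits.pullback.lift_fst_assoc, eK]
      rw [IsPullback.isoPullback_hom_fst]
      exact congrArg CommaMorphism.left (show fst G T ≫ iG = (iG ⊗ₘ iT) ≫ fst K S by simp)
    · simp only [d, Category.assoc, Limits.pullback.lift_snd, Limits.pullback.lift_snd_assoc, eK]
      rw [IsPullback.isoPullback_hom_snd]
      refine congrArg CommaMorphism.left (?_ : ((G ◁ i) ≫ μ[G]) ≫ iG = (iG ⊗ₘ iT) ≫ (K ◁ sK) ≫ μ[K])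
      rw [Category.assoc, IsMonHom.mul_hom, ← Category.assoc, ← Category.assoc]
      congr 1
      apply CartesianMonoidalCategory.hom_ext <;> simp [hi]
  rw [hfac, Scheme.Hom.comp_apply, hw]
  simp

end Groth.Agent.Obs28.Killed
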