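import Groth.Agent.Obs28.Reg
import Mathlib.LinearAlgebra.ExteriorAlgebra.OfAlternating
import Mathlib.LinearAlgebra.Determinant

/-! Sub-, tensor and exterior constructions on regular representations. -/

universe u

open CategoryTheory MonoidalCategory CartesianMonoidalCategory MonObj GrpObj AlgebraicGeometry
open scoped TensorProduct

namespace Groth.Agent.Obs28

open GrpSchLib.Kunneth

set_option linter.unusedSectionVars false

variable {k : Type u} [Field k] [IsAlgClosed k] {G : Over (Spec (CommRingCat.of k))} [GrpObj G]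
  [IsAffine G.left] [Smooth G.hom] {M N : Type u} [AddCommGroup M] [Module k M] [AddCommGroup N] [Module k N]

section Sub

variable (π : Rat G →* (M ≃ₗ[k] M)) (W : Submodule k M) (hW : ∀ g, ∀ x ∈ W, π g x ∈ W)

/-- The representation on a stable subspace. -/
noncomputable def subPi : Rat G →* (W ≃ₗ[k] W) :=
  (LinearMap.GeneralLinearGroup.generalLinearEquiv k W).toMonoidHom.comp
    (({ toFun := fun g => ((π g).toLinearMap ∘ₗ W.subtype).codRestrict W fun x => hW g x x.2
        map_one' := LinearMap.ext fun x => Subtype.ext (by simp)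
        map_mul' := fun g h => LinearMap.ext fun x => Subtype.ext (LinearEquiv.congr_fun (map_mul π g h) (x : M)) } :
      Rat G →* Module.End k W).toHomUnits)

@[simp] theorem subPi_coe (g : Rat G) (x : W) : (subPi π W hW g x : M) = π g x := rfl

theorem subPi_regular (hπ : IsRegular π) : IsRegular (subPi π W hW) := by
  obtain ⟨p, hp⟩ := LinearMap.exists_leftInverse_of_injective W.subtype W.ker_subtype
  intro x
  obtain ⟨z, hz⟩ := hπ x
  refine ⟨p.lTensor (Fn G) z, fun g => ?_⟩
  rw [evl_lTensor, ← hz g]
  exact (LinearMap.congr_fun hp (subPi π W hW g x)).symm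

end Sub

section Tensor

variable (π : Rat G →* (M ≃ₗ[k] M)) (π' : Rat G →* (N ≃ₗ[k] N))

/-- The tensor product of two representations. -/
noncomputable def tensorPi : Rat G →* (M ⊗[k] N ≃ₗ[k] M ⊗[k] N) where
  toFun g := TensorProduct.congr (π g) (π' g)
  map_one' := by
    rw [map_one, map_one]
    exact LinearEquiv.toLinearMap_injective (TensorProduct.ext' fun m n => rfl)
  map_mul' g h := by
    rw [map_mul, map_mul]
    exact LinearEquiv.toLinearMap_injective (TensorProduct.ext' fun m n => rfl)

@[simp] theorem tensorPi_tmul (g : Rat G) (m : M) (n : N) :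
    tensorPi π π' g (m ⊗ₜ[k] n) = π g m ⊗ₜ[k] π' g n := rfl

theorem evl_mul_map {A : Type u} [CommRing A] [Algebra k A] (χ : A →ₐ[k] k) (z : A ⊗[k] M) (w : A ⊗[k] N) :
    evl χ ((LinearMap.mul' k A).rTensor (M ⊗[k] N) (TensorProduct.tensorTensorTensorComm k A M A N (z ⊗ₜ w))) =
      evl χ z ⊗ₜ[k] evl χ w := by
  induction z using TensorProduct.induction_on with
  | zero => simp
  | tmul a m =>
    induction w using TensorProduct.induction_on with
    | zero => simp
    | tmul b n => simp [TensorProduct.smul_tmul', TensorProduct.tmul_smul, smul_smul, mul_comm]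
    | add p q hp hq => simp only [TensorProduct.tmul_add, map_add, hp, hq]
  | add p q hp hq => simp only [TensorProduct.add_tmul, map_add, hp, hq]

theorem tensorPi_regular (hπ : IsRegular π) (hπ' : IsRegular π') : IsRegular (tensorPi π π') := by
  intro x
  induction x using TensorProduct.induction_on with
  | zero => exact ⟨0, fun g => by simp⟩
  | tmul m n =>
    obtain ⟨z, hz⟩ := hπ m
    obtain ⟨w, hw⟩ := hπ' n
    exact ⟨_, fun g => by rw [evl_mul_map, ← hz g, ← hw g, tensorPi_tmul]⟩
  | add p q hp hq =>
    obtain ⟨z, hz⟩ := hp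
    obtain ⟨w, hw⟩ := hq
    exact ⟨z + w, fun g => by rw [map_add, map_add, hz g, hw g]⟩

end Tensor

section Exterior

variable (π : Rat G →* (M ≃ₗ[k] M))

/-- The representation on the exterior algebra. -/
noncomputable def extPi : Rat G →* (ExteriorAlgebra k M ≃ₗ[k] ExteriorAlgebra k M) :=
  (LinearMap.GeneralLinearGroup.generalLinearEquiv k _).toMonoidHom.comp
    (({ toFun := fun g => (ExteriorAlgebra.map (π g).toLinearMap).toLinearMap
        map_one' := by
          rw [map_one, show (1 : M ≃ₗ[k] M).toLinearMap = LinearMap.id from rfl, ExteriorAlgebra.map_id]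
          rfl
        map_mul' := fun g h => by
          rw [map_mul, show ((π g * π h).toLinearMap) = (π g).toLinearMap.comp (π h).toLinearMap from rfl,
            ← ExteriorAlgebra.map_comp_map]
          rfl } :
      Rat G →* Module.End k (ExteriorAlgebra k M)).toHomUnits)

theorem extPi_apply (g : Rat G) (x : ExteriorAlgebra k M) :
    extPi π g x = ExteriorAlgebra.map (π g).toLinearMap x := rfl

theorem evl_mul_ring {A : Type u} [CommRing A] [Algebra k A] {E : Type u} [Ring E] [Algebra k E]
    (χ : A →ₐ[k] k) (z w : A ⊗[k] E) : evl χ (z * w) = evl χ z * evl χ w := by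
  induction z using TensorProduct.induction_on with
  | zero => simp
  | tmul a m =>
    induction w using TensorProduct.induction_on with
    | zero => simp
    | tmul b n => simp [smul_smul, mul_comm]
    | add p q hp hq => simp only [mul_add, map_add, hp, hq]
  | add p q hp hq => simp only [add_mul, map_add, hp, hq]

theorem extPi_regular (hπ : IsRegular π) : IsRegular (extPi π) := by
  intro x
  induction x using ExteriorAlgebra.induction with
  | algebraMap r => exact ⟨1 ⊗ₜ algebraMap k _ r, fun g => by rw [extPi_apply, AlgHom.commutes]; simp⟩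
  | «ι» m =>
    obtain ⟨z, hz⟩ := hπ m
    exact ⟨(ExteriorAlgebra.ι k).lTensor _ z, fun g => by
      rw [extPi_apply, ExteriorAlgebra.map_apply_ι, evl_lTensor, ← hz g]; rfl⟩
  | mul a b ha hb =>
    obtain ⟨z, hz⟩ := ha
    obtain ⟨w, hw⟩ := hb
    exact ⟨z * w, fun g => by rw [evl_mul_ring, ← hz g, ← hw g, extPi_apply, extPi_apply, extPi_apply, map_mul]⟩
  | add p q hp hq =>
    obtain ⟨z, hz⟩ := hp
    obtain ⟨w, hw⟩ := hq
    exact ⟨z + w, fun g => by rw [map_add, map_add, hz g, hw g]⟩

theorem ιMulti_ne_zero {n : ℕ} {v : Fin n → M} (hv : LinearIndependent k v) :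
    ExteriorAlgebra.ιMulti k n v ≠ 0 := by
  classical
  obtain ⟨f, hf⟩ := LinearMap.exists_leftInverse_of_injective (Fintype.linearCombination k v)
    (LinearMap.ker_eq_bot.mpr hv.fintypeLinearCombination_injective)
  have hfv : ∀ i, f (v i) = Pi.single i 1 := fun i => by
    have := LinearMap.congr_fun hf (Pi.single i 1)
    simpa [Fintype.linearCombination_apply_single] using this
  let F : ∀ i, M [⋀^Fin i]→ₗ[k] k := fun i =>
    if h : i = n then h ▸ ((Pi.basisFun k (Fin n)).det.compLinearMap f) else 0
  intro h0
  have h1 := congrArg (ExteriorAlgebra.liftAlternating F) h0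
  rw [ExteriorAlgebra.liftAlternating_apply_ιMulti, map_zero] at h1
  simp only [F, dif_pos rfl, AlternatingMap.compLinearMap_apply] at h1
  rw [show (fun i => f (v i)) = Pi.basisFun k (Fin n) from funext fun i => by rw [hfv]; simp] at h1
  rw [Module.Basis.det_self] at h1
  exact one_ne_zero h1

/-- The subspace spanned by independent vectors is remembered by their exterior product. -/
theorem mem_span_of_map_line {n : ℕ} {b : Fin n → M} (hb : LinearIndependent k b) (e : M ≃ₗ[k] M) (c : k)
    (he : ExteriorAlgebra.map e.toLinearMap (ExteriorAlgebra.ιMulti k n b) = c • ExteriorAlgebra.ιMulti k n b) :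
    ∀ x ∈ Submodule.span k (Set.range b), e x ∈ Submodule.span k (Set.range b) := by
  intro x hx
  have hinj : Function.Injective (ExteriorAlgebra.map e.toLinearMap) :=
    ExteriorAlgebra.map_injective ⟨e.symm.toLinearMap, by ext; simp⟩
  have hc : c ≠ 0 := by
    rintro rfl
    rw [zero_smul, ← map_zero (ExteriorAlgebra.map e.toLinearMap)] at he
    exact ιMulti_ne_zero hb (hinj he)
  have hxb : ExteriorAlgebra.ιMulti k (n + 1) (Matrix.vecCons x b) = 0 := by
    refine AlternatingMap.map_linearDependent _ _ fun h => ?_
    rw [show Matrix.vecCons x b = Fin.cons x b from rfl, linearIndependent_finCons] at h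
    exact h.2 hx
  have hgen : ∀ y : M, ExteriorAlgebra.ιMulti k (n + 1) (Matrix.vecCons y b) =
      ExteriorAlgebra.ι k y * ExteriorAlgebra.ιMulti k n b := fun y => by
    rw [ExteriorAlgebra.ιMulti_succ_apply]; rfl
  have h2 := congrArg (ExteriorAlgebra.map e.toLinearMap) ((hgen x).symm.trans hxb)
  rw [map_mul, he, ExteriorAlgebra.map_apply_ι, mul_smul_comm, map_zero, smul_eq_zero_iff_right hc,
    ← hgen] at h2
  by_contra h
  exact ιMulti_ne_zero (linearIndependent_finCons.mpr ⟨hb, h⟩) h2

end Exterior

end Groth.Agent.Obs28
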