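import Groth.Agent.Obs28.OrbitImage
import Groth.Agent.Obs28.Ops
import Groth.Prelude.Def_W4bk4grossh1223Act

/-! The transfer principle. -/

universe u

open CategoryTheory MonoidalCategory CartesianMonoidalCategory MonObj GrpObj AlgebraicGeometry
open scoped TensorProduct

namespace Groth.Agent.Obs28

open GrpSchLib.Kunneth

set_option linter.unusedSectionVars false
set_option linter.style.haveILetI false

variable {k : Type u} [Field k] [IsAlgClosed k] {G H : Over (Spec (CommRingCat.of k))} [GrpObj G] [GrpObj H]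
  [IsAffine G.left] [Smooth G.hom] [IsAffine H.left] [Smooth H.hom] (i : H ⟶ G) [IsMonHom i]

/-- Left translation as a representation of the rational points. -/
noncomputable def lPi : Rat G →* (Fn G ≃ₗ[k] Fn G) :=
  (LinearMap.GeneralLinearGroup.generalLinearEquiv k (Fn G)).toMonoidHom.comp
    (({ toFun := fun g => (lMap g⁻¹).toLinearMap
        map_one' := by
          haveI := isReduced_grp G
          exact LinearMap.ext fun f => ext_pts fun x => by
            show pfn x (lMap 1⁻¹ f) = pfn x f
            rw [pfn_lMap, inv_one, _root_.one_mul]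
        map_mul' := fun g h => by
          haveI := isReduced_grp G
          exact LinearMap.ext fun f => ext_pts fun x => by
            show pfn x (lMap (g * h)⁻¹ f) = pfn x (lMap g⁻¹ (lMap h⁻¹ f))
            rw [pfn_lMap, pfn_lMap, pfn_lMap, _root_.mul_inv_rev, _root_.mul_assoc] } :
      Rat G →* Module.End k (Fn G)).toHomUnits)

theorem lPi_apply (g : Rat G) (f : Fn G) : lPi g f = lMap g⁻¹ f := rfl

theorem lPi_regular : IsRegular (lPi (G := G)) := by
  intro f
  obtain ⟨_, _⟩ := qc_grp G
  obtain ⟨t, ht⟩ := (toProd_bijective G G).2 (ev μ[G] f)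
  refine ⟨(ev ι[G]).toLinearMap.rTensor (Fn G) t, fun g => ?_⟩
  have key : ∀ s : Fn G ⊗[k] Fn G, ∀ x : Rat G,
      pfn x (evl (pfn g) ((ev ι[G]).toLinearMap.rTensor (Fn G) s)) = pfn (lift g⁻¹ x) (toProd G G s) := by
    intro s x
    induction s using TensorProduct.induction_on with
    | zero => simp
    | tmul a b =>
      rw [LinearMap.rTensor_tmul, evl_tmul, map_smul, toProd, Algebra.TensorProduct.lift_tmul, map_mul,
        ← pfn_comp, ← pfn_comp, lift_fst, lift_snd, AlgHom.toLinearMap_apply, ← pfn_comp,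
        GrpObj.inv_eq_inv, GrpObj.comp_inv, Category.comp_id, smul_eq_mul]
    | add p q hp hq => simp only [map_add, hp, hq]
  haveI := isReduced_grp G
  refine ext_pts fun x => ?_
  rw [key, ht, ← pfn_comp, lPi_apply, pfn_lMap, Hom.mul_def]

variable {A : Type u} [CommRing A] [Algebra k A]

/-- The diagonal action on `k[G]^H ⊗ A`. -/
noncomputable def transferPi (ρ : VecGrp.GMod G A) : Rat G →* ((invAlg i ⊗[k] A) ≃ₗ[k] (invAlg i ⊗[k] A)) :=
  tensorPi (subPi lPi (Subalgebra.toSubmodule (invAlg i)) fun g _ hf => Inv'.lMap i hf g⁻¹) (rep ρ)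

theorem transferPi_regular (ρ : VecGrp.GMod G A) : IsRegular (transferPi i ρ) :=
  tensorPi_regular _ _ (subPi_regular _ _ _ lPi_regular) (rep_isRegular ρ)

theorem transferPi_tmul (ρ : VecGrp.GMod G A) (g : Rat G) (c : invAlg i) (a : A) :
    transferPi i ρ g (c ⊗ₜ[k] a) = (⟨lMap g⁻¹ c, Inv'.lMap i c.2 g⁻¹⟩ : invAlg i) ⊗ₜ[k] rep ρ g a := rfl

theorem transferPi_mul {ρ : VecGrp.GMod G A} (hρ : ρ.IsMult) (g : Rat G) (z w : invAlg i ⊗[k] A) :
    transferPi i ρ g (z * w) = transferPi i ρ g z * transferPi i ρ g w := by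
  induction z using TensorProduct.induction_on with
  | zero => simp
  | tmul c a =>
    induction w using TensorProduct.induction_on with
    | zero => simp
    | tmul c' a' =>
      rw [Algebra.TensorProduct.tmul_mul_tmul, transferPi_tmul, transferPi_tmul, transferPi_tmul,
        Algebra.TensorProduct.tmul_mul_tmul, rep_mul ρ hρ]
      congr 1
      exact Subtype.ext (map_mul (lMap g⁻¹) _ _)
    | add p q hp hq => simp only [mul_add, map_add, hp, hq]
  | add p q hp hq => simp only [add_mul, map_add, hp, hq]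

theorem transferPi_one {ρ : VecGrp.GMod G A} (hρ : ρ.IsMult) (g : Rat G) :
    transferPi i ρ g (1 : invAlg i ⊗[k] A) = 1 := by
  rw [Algebra.TensorProduct.one_def, transferPi_tmul, rep_one ρ hρ]
  congr 1
  exact Subtype.ext (map_one (lMap g⁻¹))

/-- Transfer: invariants of the subgroup are finitely generated when those of the group are. -/
theorem finiteType_of_transfer (hG : VecGrp.IsReductiveGrp k G) (thmA : VecGrp.ReductiveInvariantsFG k)
    (hfg : Algebra.FiniteType k (invAlg i)) [Algebra.FiniteType k A] (ρ : VecGrp.GMod G A) (hρ : ρ.IsMult) :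
    Algebra.FiniteType k ↥(ρ.fixedSubalgebra hρ i) := by
  classical
  haveI := isReduced_grp G
  haveI := hfg
  let R := invAlg i ⊗[k] A
  haveI : Algebra.FiniteType k R := Algebra.FiniteType.trans (S := invAlg i) inferInstance inferInstance
  let σ := ofRat (transferPi_regular i ρ)
  have hσ : σ.IsMult := isMult_of_rep σ
    (fun g z w => by rw [rep_ofRat]; exact transferPi_mul i hρ g z w)
    (fun g => by rw [rep_ofRat]; exact transferPi_one i hρ g)
  obtain ⟨s, hs, hgen⟩ := thmA G hG R σ hσ inferInstance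
  -- evaluation at a point
  let Ψ : R →ₗ[k] Fn G ⊗[k] A := (invAlg i).val.toLinearMap.rTensor A
  have hΨ : Function.Injective Ψ :=
    Module.Flat.rTensor_preserves_injective_linearMap _ Subtype.val_injective
  have hev : ∀ (x g : Rat G) (z : R), evl (pfn x) (Ψ (transferPi i ρ g z)) = rep ρ g (evl (pfn (g⁻¹ * x)) (Ψ z)) := by
    intro x g z
    induction z using TensorProduct.induction_on with
    | zero => simp
    | tmul c a =>
      rw [transferPi_tmul]
      show evl (pfn x) (lMap g⁻¹ (c : Fn G) ⊗ₜ[k] rep ρ g a) = rep ρ g (evl (pfn (g⁻¹ * x)) ((c : Fn G) ⊗ₜ[k] a))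
      rw [evl_tmul, evl_tmul, pfn_lMap, map_smul]
    | add p q hp hq => simp only [map_add, hp, hq]
  have hinv : ∀ (x : Rat G) (h : Rat H) (z : R), evl (pfn (x * (h ≫ i))) (Ψ z) = evl (pfn x) (Ψ z) := by
    intro x h z
    induction z using TensorProduct.induction_on with
    | zero => simp
    | tmul c a =>
      show evl (pfn (x * (h ≫ i))) ((c : Fn G) ⊗ₜ[k] a) = evl (pfn x) ((c : Fn G) ⊗ₜ[k] a)
      rw [evl_tmul, evl_tmul, Inv'.apply i c.2]
    | add p q hp hq => simp only [map_add, hp, hq]
  let e₁ : R →ₐ[k] A := Algebra.TensorProduct.lift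
    ((Algebra.ofId k A).comp ((pfn (1 : Rat G)).comp (invAlg i).val)) (AlgHom.id k A) fun _ _ => .all _ _
  have he₁ : ∀ z, e₁ z = evl (pfn (1 : Rat G)) (Ψ z) := fun z => by
    induction z using TensorProduct.induction_on with
    | zero => simp
    | tmul c a =>
      show algebraMap k A (pfn (1 : Rat G) (c : Fn G)) * a = evl (pfn (1 : Rat G)) ((c : Fn G) ⊗ₜ[k] a)
      rw [evl_tmul, Algebra.smul_def]
    | add p q hp hq => simp only [map_add, hp, hq]
  have hfix : ∀ z ∈ σ.fixedUnder (𝟙 G), ∀ x, evl (pfn x) (Ψ z) = rep ρ x (e₁ z) := fun z hz x => by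
    have h1 := (mem_fixedUnder_iff σ (𝟙 G) z).mp hz x
    rw [Category.comp_id, rep_ofRat] at h1
    conv_lhs => rw [← h1]
    rw [hev, inv_mul_cancel, ← he₁]
  refine (Subalgebra.fg_iff_finiteType _).mp ⟨s.image e₁, le_antisymm (Algebra.adjoin_le fun y hy => ?_) fun a ha => ?_⟩
  · obtain ⟨z, hz, rfl⟩ := Finset.mem_image.mp (Finset.mem_coe.mp hy)
    refine (mem_fixedUnder_iff ρ i _).mpr fun h => ?_
    rw [← hfix z (hs hz), ← _root_.one_mul (h ≫ i), hinv, ← he₁]
  · -- the orbit map of an invariant
    have ha' := (mem_fixedUnder_iff ρ i a).mp ha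
    let b := Module.Free.chooseBasis k A
    obtain ⟨c, hc⟩ := TensorProduct.eq_repr_basis_right b (coact ρ a)
    have hcinv : ∀ j, c j ∈ invAlg i := fun j h => ext_pts fun x => by
      have hval : ∀ g : Rat G, pfn g (c j) = b.coord j (rep ρ g a) := fun g => by
        rw [rep_eq_evl, ← hc, Finsupp.sum, map_sum, map_sum]
        by_cases hj : j ∈ c.support
        · rw [Finset.sum_eq_single j]
          · simp
          · intro l _ hl; simp [hl]
          · intro hn; exact absurd hj hn
        · rw [Finsupp.notMem_support_iff.mp hj, map_zero, Finset.sum_eq_zero]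
          intro l hl
          have : l ≠ j := fun e => hj (e ▸ hl)
          simp [this]
      rw [pfn_rMap', hval, hval, map_mul, LinearEquiv.mul_apply, ha']
    let z : R := ∑ j ∈ c.support, (⟨c j, hcinv j⟩ : invAlg i) ⊗ₜ[k] b j
    have hz : Ψ z = coact ρ a := by
      rw [← hc, Finsupp.sum, map_sum]
      rfl
    have hzfix : z ∈ σ.fixedUnder (𝟙 G) := by
      rw [mem_fixedUnder_iff]
      intro g
      rw [Category.comp_id, rep_ofRat]
      refine hΨ (eq_of_evl_pts fun x => ?_)
      rw [hev, hz, ← rep_eq_evl, ← rep_eq_evl, ← LinearEquiv.mul_apply, ← map_mul, mul_inv_cancel_left]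
    have hza : e₁ z = a := by
      rw [he₁, hz, ← rep_eq_evl, map_one]
      rfl
    rw [← hza, Finset.coe_image, ← AlgHom.map_adjoin]
    exact ⟨z, hgen hzfix, rfl⟩

end Groth.Agent.Obs28
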