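import Groth.Agent.Obs28.HomogAffine
import Groth.Agent.Obs28.Criterion
import Groth.Agent.Obs28.Transfer
import Groth.Agent.Obs28.Comp
import Groth.Agent.Obs28.Unip.Fixed
import Mathlib.Algebra.CharP.Algebra
import Mathlib.Algebra.CharP.Lemmas
import Mathlib.FieldTheory.Perfect

/-! Smooth affine groups killed by a power of the characteristic exponent: fixed vectors, observability of all
subgroups, affineness of all quotients. -/

universe u

open CategoryTheory MonoidalCategory CartesianMonoidalCategory MonObj GrpObj AlgebraicGeometry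

namespace Groth.Agent.Obs28.Killed

open GrpSchLib GrpSchLib.Kunneth

set_option linter.unusedSectionVars false
set_option linter.style.haveILetI false

variable {k : Type u} [Field k] [IsAlgClosed k] {G H : Over (Spec (CommRingCat.of k))} [GrpObj G] [GrpObj H]
  [IsAffine G.left] [Smooth G.hom] (p n : ℕ) [ExpChar k p] (hkill : ∀ g : Rat G, g ^ p ^ n = 1)

include hkill in
/-- A killed group fixes a nonzero vector in every representation. -/
theorem exists_fixed {V : Type u} [AddCommGroup V] [Module k V] [Nontrivial V]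
    {π : Rat G →* (V ≃ₗ[k] V)} (hπ : IsRegular π) : ∃ v : V, v ≠ 0 ∧ ∀ g, π g v = v := by
  obtain ⟨x, hx⟩ := exists_ne (0 : V)
  let W := orbitSpan π {x}
  haveI : Module.Finite k W := finite_orbitSpan hπ (Set.finite_singleton x)
  haveI : Nontrivial W := ⟨⟨x, subset_orbitSpan _ _ rfl⟩, 0, fun h => hx (congrArg Subtype.val h)⟩
  let ρ : Rat G →* Module.End k W :=
    { toFun := fun g => (subPi π W (orbitSpan_stable _ _) g).toLinearMap
      map_one' := by rw [map_one]; rfl
      map_mul' := fun g h => by rw [map_mul]; rfl }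
  haveI : Nontrivial (Module.End k W) := inferInstance
  haveI : ExpChar (Module.End k W) p :=
    expChar_of_injective_ringHom (f := algebraMap k (Module.End k W)) (RingHom.injective _) p
  obtain ⟨v, hv, hfix⟩ := Unip.exists_fixed_of_unipotent ρ fun g =>
    ⟨p ^ n, by rw [sub_pow_expChar_pow_of_commute _ _ (Commute.one_right (ρ g)), one_pow, ← map_pow, hkill g, map_one,
      sub_self]⟩
  exact ⟨v, fun h => hv (Subtype.ext h), fun g => congrArg Subtype.val (hfix g)⟩

variable [IsAffine H.left] [Smooth H.hom] (i : H ⟶ G) [IsMonHom i] [IsClosedImmersion i.left]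

include hkill in
/-- All smooth closed subgroups of a killed group are observable. -/
theorem observable : AGF.IsObservableIn k i := by
  refine observable_of_chars i fun χ hχ V _ _ _ π hπ v hv hev => ⟨V, inferInstance, inferInstance, π, hπ, v, hv,
    fun h => ?_⟩
  haveI := hχ
  have h1 : cv χ (1 : Rat H) = 1 := by
    have h2 := cv_hom χ (1 : Rat H) 1
    rw [_root_.mul_one] at h2
    exact mul_left_cancel₀ (cv_ne_zero χ 1) (h2.symm.trans (_root_.mul_one _).symm)
  have hpow : ∀ m : ℕ, cv χ (h ^ m) = cv χ h ^ m := by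
    intro m
    induction m with
    | zero => rw [pow_zero, pow_zero, h1]
    | succ m ih => rw [pow_succ, pow_succ, cv_hom, ih]
  haveI : Mono i.left := inferInstance
  haveI : Mono i := Over.mono_of_mono_left i
  have hh : h ^ p ^ n = 1 := by
    rw [← cancel_mono i, MonObj.pow_comp, hkill, MonObj.one_comp]
  have hc : cv χ h = 1 := by
    have h3 := hpow (p ^ n)
    rw [hh, h1] at h3
    have h4 : (cv χ h - 1) ^ p ^ n = 0 := by
      rw [sub_pow_expChar_pow, one_pow, ← h3, sub_self]
    exact sub_eq_zero.mp (eq_zero_of_pow_eq_zero h4)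
  rw [hev h, hc, inv_one, one_smul]

/-- Quotients by observable subgroups of groups fixing vectors in all representations are affine. -/
theorem isAffine_quotient_of (hobs : AGF.IsObservableIn k i)
    (hfix : ∀ {V : Type u} [AddCommGroup V] [Module k V] [Nontrivial V] {π : Rat G →* (V ≃ₗ[k] V)},
      IsRegular π → ∃ v : V, v ≠ 0 ∧ ∀ g, π g v = v)
    {X : Over (Spec (CommRingCat.of k))} {a : AlgGrp.Action G X}
    {o : 𝟙_ (Over (Spec (CommRingCat.of k))) ⟶ X} (hX : AGF.IsQuotient i X a o) : IsAffine X.left := by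
  classical
  haveI := isQuasiAffine_of_observable i hX hobs
  obtain ⟨-, -, hsurj, -, -, -⟩ := quot_facts i hX
  haveI := hsurj
  haveI := isReduced_grp G
  let e := (ev (a.orbitMap o)).toRingHom
  have hinj : Function.Injective e := ev_orbit_injective i hX
  let V : Set (PrimeSpectrum (Fn X)) := Set.range (PrimeSpectrum.comap e)
  have hV : V = Set.range X.left.toSpecΓ.base := by
    ext q
    constructor
    · rintro ⟨r, rfl⟩
      obtain ⟨y, hy⟩ := G.left.toSpecΓ.surjective r
      refine ⟨(a.orbitMap o).left y, ?_⟩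
      rw [← Scheme.Hom.comp_apply, Scheme.toSpecΓ_naturality, Scheme.Hom.comp_apply, hy]
      rfl
    · rintro ⟨x, rfl⟩
      obtain ⟨y, rfl⟩ := (a.orbitMap o).left.surjective x
      refine ⟨G.left.toSpecΓ y, ?_⟩
      rw [← Scheme.Hom.comp_apply, Scheme.toSpecΓ_naturality, Scheme.Hom.comp_apply]
      rfl
  have hVopen : IsOpen V := by
    rw [hV]
    exact X.left.toSpecΓ.isOpenEmbedding.isOpen_range
  suffices hcl : Vᶜ = ∅ by
    refine isAffine_of_primes i hX fun q hq => ?_
    obtain ⟨r, hr⟩ : (⟨q, hq⟩ : PrimeSpectrum (Fn X)) ∈ V := by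
      by_contra h
      exact (Set.eq_empty_iff_forall_notMem.mp hcl) _ h
    exact ⟨r.asIdeal, r.2, congrArg PrimeSpectrum.asIdeal hr⟩
  let I : Ideal (Fn X) := PrimeSpectrum.vanishingIdeal Vᶜ
  by_contra hne
  -- translations act on the functions of the quotient
  have hτ : ∀ g : Rat G, ∃ τ : Fn X →+* Fn X, e.comp τ = (lMap g).toRingHom.comp e := by
    intro g
    have hmem : ∀ x, lMap g (e x) ∈ e.range := fun x => by
      obtain ⟨x', hx'⟩ := (exists_fn_iff i hX _).mpr
        ((inv'_iff i _).mpr (Inv'.lMap i ((inv'_iff i _).mp ((exists_fn_iff i hX _).mp ⟨x, rfl⟩)) g))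
      exact ⟨x', hx'⟩
    let eq := RingEquiv.ofBijective e.rangeRestrict ⟨fun x y h => hinj (congrArg Subtype.val h), e.rangeRestrict_surjective⟩
    refine ⟨eq.symm.toRingHom.comp (((lMap g).toRingHom.comp e).codRestrict e.range hmem), RingHom.ext fun x => ?_⟩
    exact congrArg Subtype.val (eq.apply_symm_apply _)
  let J : Submodule k (Fn G) := (I.restrictScalars k).map (ev (a.orbitMap o)).toLinearMap
  have hstab : ∀ (g : Rat G), ∀ f ∈ J, lPi g f ∈ J := by
    rintro g f ⟨x, hx, rfl⟩
    obtain ⟨τ, hτ₁⟩ := hτ g⁻¹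
    obtain ⟨τ', hτ'⟩ := hτ g
    refine ⟨τ x, (PrimeSpectrum.mem_vanishingIdeal _ _).mpr fun q hq => ?_, RingHom.congr_fun hτ₁ x⟩
    refine (PrimeSpectrum.mem_vanishingIdeal _ _).mp hx (PrimeSpectrum.comap τ q) fun hr => hq ?_
    obtain ⟨r, hr⟩ := hr
    refine ⟨PrimeSpectrum.comap (lMap g).toRingHom r, ?_⟩
    rw [← PrimeSpectrum.comap_comp_apply, ← hτ', PrimeSpectrum.comap_comp_apply, hr,
      ← PrimeSpectrum.comap_comp_apply]
    have : τ.comp τ' = RingHom.id (Fn X) := RingHom.ext fun y => hinj (by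
      have h1 := RingHom.congr_fun hτ₁ (τ' y)
      have h2 := RingHom.congr_fun hτ' y
      simp only [RingHom.comp_apply, RingHom.id_apply] at h1 h2 ⊢
      rw [h1, h2]
      refine ext_pts fun z => ?_
      show pfn z (lMap g⁻¹ (lMap g (e y))) = pfn z (e y)
      rw [pfn_lMap, pfn_lMap, mul_inv_cancel_left])
    rw [this, PrimeSpectrum.comap_id]
  haveI : Nontrivial J := by
    obtain ⟨x, hxI, hx0⟩ : ∃ x, x ∈ I ∧ x ≠ 0 := by
      by_contra h
      push Not at h
      have hI : I = ⊥ := le_bot_iff.mp fun x hx => Ideal.mem_bot.mpr (h x hx)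
      have h1 : closure Vᶜ = Set.univ := by
        rw [← PrimeSpectrum.zeroLocus_vanishingIdeal_eq_closure, show PrimeSpectrum.vanishingIdeal Vᶜ = ⊥ from hI,
          PrimeSpectrum.zeroLocus_bot]
      rw [hVopen.isClosed_compl.closure_eq] at h1
      obtain ⟨r⟩ : Nonempty (PrimeSpectrum (Fn G)) :=
        ⟨PrimeSpectrum.comap (pfn (1 : Rat G)).toRingHom ⟨⊥, Ideal.isPrime_bot⟩⟩
      exact (h1.ge (Set.mem_univ (PrimeSpectrum.comap e r))) ⟨r, rfl⟩
    exact ⟨⟨e x, x, hxI, rfl⟩, 0, fun h => hx0 (hinj ((congrArg Subtype.val h).trans (map_zero e).symm))⟩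
  obtain ⟨⟨f, x, hxI, hxf⟩, hf0, hfix⟩ := hfix (subPi_regular lPi J hstab lPi_regular)
  have hconst : f = algebraMap k (Fn G) (pfn (1 : Rat G) f) := by
    refine ext_pts fun z => ?_
    rw [AlgHom.commutes]
    have h1 := congrArg (fun w : J => pfn (1 : Rat G) w.1) (hfix z⁻¹)
    change pfn (1 : Rat G) (lPi z⁻¹ f) = pfn (1 : Rat G) f at h1
    rw [lPi_apply, _root_.inv_inv, pfn_lMap, _root_.mul_one] at h1
    exact h1
  have hc : pfn (1 : Rat G) f ≠ 0 := fun h => hf0 (Subtype.ext (hconst.trans ((congrArg _ h).trans (map_zero _))))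
  have hx : x = algebraMap k (Fn X) (pfn (1 : Rat G) f) :=
    hinj ((hxf.trans hconst).trans ((ev (a.orbitMap o)).commutes _).symm)
  obtain ⟨q, hq⟩ := Set.nonempty_iff_ne_empty.mpr hne
  have hq' : x ∈ q.asIdeal := (PrimeSpectrum.mem_vanishingIdeal _ _).mp hxI q hq
  rw [hx] at hq'
  exact q.2.ne_top (Ideal.eq_top_of_isUnit_mem _ hq' ((IsUnit.mk0 _ hc).map _))

include hkill in
/-- All quotients of a killed group by smooth closed subgroups are affine. -/
theorem isAffine_quotient {X : Over (Spec (CommRingCat.of k))} {a : AlgGrp.Action G X}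
    {o : 𝟙_ (Over (Spec (CommRingCat.of k))) ⟶ X} (hX : AGF.IsQuotient i X a o) : IsAffine X.left :=
  isAffine_quotient_of i (observable p n hkill i) (fun hπ => exists_fixed p n hkill hπ) hX

end Groth.Agent.Obs28.Killed
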