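import Groth.Agent.Obs28.Hull
import Mathlib.RingTheory.Jacobson.Ring
import Mathlib.FieldTheory.IsAlgClosed.Basic

/-! Restriction of rational modules, and the vanishing ideal of a subgroup. -/

universe u

open CategoryTheory MonoidalCategory CartesianMonoidalCategory MonObj GrpObj AlgebraicGeometry
open scoped TensorProduct

namespace Groth.Agent.Obs28

open GrpSchLib.Kunneth

set_option linter.unusedSectionVars false
set_option linter.style.haveILetI false

variable {k : Type u} [Field k] {G H : Over (Spec (CommRingCat.of k))} [GrpObj G] [GrpObj H]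
  {M : Type u} [AddCommGroup M] [Module k M]

/-- Restriction along a homomorphism. -/
noncomputable def res (ρ : VecGrp.GMod G M) (i : H ⟶ G) [IsMonHom i] : VecGrp.GMod H M where
  ρ B _ _ := (ρ.ρ B).comp
    { toFun := fun h => h ≫ i, map_one' := MonObj.one_comp _, map_mul' := fun a b => MonObj.mul_comp a b i }
  naturality φ g x := by
    simp only [MonoidHom.comp_apply, MonoidHom.coe_mk, OneHom.coe_mk, Category.assoc]
    exact ρ.naturality φ (g ≫ i) x

theorem res_apply (ρ : VecGrp.GMod G M) (i : H ⟶ G) [IsMonHom i] {B : Type u} [CommRing B] [Algebra k B]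
    (h : VecGrp.pt k B ⟶ H) (x : B ⊗[k] M) : (res ρ i).ρ B h x = ρ.ρ B (h ≫ i) x := rfl

theorem fixedUnder_res (ρ : VecGrp.GMod G M) (i : H ⟶ G) [IsMonHom i] (x : M) :
    x ∈ (res ρ i).fixedUnder (𝟙 H) ↔ x ∈ ρ.fixedUnder i := by
  refine forall_congr' fun B => forall_congr' fun _ => forall_congr' fun _ => forall_congr' fun h => ?_
  rw [res_apply, Category.comp_id]

theorem res_isMult {A : Type u} [CommRing A] [Algebra k A] {ρ : VecGrp.GMod G A} (hρ : ρ.IsMult) (i : H ⟶ G)
    [IsMonHom i] : (res ρ i).IsMult := fun B _ _ h => hρ B (h ≫ i)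

theorem fixedSubalgebra_res {A : Type u} [CommRing A] [Algebra k A] {ρ : VecGrp.GMod G A} (hρ : ρ.IsMult)
    (i : H ⟶ G) [IsMonHom i] :
    (res ρ i).fixedSubalgebra (res_isMult hρ i) (𝟙 H) = ρ.fixedSubalgebra hρ i :=
  SetLike.ext fun x => fixedUnder_res ρ i x

variable [IsAlgClosed k]

/-- Nullstellensatz: a proper ideal of functions on an affine variety has a rational zero. -/
theorem exists_zero {X : Over (Spec (CommRingCat.of k))} [IsAffine X.left] [LocallyOfFiniteType X.hom]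
    {I : Ideal (Fn X)} (hI : I ≠ ⊤) : ∃ x : Rat X, ∀ f ∈ I, pfn x f = 0 := by
  obtain ⟨m, hm, hIm⟩ := Ideal.exists_le_maximal I hI
  haveI := finiteType_fn X
  letI := Ideal.Quotient.field m
  haveI : Module.Finite k (Fn X ⧸ m) := finite_of_finite_type_of_isJacobsonRing k _
  let e := AlgEquiv.ofBijective (Algebra.ofId k (Fn X ⧸ m)) (IsAlgClosed.algebraMap_bijective_of_isIntegral (k := k) (K := Fn X ⧸ m))
  refine ⟨VecGrp.ptMap ((e.symm : (Fn X ⧸ m) →ₐ[k] k).comp (Ideal.Quotient.mkₐ k m)) ≫ univ X, fun f hf => ?_⟩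
  rw [pfn_ptMap, pfn_univ]
  show e.symm (Ideal.Quotient.mk m f) = 0
  rw [Ideal.Quotient.eq_zero_iff_mem.mpr (hIm hf), map_zero]

variable [IsAffine G.left] [Smooth G.hom] (i : H ⟶ G) [IsMonHom i] [IsClosedImmersion i.left]

/-- The ideal of the coset `g H`. -/
noncomputable def cosetIdeal (g : Rat G) : Ideal (Fn G) := RingHom.ker ((ev i).comp (lMap g))

theorem mem_cosetIdeal [IsAffine H.left] [Smooth H.hom] (g : Rat G) (f : Fn G) :
    f ∈ cosetIdeal i g ↔ ∀ h : Rat H, pfn (g * (h ≫ i)) f = 0 := by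
  haveI := isReduced_grp H
  show ev i (lMap g f) = 0 ↔ _
  refine ⟨fun h x => ?_, fun h => eq_zero_of_val _ fun x => ?_⟩
  · rw [← pfn_lMap, pfn_comp, h, map_zero]
  · rw [← pfn_comp, pfn_lMap, h]

theorem cosetIdeal_isRadical [IsAffine H.left] [Smooth H.hom] (g : Rat G) : (cosetIdeal i g).IsRadical := by
  haveI := isReduced_grp H
  haveI : _root_.IsReduced (Fn H) := inferInstanceAs (_root_.IsReduced Γ(H.left, ⊤))
  intro x ⟨n, hn⟩
  show ev i (lMap g x) = 0
  exact IsNilpotent.eq_zero ⟨n, by rw [← map_pow, ← map_pow]; exact hn⟩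

theorem cosetIdeal_eq_of_common_zero [IsAffine H.left] [Smooth H.hom] {g g' x : Rat G}
    (h : ∀ f ∈ cosetIdeal i g, pfn x f = 0) (h' : ∀ f ∈ cosetIdeal i g', pfn x f = 0) : Mem i (g⁻¹ * g') := by
  have key : ∀ a : Rat G, (∀ f ∈ cosetIdeal i a, pfn x f = 0) → Mem i (a⁻¹ * x) := fun a ha => by
    refine mem_of_vanish i _ fun f hf => ?_
    rw [← pfn_lMap]
    refine ha _ ?_
    show ev i (lMap a (lMap a⁻¹ f)) = 0
    haveI := isReduced_grp H
    refine eq_zero_of_val _ fun y => ?_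
    rw [← pfn_comp, pfn_lMap, pfn_lMap, inv_mul_cancel_left, pfn_comp, hf, map_zero]
  obtain ⟨a, ha⟩ := key g h
  obtain ⟨b, hb⟩ := key g' h'
  refine ⟨a * b⁻¹, ?_⟩
  rw [MonObj.mul_comp, GrpObj.inv_comp, ha, hb, _root_.mul_inv_rev, _root_.inv_inv, _root_.mul_assoc, mul_inv_cancel_left]

end Groth.Agent.Obs28
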