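import Groth.Agent.Obs28.Radical
import Groth.Agent.Obs28.Extend
import Groth.Agent.Obs28.Chev

/-! A representation witnessing that a group with a normal subgroup without subtori is not reductive. -/

universe u

open CategoryTheory MonoidalCategory CartesianMonoidalCategory MonObj GrpObj AlgebraicGeometry
open scoped TensorProduct

namespace Groth.Agent.Obs28

open GrpSchLib.Kunneth

set_option linter.unusedSectionVars false
set_option linter.style.haveILetI false

variable {k : Type u} [Field k] [IsAlgClosed k] {G U : Over (Spec (CommRingCat.of k))} [GrpObj G] [GrpObj U]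
  [IsAffine G.left] [Smooth G.hom] [IsAffine U.left] [Smooth U.hom]

section Quot

variable {M : Type u} [AddCommGroup M] [Module k M] (π : Rat G →* (M ≃ₗ[k] M)) (W : Submodule k M)
  (hW : ∀ g, ∀ x ∈ W, π g x ∈ W)

/-- The representation on a quotient. -/
noncomputable def quoPi : Rat G →* ((M ⧸ W) ≃ₗ[k] (M ⧸ W)) :=
  (LinearMap.GeneralLinearGroup.generalLinearEquiv k (M ⧸ W)).toMonoidHom.comp
    (({ toFun := fun g => W.mapQ W (π g).toLinearMap (hW g)
        map_one' := Submodule.linearMap_qext _ (LinearMap.ext fun x => by simp)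
        map_mul' := fun g h => Submodule.linearMap_qext _ (LinearMap.ext fun x => by simp [map_mul]) } :
      Rat G →* Module.End k (M ⧸ W)).toHomUnits)

theorem quoPi_mk (g : Rat G) (x : M) : quoPi π W hW g (Submodule.Quotient.mk x) = Submodule.Quotient.mk (π g x) := rfl

theorem quoPi_regular (hπ : IsRegular π) : IsRegular (quoPi π W hW) := fun x => by
  obtain ⟨y, rfl⟩ := Submodule.Quotient.mk_surjective W x
  obtain ⟨z, hz⟩ := hπ y
  exact ⟨W.mkQ.lTensor (Fn G) z, fun g => by rw [evl_lTensor, ← hz g, quoPi_mk]; rfl⟩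

end Quot

/-- A function without characters as weights takes infinitely many values unless it is constant. -/
theorem infinite_range_pfn [ConnectedSpace G.left] {f : Fn G} {a b : Rat G} (hab : pfn a f ≠ pfn b f) :
    (Set.range fun g : Rat G => pfn g f).Infinite := by
  classical
  intro hfin
  haveI := isReduced_grp G
  haveI : IsDomain (Fn G) := by
    haveI := Unip.isIntegral_grp (G := G)
    exact inferInstanceAs (IsDomain Γ(G.left, ⊤))
  have h0 : ∏ c ∈ hfin.toFinset, (f - algebraMap k (Fn G) c) = 0 := eq_zero_of_val _ fun g => by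
    rw [map_prod]
    refine Finset.prod_eq_zero (i := pfn g f) (hfin.mem_toFinset.mpr ⟨g, rfl⟩) ?_
    rw [map_sub, AlgHom.commutes]
    exact sub_self _
  obtain ⟨c, -, hc⟩ := Finset.prod_eq_zero_iff.mp h0
  rw [sub_eq_zero] at hc
  exact hab (by rw [hc, AlgHom.commutes, AlgHom.commutes])

theorem exists_pair_of_rep [ConnectedSpace U.left] (hU : Red.HasNoSubtorus k U) (u : U ⟶ G) [IsMonHom u]
    (hn : AlgGrp.IsNormalHom u) {W₀ : Type u} [AddCommGroup W₀] [Module k W₀] [Module.Finite k W₀]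
    {π₀ : Rat G →* (W₀ ≃ₗ[k] W₀)} (hπ₀ : IsRegular π₀) {f₀ : W₀} {u₀ : Rat U} (hne : π₀ (u₀ ≫ u) f₀ ≠ f₀) :
    ∃ (V : Type u) (_ : AddCommGroup V) (_ : Module k V) (_ : Module.Finite k V)
      (π : Rat G →* (V ≃ₗ[k] V)) (_ : IsRegular π) (v w : V) (c : Rat U → k),
      v ≠ 0 ∧ (∀ g, π g v = v) ∧ (∀ y, π (y ≫ u) w = w + c y • v) ∧ (Set.range c).Infinite := by
  classical
  haveI := isReduced_grp G
  let S : Submodule k W₀ := ⨅ y : Rat U, LinearMap.eqLocus (π₀ (y ≫ u)).toLinearMap LinearMap.id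
  have hS : ∀ x, x ∈ S ↔ ∀ y : Rat U, π₀ (y ≫ u) x = x := fun x => by simp [S, Submodule.mem_iInf]
  have hSst : ∀ g, ∀ x ∈ S, π₀ g x ∈ S := fun g x hx => by
    rw [hS] at hx ⊢
    intro y
    obtain ⟨y', hy'⟩ := hn _ g⁻¹ y
    rw [_root_.inv_inv] at hy'
    rw [← LinearEquiv.mul_apply, ← map_mul, show (y ≫ u) * g = g * (y' ≫ u) by rw [← hy']; group, map_mul,
      LinearEquiv.mul_apply, hx]
  have hSne : S ≠ ⊤ := fun h => hne ((hS _).mp (h ▸ trivial) u₀)
  haveI : Nontrivial (W₀ ⧸ S) := Submodule.Quotient.nontrivial_iff.mpr hSne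
  obtain ⟨z, hz0, hz⟩ := Unip.exists_fixed hU (resPi_regular (quoPi_regular π₀ S hSst hπ₀) u)
  obtain ⟨w₀, rfl⟩ := Submodule.Quotient.mk_surjective S z
  have hd : ∀ y : Rat U, π₀ (y ≫ u) w₀ - w₀ ∈ S := fun y =>
    (Submodule.Quotient.eq S).mp ((quoPi_mk π₀ S hSst (y ≫ u) w₀).symm.trans (hz y))
  obtain ⟨y₁, hy₁⟩ : ∃ y₁ : Rat U, π₀ (y₁ ≫ u) w₀ ≠ w₀ := by
    by_contra h
    push Not at h
    exact hz0 ((Submodule.Quotient.mk_eq_zero S).mpr ((hS w₀).mpr h))
  haveI : Module.Free k S := Module.Free.of_divisionRing k S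
  haveI : Module.Finite k S := Module.Finite.of_injective S.subtype S.subtype_injective
  let n := Module.finrank k S
  let b := Module.finBasis k S
  let bW : Fin n → W₀ := fun j => (b j : W₀)
  obtain ⟨j, hj⟩ : ∃ j, b.coord j ⟨_, hd y₁⟩ ≠ 0 := by
    by_contra h
    push Not at h
    exact hy₁ (sub_eq_zero.mp (congrArg Subtype.val (b.forall_coord_eq_zero_iff.mp h)))
  let ω := ExteriorAlgebra.ιMulti k n bW
  have hω : ω ≠ 0 := ιMulti_ne_zero (b.linearIndependent.map' S.subtype S.ker_subtype)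
  obtain ⟨χ, hχ, hωχ⟩ := exists_char_of_line (𝟙 G) (extPi_regular π₀ hπ₀) hω
    fun g => extPi_line π₀ b (g ≫ 𝟙 G) fun x hx => by rw [Category.comp_id]; exact hSst g x hx
  simp only [Category.comp_id] at hωχ
  let L : W₀ →ₗ[k] ExteriorAlgebra k W₀ := (ExteriorAlgebra.ιMulti k n).toMultilinearMap.toLinearMap bW j
  let x := L w₀
  have hL : ∀ d : S, L d = b.coord j d • ω := fun d => by
    conv_lhs => rw [← b.sum_repr d]
    rw [Submodule.coe_sum, map_sum, Finset.sum_eq_single j]
    · rw [Submodule.coe_smul, map_smul]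
      congr 1
      show ExteriorAlgebra.ιMulti k n (Function.update bW j (bW j)) = ω
      rw [Function.update_eq_self]
    · intro l _ hl
      rw [Submodule.coe_smul, map_smul,
        show L (bW l) = 0 from AlternatingMap.map_eq_zero_of_eq (ExteriorAlgebra.ιMulti k n) _
          (show Function.update bW j (bW l) j = Function.update bW j (bW l) l by
            rw [Function.update_self, Function.update_of_ne hl]) hl.symm, smul_zero]
    · exact fun hh => absurd (Finset.mem_univ _) hh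
  have hχu : ∀ y : Rat U, cv χ (y ≫ u) = 1 := fun y => by
    refine smul_left_injective k hω ?_
    show cv χ (y ≫ u) • ω = (1 : k) • ω
    rw [one_smul, ← hωχ, extPi_apply, ExteriorAlgebra.map_apply_ιMulti]
    refine congrArg _ (funext fun l => ?_)
    exact (hS _).mp (b l).2 y
  have hxu : ∀ y : Rat U, extPi π₀ (y ≫ u) x = x + b.coord j ⟨_, hd y⟩ • ω := fun y => by
    rw [← hL ⟨_, hd y⟩, ← map_add]
    show _ = L (w₀ + (π₀ (y ≫ u) w₀ - w₀))
    rw [add_sub_cancel]
    show extPi π₀ (y ≫ u) (ExteriorAlgebra.ιMulti k n (Function.update bW j w₀)) =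
      ExteriorAlgebra.ιMulti k n (Function.update bW j (π₀ (y ≫ u) w₀))
    rw [extPi_apply, ExteriorAlgebra.map_apply_ιMulti]
    refine congrArg _ (funext fun l => ?_)
    rw [Function.comp_apply]
    rcases eq_or_ne l j with rfl | hl
    · rw [Function.update_self, Function.update_self]; rfl
    · rw [Function.update_of_ne hl, Function.update_of_ne hl]
      exact (hS _).mp (b l).2 y
  let π' : Rat G →* (ExteriorAlgebra k W₀ ≃ₗ[k] ExteriorAlgebra k W₀) :=
    { toFun := fun g => extPi π₀ g ≪≫ₗ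
        LinearEquiv.smulOfUnit (Units.mk0 (cv χ g) (cv_ne_zero χ g))⁻¹
      map_one' := LinearEquiv.ext fun z => by
        have h1 : cv χ (1 : Rat G) = 1 := smul_left_injective k hω (by
          show cv χ (1 : Rat G) • ω = (1 : k) • ω
          rw [one_smul, ← hωχ, map_one]; rfl)
        show ((cv χ 1)⁻¹ : k) • extPi π₀ 1 z = z
        rw [h1, inv_one, one_smul, map_one]; rfl
      map_mul' := fun g h => LinearEquiv.ext fun z => by
        show ((cv χ (g * h))⁻¹ : k) • extPi π₀ (g * h) z =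
          ((cv χ g)⁻¹ : k) • extPi π₀ g (((cv χ h)⁻¹ : k) • extPi π₀ h z)
        rw [map_smul, smul_smul, cv_hom, _root_.mul_inv, map_mul]; rfl }
  have hπ' : IsRegular π' := fun z => by
    obtain ⟨t, ht⟩ := extPi_regular π₀ hπ₀ z
    refine ⟨Red.gmFn χ⁻¹ • t, fun g => ?_⟩
    have e : ∀ t : Fn G ⊗[k] ExteriorAlgebra k W₀,
        evl (pfn g) (Red.gmFn χ⁻¹ • t) = (cv χ g)⁻¹ • evl (pfn g) t := fun t => by
      induction t using TensorProduct.induction_on with
      | zero => simp
      | tmul a m =>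
        rw [TensorProduct.smul_tmul', evl_tmul, evl_tmul, smul_eq_mul, map_mul, smul_smul, ← cv_inv]
        rfl
      | add p q hp hq => simp only [smul_add, map_add, hp, hq]
    rw [e, ← ht g]
    rfl
  let V := orbitSpan π' {ω, x}
  haveI : Module.Finite k V := finite_orbitSpan hπ' (Set.toFinite _)
  have hgω : ∀ g, π' g ω = ω := fun g => by
    show ((cv χ g)⁻¹ : k) • extPi π₀ g ω = ω
    rw [hωχ, smul_smul, inv_mul_cancel₀ (cv_ne_zero χ g), one_smul]
  refine ⟨V, inferInstance, inferInstance, inferInstance, subPi π' V (orbitSpan_stable _ _), subPi_regular _ _ _ hπ',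
    ⟨ω, subset_orbitSpan _ _ (Or.inl rfl)⟩, ⟨x, subset_orbitSpan _ _ (Or.inr rfl)⟩,
    fun y => b.coord j ⟨_, hd y⟩, fun h => hω (congrArg Subtype.val h), fun g => Subtype.ext (hgω g),
    fun y => Subtype.ext ?_, ?_⟩
  · show ((cv χ (y ≫ u))⁻¹ : k) • extPi π₀ (y ≫ u) x = x + b.coord j ⟨_, hd y⟩ • ω
    rw [hχu, inv_one, one_smul, hxu]
  · obtain ⟨p, hp⟩ := LinearMap.exists_leftInverse_of_injective S.subtype S.ker_subtype
    let φ : W₀ →ₗ[k] k := b.coord j ∘ₗ p
    let F : Fn U := ev u (coeff hπ₀ φ w₀) - algebraMap k (Fn U) (φ w₀)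
    have hF : ∀ y : Rat U, pfn y F = b.coord j ⟨_, hd y⟩ := fun y => by
      rw [map_sub, AlgHom.commutes, ← pfn_comp, pfn_coeff]
      show φ (π₀ (y ≫ u) w₀) - φ w₀ = _
      rw [← map_sub]
      exact congrArg (b.coord j) (LinearMap.congr_fun hp (⟨_, hd y⟩ : S))
    have h1 : b.coord j ⟨_, hd 1⟩ = 0 := by
      rw [show (⟨_, hd 1⟩ : S) = 0 from Subtype.ext (by simp [MonObj.one_comp]), map_zero]
    rw [← show (fun y : Rat U => pfn y F) = fun y => b.coord j ⟨_, hd y⟩ from funext hF]
    exact infinite_range_pfn (a := y₁) (b := 1) (by rw [hF, hF, h1]; exact hj)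

/-- A nontrivial connected normal subgroup without subtori yields a representation with a fixed vector and a
vector whose orbit under the subgroup is an unbounded translate of it. -/
theorem exists_unipotent_pair [ConnectedSpace U.left] (hU : Red.HasNoSubtorus k U) (u : U ⟶ G) [IsMonHom u]
    [IsClosedImmersion u.left] (hn : AlgGrp.IsNormalHom u) {u₀ : Rat U} (hu₀ : u₀ ≠ 1) :
    ∃ (V : Type u) (_ : AddCommGroup V) (_ : Module k V) (_ : Module.Finite k V)
      (π : Rat G →* (V ≃ₗ[k] V)) (_ : IsRegular π) (v w : V) (c : Rat U → k),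
      v ≠ 0 ∧ (∀ g, π g v = v) ∧ (∀ y, π (y ≫ u) w = w + c y • v) ∧ (Set.range c).Infinite := by
  classical
  haveI := isReduced_grp G
  haveI : Mono u.left := inferInstance
  haveI : Mono u := Over.mono_of_mono_left u
  obtain ⟨f, hf⟩ : ∃ f : Fn G, pfn (u₀ ≫ u) f ≠ pfn (1 : Rat G) f := by
    by_contra h
    push Not at h
    exact hu₀ ((cancel_mono u).mp ((pfn_injective (AlgHom.ext h)).trans (MonObj.one_comp u).symm))
  let W₀ := orbitSpan (rPi (G := G)) {f}
  haveI : Module.Finite k W₀ := finite_orbitSpan rPi_regular (Set.finite_singleton f)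
  let π₀ := subPi (rPi (G := G)) W₀ (orbitSpan_stable _ _)
  have hπ₀ : IsRegular π₀ := subPi_regular _ _ _ rPi_regular
  refine exists_pair_of_rep hU u hn hπ₀ (f₀ := ⟨f, subset_orbitSpan _ _ rfl⟩) (u₀ := u₀) fun h => hf ?_
  have h1 := congrArg (fun z : W₀ => pfn (1 : Rat G) (z : Fn G)) h
  simpa only [π₀, subPi_coe, rPi_apply, pfn_rMap', _root_.one_mul] using h1

end Groth.Agent.Obs28
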