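import Groth.Agent.Obs28.HomogAffine
import Groth.Agent.Obs28.Transfer
import Groth.Agent.Obs28.FGInv
import Groth.Agent.Obs28.Res
import Groth.Agent.Obs28.UnipPair
import Mathlib.AlgebraicGeometry.AlgClosed.Basic
import Mathlib.Algebra.MvPolynomial.Funext

/-! The converse of the theorem of Matsushima. -/

universe u

open CategoryTheory MonoidalCategory CartesianMonoidalCategory MonObj GrpObj AlgebraicGeometry
open scoped TensorProduct

namespace Groth.Agent.Obs28

open GrpSchLib.Kunneth

set_option linter.unusedSectionVars false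
set_option linter.style.haveILetI false

variable {k : Type u} [Field k] [IsAlgClosed k] {G H K : Over (Spec (CommRingCat.of k))} [GrpObj G] [GrpObj H]
  [GrpObj K] [IsAffine G.left] [Smooth G.hom] [IsAffine H.left] [Smooth H.hom] [IsAffine K.left] [Smooth K.hom]
  (i : H ⟶ G) [IsMonHom i] [IsClosedImmersion i.left] {X : Over (Spec (CommRingCat.of k))}
  {a : AlgGrp.Action G X} {o : 𝟙_ (Over (Spec (CommRingCat.of k))) ⟶ X}

/-- Invariant functions without common zero on an affine quotient generate the unit ideal. -/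
theorem ideal_eq_top_of_no_zero (hX : AGF.IsQuotient i X a o) [IsAffine X.left] (I : Ideal (invAlg i))
    (h : ∀ g : Rat G, ∃ f ∈ I, pfn g (f : Fn G) ≠ 0) : I = ⊤ := by
  obtain ⟨hl, -, hs, -, -, -⟩ := quot_facts i hX
  haveI := hl; haveI := hs
  let e : Fn X →+* invAlg i := (ev (a.orbitMap o)).toRingHom.codRestrict (invAlg i).toSubring fun x =>
    (inv'_iff i _).mp ((exists_fn_iff i hX _).mp ⟨x, rfl⟩)
  by_contra hI
  have hI' : I.comap e ≠ ⊤ := fun ht => hI ((Ideal.eq_top_iff_one I).mpr (by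
    have h1 : (1 : Fn X) ∈ I.comap e := ht ▸ Submodule.mem_top
    rwa [Ideal.mem_comap, map_one] at h1))
  obtain ⟨x, hx⟩ := exists_zero (X := X) hI'
  have hcl : IsClosed ({ptx x} : Set X.left) :=
    ((pointEquivClosedPoint X.hom) ⟨x.left, by rw [Over.w x]; exact congrArg Spec.map rfl |>.trans (by simp [VecGrp.pt])⟩).2
  obtain ⟨y, hy⟩ := (a.orbitMap o).left.surjective (ptx x)
  obtain ⟨g, hg⟩ := exists_rat (X := G) (Z := (a.orbitMap o).left.base ⁻¹' {ptx x}) ⟨y, hy⟩
    (hcl.preimage (a.orbitMap o).left.base.hom.continuous).isLocallyClosed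
  have hgx : g ≫ a.orbitMap o = x := by
    refine Over.OverMorphism.ext (ext_of_apply_closedPoint_eq X.hom ?_ ?_ hg)
    · rw [Over.w (g ≫ a.orbitMap o)]; simp [VecGrp.pt]
    · rw [Over.w x]; simp [VecGrp.pt]
  obtain ⟨f, hf, hfg⟩ := h g
  obtain ⟨x', hx'⟩ := (exists_fn_iff i hX (f : Fn G)).mpr ((inv'_iff i _).mpr f.2)
  refine hfg ?_
  rw [← hx', ← pfn_comp, hgx]
  refine hx x' ?_
  rw [Ideal.mem_comap]
  convert hf
  exact Subtype.ext hx'

section Equivariant

variable (j : K ⟶ H) [IsMonHom j] [IsOpenImmersion j.left] [ConnectedSpace K.left]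
  {V : Type u} [AddCommGroup V] [Module k V] (π : Rat K →* (V ≃ₗ[k] V))

/-- Equivariant maps into functions. -/
def IsEqv (Φ : V →ₗ[k] Fn G) : Prop := ∀ (h : Rat K) y, Φ (π h y) = rMap ((h ≫ j) ≫ i) (Φ y)

/-- Existence of an equivariant map sending a fixed vector to one. -/
theorem exists_equivariant_one [Module.Finite k V] (hX : AGF.IsQuotient i X a o) [IsAffine X.left]
    (hπ : IsRegular π) {v : V} (hv : v ≠ 0) (hfix : ∀ h, π h v = v) :
    ∃ Φ : V →ₗ[k] Fn G, IsEqv i j π Φ ∧ Φ v = 1 := by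
  classical
  haveI := isReduced_grp G
  haveI := isClosedImmersion_of_open j
  haveI : IsClosedImmersion (j ≫ i).left := inferInstanceAs (IsClosedImmersion (j.left ≫ i.left))
  have hobs : AGF.IsObservableIn k (j ≫ i) :=
    (observable_open_sub_iff j i).mpr (observable_of_quasiAffine i hX)
  obtain ⟨W, iW, iMW, iFW, ρ, φ, hφ, heq⟩ := extendsAlong_of_observable (j ≫ i) hobs (ofRat hπ)
  have heq' : ∀ (y : Rat K) (x : V), φ (π y x) = rep ρ ((y ≫ j) ≫ i) (φ x) := fun y x => by
    have h2 := congrArg (TensorProduct.lid k W) (heq k y ((1 : k) ⊗ₜ[k] x))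
    rw [rho_k_apply, LinearMap.baseChange_tmul, LinearMap.baseChange_tmul, rho_k_apply, TensorProduct.lid_tmul,
      TensorProduct.lid_tmul, one_smul, one_smul, rep_ofRat] at h2
    rw [h2, Category.assoc]
  obtain ⟨ψ, hψ⟩ : ∃ ψ : W →ₗ[k] k, ψ (φ v) = 1 := by
    obtain ⟨ψ, hψ⟩ := LinearMap.exists_leftInverse_of_injective (LinearMap.toSpanSingleton k W (φ v))
      (LinearMap.ker_eq_bot.mpr (smul_left_injective k fun h => hv (hφ (h.trans (map_zero φ).symm))))
    exact ⟨ψ, by simpa using LinearMap.congr_fun hψ 1⟩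
  let Φ₀ : V →ₗ[k] Fn G :=
    { toFun := fun y => coeff (rep_isRegular ρ) ψ (φ y)
      map_add' := fun y z => ext_pts fun x => by
        rw [map_add (pfn x), pfn_coeff, pfn_coeff, pfn_coeff, map_add, map_add, map_add]
      map_smul' := fun c y => ext_pts fun x => by
        rw [RingHom.id_apply, map_smul (pfn x), pfn_coeff, pfn_coeff, map_smul, map_smul, map_smul] }
  have hΦ₀ : ∀ x y, pfn x (Φ₀ y) = ψ (rep ρ x (φ y)) := fun x y => pfn_coeff (rep_isRegular ρ) _ _ _
  let 𝓔 : Submodule k (V →ₗ[k] Fn G) :=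
    { carrier := {Φ | IsEqv i j π Φ}
      add_mem' := fun {p q} hp hq h y => by rw [LinearMap.add_apply, LinearMap.add_apply, hp h y, hq h y, map_add]
      zero_mem' := fun h y => by simp
      smul_mem' := fun c p hp h y => by rw [LinearMap.smul_apply, LinearMap.smul_apply, hp h y, map_smul] }
  have hne : ∀ g : Rat G, ∃ Φ ∈ 𝓔, pfn g (Φ v) ≠ 0 := fun g => by
    refine ⟨(lMap g⁻¹).toLinearMap ∘ₗ Φ₀, fun h y => ?_, ?_⟩
    · rw [LinearMap.comp_apply, LinearMap.comp_apply, AlgHom.toLinearMap_apply, AlgHom.toLinearMap_apply, rMap_lMap]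
      congr 1
      exact ext_pts fun x => by rw [hΦ₀, pfn_rMap', hΦ₀, heq', map_mul, LinearEquiv.mul_apply]
    · rw [LinearMap.comp_apply, AlgHom.toLinearMap_apply, pfn_lMap, inv_mul_cancel, hΦ₀, map_one]
      show ψ (φ v) ≠ 0
      rw [hψ]
      exact one_ne_zero
  have hmany : ∀ s : Finset (Rat G), ∃ Φ ∈ 𝓔, ∀ g ∈ s, pfn g (Φ v) ≠ 0 := fun s => by
    induction s using Finset.induction with
    | empty => exact ⟨0, 𝓔.zero_mem, by simp⟩
    | insert g s hg ih =>
      obtain ⟨Φ, hΦ, hΦs⟩ := ih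
      obtain ⟨Ψ, hΨ, hΨg⟩ := hne g
      obtain ⟨t, ht⟩ := Infinite.exists_notMem_finset
        ((insert g s).image fun x => -pfn x (Φ v) / pfn x (Ψ v))
      refine ⟨Φ + t • Ψ, 𝓔.add_mem hΦ (𝓔.smul_mem t hΨ), fun x hx h0 => ?_⟩
      rw [LinearMap.add_apply, LinearMap.smul_apply, map_add, map_smul, smul_eq_mul] at h0
      by_cases hx0 : pfn x (Ψ v) = 0
      · rw [hx0, mul_zero, add_zero] at h0
        rcases Finset.mem_insert.mp hx with rfl | hxs
        · exact hΨg hx0
        · exact hΦs x hxs h0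
      · exact ht (Finset.mem_image.mpr ⟨x, hx, by field_simp; linear_combination -h0⟩)
  let I : Ideal (invAlg i) :=
    { carrier := {N | ∃ Φ ∈ 𝓔, Φ v = (N : Fn G)}
      add_mem' := fun {p q} ⟨Φ, hΦ, e⟩ ⟨Ψ, hΨ, e'⟩ => ⟨Φ + Ψ, 𝓔.add_mem hΦ hΨ, by simp [e, e']⟩
      zero_mem' := ⟨0, 𝓔.zero_mem, by simp⟩
      smul_mem' := fun c p ⟨Φ, hΦ, e⟩ => ⟨LinearMap.mulLeft k (c : Fn G) ∘ₗ Φ, fun h y => by
          rw [LinearMap.comp_apply, LinearMap.comp_apply, LinearMap.mulLeft_apply, LinearMap.mulLeft_apply,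
            map_mul, hΦ h y, c.2], by simp [e]⟩ }
  let S := (MonoidHom.mk' (fun y : Rat K => y ≫ j) fun y z => MonObj.mul_comp y z j).range
  haveI : Finite (Rat H ⧸ S) := finite_cosets j
  haveI := Fintype.ofFinite (Rat H ⧸ S)
  have htop : I = ⊤ := by
    refine ideal_eq_top_of_no_zero i hX I fun g => ?_
    obtain ⟨Φ, hΦ, hg⟩ := hmany (Finset.univ.image fun q : Rat H ⧸ S => g * (q.out ≫ i))
    let b := Φ v
    have hb : ∀ w : Rat K, rMap ((w ≫ j) ≫ i) b = b := fun w => by
      rw [← hΦ w v, hfix]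
    let c : Rat H ⧸ S → Fn G := fun q => rMap (q.out ≫ i) b
    have hc : ∀ w : Rat H, rMap (w ≫ i) b = c (QuotientGroup.mk w) := fun w => by
      obtain ⟨⟨_, z, rfl⟩, hz⟩ := QuotientGroup.mk_out_eq_mul S w
      show _ = rMap (_ ≫ i) b
      rw [hz]
      refine ext_pts fun x => ?_
      rw [pfn_rMap', pfn_rMap']
      show pfn (x * (w ≫ i)) b = pfn (x * ((w * (z ≫ j)) ≫ i)) b
      rw [MonObj.mul_comp, ← _root_.mul_assoc, ← pfn_rMap' _ ((z ≫ j) ≫ i), hb]
    have hN : Inv' i (∏ q, c q) := fun y => by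
      rw [map_prod]
      refine Fintype.prod_equiv (MulAction.toPerm y) _ _ fun q => ?_
      have e : MulAction.toPerm y q = QuotientGroup.mk (y * q.out) := by
        conv_lhs => rw [← QuotientGroup.out_eq' q]
        rfl
      rw [e, ← hc]
      exact ext_pts fun w => by
        show pfn w (rMap (y ≫ i) (rMap (q.out ≫ i) b)) = _
        rw [pfn_rMap', pfn_rMap', pfn_rMap', MonObj.mul_comp, _root_.mul_assoc]
    have hcinv : ∀ q (w : Rat K), rMap ((w ≫ j) ≫ i) (c q) = c q := fun q w => by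
      obtain ⟨w', hw'⟩ := conj_mem j q.out⁻¹ w
      rw [_root_.inv_inv] at hw'
      refine ext_pts fun x => ?_
      rw [pfn_rMap', pfn_rMap', pfn_rMap']
      conv_rhs => rw [← hb w', pfn_rMap', _root_.mul_assoc, ← MonObj.mul_comp, hw']
      rw [_root_.mul_assoc, ← MonObj.mul_comp]
      exact congrArg (fun z => pfn (x * z) b) (congrArg (· ≫ i) (by group))
    refine ⟨⟨_, hN⟩, ⟨LinearMap.mulLeft k (∏ q ∈ Finset.univ.erase (QuotientGroup.mk 1), c q) ∘ₗ Φ, fun h y => ?_,
      ?_⟩, ?_⟩
    · rw [LinearMap.comp_apply, LinearMap.comp_apply, LinearMap.mulLeft_apply, LinearMap.mulLeft_apply, map_mul,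
        hΦ h y, map_prod]
      congr 1
      exact Finset.prod_congr rfl fun q _ => (hcinv q h).symm
    · show (∏ q ∈ Finset.univ.erase (QuotientGroup.mk 1), c q) * b = ∏ q, c q
      rw [← Finset.prod_erase_mul Finset.univ c (Finset.mem_univ (QuotientGroup.mk 1)), ← hc, MonObj.one_comp]
      congr 1
      exact ext_pts fun x => by rw [pfn_rMap', _root_.mul_one]
    · show pfn g (∏ q, c q) ≠ 0
      rw [map_prod, Finset.prod_ne_zero_iff]
      intro q _
      rw [pfn_rMap']
      exact hg _ (Finset.mem_image_of_mem _ (Finset.mem_univ q))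
  obtain ⟨Φ, hΦ, e⟩ := (Ideal.eq_top_iff_one I).mp htop
  exact ⟨Φ, hΦ, e⟩

open MvPolynomial in
/-- A polynomial invariant under translations along a line of a plane agrees at the direction and at the origin. -/
theorem eval_eq_of_plane {σ : Type*} (p : MvPolynomial σ k) (A L : σ → k) {C : Set k} (hC : C.Infinite)
    (h : ∀ s : k, ∀ c ∈ C, aeval (fun l => s * A l + s * c * L l) p = aeval (fun l => s * A l) p) :
    aeval L p = aeval (fun _ => (0 : k)) p := by
  have hev : ∀ (f : σ → Polynomial k) (t : k), (aeval f p).eval t = aeval (fun l => (f l).eval t) p := fun f t => by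
    rw [← Polynomial.coe_aeval_eq_eval, ← AlgHom.comp_apply]
    exact AlgHom.congr_fun (algHom_ext fun l => by simp) _
  have hconst : ∀ s : k, s ≠ 0 → ∀ t, aeval (fun l => s * A l + t * L l) p = aeval (fun l => s * A l) p := by
    intro s hs t
    let q : Polynomial k := aeval (fun l => Polynomial.C (s * A l) + Polynomial.X * Polynomial.C (L l)) p -
      Polynomial.C (aeval (fun l => s * A l) p)
    have hq : ∀ t, q.eval t = aeval (fun l => s * A l + t * L l) p - aeval (fun l => s * A l) p := fun t => by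
      simp only [q, Polynomial.eval_sub, Polynomial.eval_C, hev, Polynomial.eval_add, Polynomial.eval_mul,
        Polynomial.eval_X]
    have hq0 : q = 0 := Polynomial.eq_zero_of_infinite_isRoot q
      ((hC.image ((mul_right_injective₀ hs).injOn)).mono (by
        rintro _ ⟨c, hc, rfl⟩
        show q.eval (s * c) = 0
        rw [hq, h s c hc, sub_self]))
    have h1 := hq t
    rw [hq0, Polynomial.eval_zero] at h1
    exact sub_eq_zero.mp h1.symm
  let r : Polynomial k := aeval (fun l => Polynomial.X * Polynomial.C (A l) + Polynomial.C (L l)) p -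
    aeval (fun l => Polynomial.X * Polynomial.C (A l)) p
  have hr : ∀ s, r.eval s = aeval (fun l => s * A l + L l) p - aeval (fun l => s * A l) p := fun s => by
    simp only [r, Polynomial.eval_sub, hev, Polynomial.eval_add, Polynomial.eval_mul, Polynomial.eval_X,
      Polynomial.eval_C]
  have hr0 : r = 0 := Polynomial.eq_zero_of_infinite_isRoot r
    ((Set.finite_singleton (0 : k)).infinite_compl.mono fun s hs => by
      show r.eval s = 0
      rw [hr, sub_eq_zero]
      simpa only [_root_.one_mul] using hconst s hs 1)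
  have h0 := hr 0
  rw [hr0, Polynomial.eval_zero] at h0
  simpa only [zero_mul, zero_add] using sub_eq_zero.mp h0.symm

open MvPolynomial in
/-- There is no unipotent pair of a reductive group with an affine quotient. -/
theorem false_of_pair (hG : VecGrp.IsReductiveGrp k G) (thm : AGF.ReductiveQuotSeparates k)
    {Φ : V →ₗ[k] Fn G} (hΦ : IsEqv i j π Φ) [Module.Finite k V] {v w : V} (hv : Φ v = 1)
    {Y : Type u} (y : Y → Rat K) (c : Y → k) (hw : ∀ t, π (y t) w = w + c t • v) (hvf : ∀ h, π h v = v)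
    (hc : (Set.range c).Infinite) : False := by
  classical
  haveI := isReduced_grp G
  let β := Module.finBasis k V
  let J := ULift.{u} (Fin (Module.finrank k V))
  let piT := piPi J (lPi (G := G))
  let e0 : J → Fn G := fun l => Φ (β l.down)
  let E := orbitSpan piT {e0}
  haveI : Module.Finite k E := finite_orbitSpan (piPi_regular _ lPi_regular) (Set.finite_singleton e0)
  let πE := subPi piT E (orbitSpan_stable _ _)
  have hπE : IsRegular πE := subPi_regular _ _ _ (piPi_regular _ lPi_regular)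
  let Ev : (J → Fn G) →ₗ[k] V →ₗ[k] Fn G :=
    { toFun := fun t => β.constr k fun l => t ⟨l⟩
      map_add' := fun s t => β.ext fun l => by
        rw [LinearMap.add_apply, Module.Basis.constr_basis, Module.Basis.constr_basis, Module.Basis.constr_basis]; rfl
      map_smul' := fun r t => β.ext fun l => by
        rw [LinearMap.smul_apply, Module.Basis.constr_basis, Module.Basis.constr_basis]; rfl }
  have hEv0 : Ev e0 = Φ := β.ext fun l => by simp [Ev, e0]
  have hEvg : ∀ g t, Ev (piT g t) = (lMap g⁻¹).toLinearMap ∘ₗ Ev t := fun g t => β.ext fun l => by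
    simp [Ev, piT, piPi_apply, lPi_apply]
  let P : Submodule k (J → Fn G) :=
    { carrier := {t | IsEqv i j π (Ev t) ∧ ∃ r : k, Ev t v = algebraMap k (Fn G) r}
      add_mem' := fun {s t} ⟨hs, r, hr⟩ ⟨ht, r', hr'⟩ => ⟨fun h z => by
          rw [map_add, LinearMap.add_apply, LinearMap.add_apply, hs h z, ht h z, map_add],
        r + r', by rw [map_add, LinearMap.add_apply, hr, hr', map_add]⟩
      zero_mem' := ⟨fun h z => by simp, 0, by simp⟩
      smul_mem' := fun r t ⟨ht, r', hr'⟩ => ⟨fun h z => by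
          rw [map_smul, LinearMap.smul_apply, LinearMap.smul_apply, ht h z, map_smul],
        r * r', by rw [map_smul, LinearMap.smul_apply, hr', map_mul, Algebra.smul_def]⟩ }
  have hEP : E ≤ P := Submodule.span_le.mpr (by
    rintro _ ⟨g, x, hx, rfl⟩
    rw [Set.mem_singleton_iff] at hx
    subst hx
    refine ⟨fun h z => ?_, 1, ?_⟩
    · rw [hEvg, hEv0, LinearMap.comp_apply, LinearMap.comp_apply, AlgHom.toLinearMap_apply,
        AlgHom.toLinearMap_apply, hΦ, rMap_lMap]
    · rw [hEvg, hEv0, LinearMap.comp_apply, AlgHom.toLinearMap_apply, hv, map_one, map_one])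
  let lam : E →ₗ[k] k := (pfn (1 : Rat G)).toLinearMap ∘ₗ LinearMap.applyₗ v ∘ₗ Ev ∘ₗ E.subtype
  have hlam : ∀ g (t : E), lam (πE g t) = lam t := fun g t => by
    obtain ⟨r, hr⟩ := (hEP t.2).2
    show pfn (1 : Rat G) (Ev (piT g t) v) = pfn (1 : Rat G) (Ev (t : J → Fn G) v)
    rw [hEvg, LinearMap.comp_apply, hr, AlgHom.toLinearMap_apply, AlgHom.commutes]
  let e := Module.finBasis k E
  let σT := ULift.{u} (Fin (Module.finrank k E))
  let Lx : E →ₗ[k] MvPolynomial σT k := e.constr k fun l => MvPolynomial.X ⟨l⟩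
  let σ : Rat G → MvPolynomial σT k →ₐ[k] MvPolynomial σT k := fun g => aeval fun l => Lx (πE g (e l.down))
  have hσL : ∀ g t, σ g (Lx t) = Lx (πE g t) := fun g t =>
    LinearMap.congr_fun (e.ext (f₁ := (σ g).toLinearMap ∘ₗ Lx) (f₂ := Lx ∘ₗ (πE g).toLinearMap) fun l => by
      simp [σ, Lx]) t
  have hσ1 : σ 1 = AlgHom.id k _ := algHom_ext fun l => by
    obtain ⟨l⟩ := l
    simp only [σ, aeval_X, map_one, AlgHom.id_apply]
    exact e.constr_basis k _ l
  have hσm : ∀ g h, σ (g * h) = (σ g).comp (σ h) := fun g h => algHom_ext fun l => by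
    rw [AlgHom.comp_apply]
    simp only [σ, aeval_X]
    rw [map_mul, LinearEquiv.mul_apply]
    exact (hσL g _).symm
  let πR : Rat G →* (MvPolynomial σT k ≃ₗ[k] MvPolynomial σT k) :=
    { toFun := fun g => LinearEquiv.ofLinear (σ g).toLinearMap (σ g⁻¹).toLinearMap
        (LinearMap.ext fun p => by
          show σ g (σ g⁻¹ p) = p
          rw [← AlgHom.comp_apply, ← hσm, mul_inv_cancel, hσ1]; rfl)
        (LinearMap.ext fun p => by
          show σ g⁻¹ (σ g p) = p
          rw [← AlgHom.comp_apply, ← hσm, inv_mul_cancel, hσ1]; rfl)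
      map_one' := LinearEquiv.ext fun p => by show σ 1 p = p; rw [hσ1]; rfl
      map_mul' := fun g h => LinearEquiv.ext fun p => by show σ (g * h) p = σ g (σ h p); rw [hσm]; rfl }
  have hπR : IsRegular πR := fun p => by
    let z : σT → Fn G ⊗[k] MvPolynomial σT k := fun l =>
      ∑ m, coeff hπE (e.coord m) (e l.down) ⊗ₜ[k] MvPolynomial.X (⟨m⟩ : σT)
    refine ⟨aeval z p, fun g => ?_⟩
    show σ g p = _
    have hE : ∀ t : Fn G ⊗[k] MvPolynomial σT k, evl (pfn g) t = (Algebra.TensorProduct.lid k _).toAlgHom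
        (Algebra.TensorProduct.map (pfn g) (AlgHom.id k _) t) := fun t => by
      induction t using TensorProduct.induction_on with
      | zero => simp
      | tmul b m => simp
      | add p q hp hq => simp only [map_add, hp, hq]
    rw [hE, ← AlgHom.comp_apply, ← AlgHom.comp_apply]
    refine AlgHom.congr_fun (algHom_ext fun l => ?_) p
    simp only [σ, AlgHom.comp_apply, aeval_X, z, map_sum, Algebra.TensorProduct.map_tmul, AlgHom.id_apply]
    conv_lhs => rw [← e.sum_repr (πE g (e l.down)), map_sum]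
    refine Finset.sum_congr rfl fun m _ => ?_
    simp [Lx, pfn_coeff]
  let ρ := ofRat hπR
  have hrep : ∀ g p, rep ρ g p = σ g p := fun g p => by rw [rep_ofRat]; rfl
  have hρ : ρ.IsMult := isMult_of_rep ρ (fun g p q => by simp only [hrep, map_mul]) fun g => by rw [hrep, map_one]
  let evA : (σT → k) → MvPolynomial σT k →ₐ[k] k := fun f => aeval f
  let lv : σT → k := fun l => lam (e l.down)
  have hevL : ∀ (f : E →ₗ[k] k) t, evA (fun l => f (e l.down)) (Lx t) = f t := fun f t =>
    LinearMap.congr_fun (e.ext (f₁ := (evA fun l => f (e l.down)).toLinearMap ∘ₗ Lx) (f₂ := f) fun l => by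
      simp [evA, Lx]) t
  have hev : ∀ (f : E →ₗ[k] k) g, (evA fun l => f (e l.down)).comp (σ g) = evA fun l => f (πE g (e l.down)) :=
    fun f g => algHom_ext fun l => by
      rw [AlgHom.comp_apply]
      simp only [σ, aeval_X]
      rw [hevL]
      simp [evA]
  have hstab : ∀ f : E →ₗ[k] k, (∀ g t, f (πE g t) = f t) →
      ρ.IsStable (𝟙 G) ((RingHom.ker (evA fun l => f (e l.down))).restrictScalars k) := fun f hf => by
    rw [isStable_iff]
    intro g p hp
    rw [Submodule.restrictScalars_mem, RingHom.mem_ker] at hp ⊢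
    rw [Category.comp_id, hrep, ← AlgHom.comp_apply, hev]
    simpa only [hf] using hp
  have hlv : ∃ l, lv l ≠ 0 := by
    by_contra hh
    push Not at hh
    have h0 : lam = 0 := e.ext fun l => hh ⟨l⟩
    have h1 := LinearMap.congr_fun h0 ⟨e0, subset_orbitSpan _ _ rfl⟩
    change pfn (1 : Rat G) (Ev e0 v) = 0 at h1
    rw [hEv0, hv, map_one] at h1
    exact one_ne_zero h1
  have hrad : ∀ f, (RingHom.ker (evA f)).IsRadical := fun f => (RingHom.ker_isPrime (evA f)).isRadical
  have htop : RingHom.ker (evA lv) ⊔ RingHom.ker (evA fun l => (0 : E →ₗ[k] k) (e l.down)) = ⊤ := by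
    obtain ⟨l, hl⟩ := hlv
    rw [Ideal.eq_top_iff_one]
    have h1 : MvPolynomial.X l - C (lv l) ∈ RingHom.ker (evA lv) := by simp [evA]
    have h2 : (MvPolynomial.X l : MvPolynomial σT k) ∈ RingHom.ker (evA fun l => (0 : E →ₗ[k] k) (e l.down)) := by
      simp [evA]
    have h3 := Ideal.mul_mem_left _ (C (lv l)⁻¹)
      ((sub_mem (Ideal.mem_sup_right h2) (Ideal.mem_sup_left h1)) :
        _ ∈ RingHom.ker (evA lv) ⊔ RingHom.ker (evA fun l => (0 : E →ₗ[k] k) (e l.down)))
    rwa [sub_sub_cancel, ← C_mul, inv_mul_cancel₀ hl, C_1] at h3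
  have key := thm G hG (MvPolynomial σT k) ρ hρ inferInstance _ _ (hrad lv) (hrad _) (hstab lam hlam)
    (hstab 0 fun g t => rfl) htop
  obtain ⟨p, hp, q, hq, hpq⟩ := Submodule.mem_sup.mp ((Ideal.eq_top_iff_one _).mp key)
  have hp0 : evA lv (p : MvPolynomial σT k) = 0 := hp
  have hq0 : evA (fun l => (0 : E →ₗ[k] k) (e l.down)) (q : MvPolynomial σT k) = 0 := hq
  have hpinv : ∀ g, σ g (p : MvPolynomial σT k) = p := fun g => by
    have := (mem_fixedUnder_iff ρ (𝟙 G) _).mp p.2 g
    rwa [Category.comp_id, hrep] at this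
  let lf : V → E →ₗ[k] k := fun z => (pfn (1 : Rat G)).toLinearMap ∘ₗ LinearMap.applyₗ z ∘ₗ Ev ∘ₗ E.subtype
  let Pv : V → k := fun z => evA (fun l => lf z (e l.down)) p
  have hPv : ∀ (h : Rat K) z, Pv (π h z) = Pv z := fun h z => by
    show evA (fun l => lf (π h z) (e l.down)) _ = evA (fun l => lf z (e l.down)) _
    have e1 : (fun l : σT => lf (π h z) (e l.down)) = fun l => lf z (πE ((h ≫ j) ≫ i)⁻¹ (e l.down)) := by
      funext l
      show pfn (1 : Rat G) (Ev (e l.down : J → Fn G) (π h z)) =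
        pfn (1 : Rat G) (Ev (piT ((h ≫ j) ≫ i)⁻¹ (e l.down : J → Fn G)) z)
      rw [(hEP (e l.down).2).1 h z, hEvg, LinearMap.comp_apply, AlgHom.toLinearMap_apply, _root_.inv_inv, pfn_rMap',
        pfn_lMap, _root_.one_mul, _root_.mul_one]
    rw [e1, ← hev, AlgHom.comp_apply, hpinv]
  -- the contradiction on the plane of `v` and `w`
  let A : σT → k := fun l => lf w (e l.down)
  have hlin : ∀ (s t : k) (l : σT), lf (s • w + t • v) (e l.down) = s * A l + t * lv l := fun s t l => by
    simp [lf, A, lv, lam]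
  have h10 : evA lv (p : MvPolynomial σT k) = evA (fun l => (0 : E →ₗ[k] k) (e l.down)) (p : MvPolynomial σT k) := by
    refine eval_eq_of_plane (p : MvPolynomial σT k) A lv hc fun s r hr => ?_
    obtain ⟨z, rfl⟩ := hr
    have h1 := hPv (y z) (s • w)
    rw [map_smul, hw, smul_add, smul_smul] at h1
    simp only [Pv, hlin] at h1
    refine Eq.trans h1 ?_
    have h2 : (fun l : σT => lf (s • w) (e l.down)) = fun l => s * A l := funext fun l => by
      simp [lf, A]
    rw [h2]
  rw [hp0] at h10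
  have h11 : evA (fun l => (0 : E →ₗ[k] k) (e l.down)) ((p : MvPolynomial σT k) + q) = 1 := by
    rw [← Subalgebra.coe_add, hpq, Subalgebra.coe_one, map_one]
  rw [map_add, hq0, add_zero] at h11
  exact zero_ne_one (h10.trans (by simpa using h11))

end Equivariant

end Groth.Agent.Obs28
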