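import Groth.Agent.GrpSchLib.HomogeneousQuot
import Groth.Agent.GrpSchLib.Core
import Groth.Agent.AGStr.Descend
import Groth.Agent.GrpSchLib.RankOneBig
import Groth.Prelude.Def_AGF
import Mathlib.AlgebraicGeometry.Birational.Birational

/-! The no-name lemma for the quotients of two groups by a common subgroup. -/

universe u

open CategoryTheory CategoryTheory.Limits MonoidalCategory CartesianMonoidalCategory MonObj GrpObj AlgebraicGeometry

namespace Groth.Agent.Obs28.NoName

set_option linter.style.haveILetI false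

variable {k : Type u} [Field k]

/-- Points form of a quotient square. -/
theorem exists_translate {P G X : Over (Spec (CommRingCat.of k))} [GrpObj P] [GrpObj G] {i : G ⟶ P} {π : P ⟶ X}
    (h : IsPullback (fst P G) ((P ◁ i) ≫ μ[P]) π π) {T : Over (Spec (CommRingCat.of k))} (a b : T ⟶ P) :
    a ≫ π = b ≫ π ↔ ∃ g : T ⟶ G, a * (g ≫ i) = b := by
  have e : ∀ (m : T ⟶ P ⊗ G), m ≫ (P ◁ i) ≫ μ[P] = (m ≫ fst P G) * ((m ≫ snd P G) ≫ i) := fun m => by
    rw [Hom.mul_def, ← Category.assoc m (P ◁ i) μ[P]]
    congr 1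
    apply CartesianMonoidalCategory.hom_ext <;> simp
  constructor
  · intro hab
    refine ⟨h.lift a b hab ≫ snd P G, ?_⟩
    have h2 := h.lift_snd a b hab
    rw [e, h.lift_fst] at h2
    exact h2
  · rintro ⟨g, rfl⟩
    have h2 := congrArg (lift a g ≫ ·) h.w
    simp only [← Category.assoc] at h2
    rw [lift_fst, Category.assoc (lift a g) (P ◁ i) μ[P], e, lift_fst, lift_snd] at h2
    exact h2

section Torsor

variable {P A B G X Q : Over (Spec (CommRingCat.of k))} [GrpObj P] [GrpObj A] [GrpObj B] [GrpObj G]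

/-- The quotient of a product by a diagonal subgroup is a torsor over the quotient of the first factor. -/
theorem exists_torsor (e₁ : P ⟶ A) [IsMonHom e₁] (e₂ : P ⟶ B) [IsMonHom e₂]
    (hP : ∀ {T : Over (Spec (CommRingCat.of k))} (a : T ⟶ A) (b : T ⟶ B), ∃! p : T ⟶ P, p ≫ e₁ = a ∧ p ≫ e₂ = b)
    (iA : G ⟶ A) [IsMonHom iA] [Mono iA] (iB : G ⟶ B) [IsMonHom iB] (iD : G ⟶ P) (h₁ : iD ≫ e₁ = iA) (h₂ : iD ≫ e₂ = iB)
    [LocallyOfFiniteType P.hom] [QuasiCompact P.hom] [Flat e₁.left] [Surjective e₁.left]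
    (aX : AlgGrp.Action P X) (o : 𝟙_ (Over (Spec (CommRingCat.of k))) ⟶ X) [LocallyOfFiniteType X.hom]
    [Flat (aX.orbitMap o).left] [Surjective (aX.orbitMap o).left]
    (hX : IsPullback (fst P G) ((P ◁ iD) ≫ μ[P]) (aX.orbitMap o) (aX.orbitMap o))
    (aQ : AlgGrp.Action A Q) (oQ : 𝟙_ (Over (Spec (CommRingCat.of k))) ⟶ Q) (hQ : AGF.IsQuotient iA Q aQ oQ) :
    ∃ (f : X ⟶ Q) (b : AlgGrp.Action B X), Flat f.left ∧ Surjective f.left ∧
      IsPullback b.act.left (snd B X).left f.left f.left := by
  obtain ⟨hQl, hQf, hQs, hQp⟩ := hQ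
  haveI := hQl
  let π := aX.orbitMap o
  let ψ := aQ.orbitMap oQ
  haveI : Flat π.left := ‹_›
  haveI : Surjective π.left := ‹_›
  haveI : Flat ψ.left := hQf
  haveI : Surjective ψ.left := hQs
  haveI : QuasiCompact π.left := AGStr.quasiCompact_left π
  have pext : ∀ {T : Over (Spec (CommRingCat.of k))} (p p' : T ⟶ P), p ≫ e₁ = p' ≫ e₁ → p ≫ e₂ = p' ≫ e₂ →
      p = p' := fun p p' h h' => (hP _ _).unique ⟨h, h'⟩ ⟨rfl, rfl⟩
  obtain ⟨jB, hj₁, hj₂⟩ := (hP (1 : B ⟶ A) (𝟙 B)).exists
  haveI : IsMonHom jB :=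
    { one_hom := by
        refine pext _ _ ?_ ?_
        · rw [Category.assoc, hj₁, MonObj.comp_one, IsMonHom.one_hom, Hom.one_def, toUnit_unit, Category.id_comp]
        · rw [Category.assoc, hj₂, Category.comp_id, IsMonHom.one_hom]
      mul_hom := by
        have hμ : μ[P] = fst P P * snd P P := by rw [Hom.mul_def, lift_fst_snd, Category.id_comp]
        have hμ' : μ[B] = fst B B * snd B B := by rw [Hom.mul_def, lift_fst_snd, Category.id_comp]
        rw [hμ, hμ']
        refine pext _ _ ?_ ?_
        · simp only [MonObj.comp_mul, MonObj.mul_comp, tensorHom_fst, tensorHom_snd, Category.assoc, hj₁,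
            MonObj.comp_one, _root_.one_mul]
        · simp only [MonObj.comp_mul, MonObj.mul_comp, tensorHom_fst, tensorHom_snd, Category.assoc, hj₂,
            Category.comp_id] }
  obtain ⟨f, hf⟩ := AGStr.exists_desc π (e₁ ≫ ψ) fun T x y e => by
    obtain ⟨g, rfl⟩ := (exists_translate hX x y).1 e
    rw [← Category.assoc, ← Category.assoc, exists_translate hQp]
    exact ⟨g, by rw [MonObj.mul_comp, Category.assoc g, h₁]⟩
  let b := aX.restrict jB
  -- points
  have hπ : ∀ {T : Over (Spec (CommRingCat.of k))} (g : T ⟶ B) (x : T ⟶ P),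
      lift g (x ≫ π) ≫ b.act = ((g ≫ jB) * x) ≫ π := fun g x => by
    rw [AlgGrp.Action.lift_restrict_act, AlgGrp.Action.comp_orbitMap, AlgGrp.Action.comp_orbitMap,
      AlgGrp.Action.lift_mul_act]
  have cov : ∀ {T : Over (Spec (CommRingCat.of k))} (x : T ⟶ X), ∃ (T' : Over (Spec (CommRingCat.of k)))
      (c : T' ⟶ T) (p : T' ⟶ P), Flat c.left ∧ Surjective c.left ∧ QuasiCompact c.left ∧ p ≫ π = c ≫ x := by
    intro T x
    have h := ((IsPullback.of_hasPullback π x).map (Over.forget _)).flip
    exact ⟨_, Limits.pullback.snd π x, Limits.pullback.fst π x, MorphismProperty.of_isPullback h.flip ‹Flat π.left›,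
      MorphismProperty.of_isPullback h.flip ‹Surjective π.left›,
      MorphismProperty.of_isPullback h.flip ‹QuasiCompact π.left›, Limits.pullback.condition⟩
  have hinv : ∀ {T : Over (Spec (CommRingCat.of k))} (g : T ⟶ B) (x : T ⟶ X), lift g x ≫ b.act ≫ f = x ≫ f := by
    intro T g x
    obtain ⟨T', c, p, _, _, _, hp⟩ := cov x
    haveI := AGStr.epi_left c
    rw [← cancel_epi c, ← Category.assoc, comp_lift, ← Category.assoc c x f, ← hp, ← Category.assoc, hπ,
      Category.assoc, Category.assoc, hf, ← Category.assoc, MonObj.mul_comp]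
    simp only [Category.assoc, hj₁, MonObj.comp_one, _root_.one_mul, hf]
  have hfree : ∀ {T : Over (Spec (CommRingCat.of k))} (g g' : T ⟶ B) (x : T ⟶ X),
      lift g x ≫ b.act = lift g' x ≫ b.act → g = g' := by
    intro T g g' x e
    obtain ⟨T', c, p, _, _, _, hp⟩ := cov x
    haveI := AGStr.epi_left c
    have e' := congrArg (c ≫ ·) e
    simp only [← Category.assoc, comp_lift, ← hp, hπ] at e'
    obtain ⟨h, hh⟩ := (exists_translate hX _ _).1 e'
    have h1 := congrArg (· ≫ e₁) hh
    simp only [MonObj.mul_comp, Category.assoc, h₁, hj₁, MonObj.comp_one, _root_.one_mul] at h1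
    have h1' : h = 1 := by
      rw [← cancel_mono iA, MonObj.one_comp]
      exact mul_eq_left.mp h1
    have h2 := congrArg (· ≫ e₂) hh
    simp only [MonObj.mul_comp, Category.assoc, hj₂, h₂, Category.comp_id, h1', MonObj.one_comp, _root_.mul_one,
      mul_left_inj, cancel_epi] at h2
    exact h2
  have hex : ∀ {T : Over (Spec (CommRingCat.of k))} (x y : T ⟶ X), x ≫ f = y ≫ f →
      ∃ g : T ⟶ B, lift g x ≫ b.act = y := by
    intro T x y e
    obtain ⟨T₁, c₁, p₁, _, _, _, hp₁⟩ := cov x
    obtain ⟨T₂, c₂, q, _, _, _, hq⟩ := cov (c₁ ≫ y)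
    let c := c₂ ≫ c₁
    let p := c₂ ≫ p₁
    haveI : Flat c.left := by rw [Over.comp_left]; infer_instance
    haveI : Surjective c.left := by rw [Over.comp_left]; infer_instance
    haveI : QuasiCompact c.left := by rw [Over.comp_left]; infer_instance
    haveI := AGStr.epi_left c
    have hp : p ≫ π = c ≫ x := by simp only [p, c, Category.assoc, hp₁]
    have hq' : q ≫ π = c ≫ y := by rw [hq]; simp only [c, Category.assoc]
    obtain ⟨h, hh⟩ := (exists_translate hQp (p ≫ e₁) (q ≫ e₁)).1 (by
      show (p ≫ e₁) ≫ ψ = (q ≫ e₁) ≫ ψ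
      simp only [Category.assoc, ← hf]
      rw [reassoc_of% hp, reassoc_of% hq', e])
    let g' := (q ≫ e₂) * (h ≫ iB)⁻¹ * (p ≫ e₂)⁻¹
    have hg' : lift g' (c ≫ x) ≫ b.act = c ≫ y := by
      rw [← hp, hπ, ← hq', exists_translate hX]
      refine ⟨h, pext _ _ ?_ ?_⟩
      · simp only [MonObj.mul_comp, Category.assoc, h₁, hj₁, MonObj.comp_one, _root_.one_mul]
        exact hh
      · simp only [MonObj.mul_comp, Category.assoc, h₂, hj₂, Category.comp_id, g']
        group
    obtain ⟨g, hg⟩ := AGStr.exists_desc c g' fun S s t est => hfree _ _ (s ≫ c ≫ x) (by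
      have hs := congrArg (s ≫ ·) hg'
      have ht := congrArg (t ≫ ·) hg'
      simp only [← Category.assoc, comp_lift] at hs ht ⊢
      rw [hs]
      rw [← est] at ht
      exact ht.symm)
    exact ⟨g, by rw [← cancel_epi c, ← Category.assoc, comp_lift, hg, hg']⟩
  refine ⟨f, b, ?_, ?_, IsPullback.map (Over.forget _) (?_ : IsPullback b.act (snd B X) f f)⟩
  · haveI : Flat (π.left ≫ f.left) := by
      rw [← Over.comp_left, hf, Over.comp_left]; infer_instance
    exact GrpSchLib.RankOne.flat_of_comp π.left f.left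
  · haveI : Surjective (π.left ≫ f.left) := by
      rw [← Over.comp_left, hf, Over.comp_left]; infer_instance
    exact Surjective.of_comp π.left f.left
  · have hw : b.act ≫ f = snd B X ≫ f := by simpa using hinv (fst B X) (snd B X)
    choose g hg using fun s : PullbackCone f f => hex s.snd s.fst s.condition.symm
    refine ⟨⟨hw⟩, ⟨PullbackCone.IsLimit.mk hw (fun s => lift (g s) s.snd) (fun s => hg s) (fun s => lift_snd _ _)
      (fun s m hm₁ hm₂ => ?_)⟩⟩
    have hm : m = lift (m ≫ fst B X) s.snd := by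
      rw [← hm₂, ← comp_lift, lift_fst_snd, Category.comp_id]
    refine hm.trans ?_
    rw [hfree _ _ s.snd ((congrArg (· ≫ b.act) hm.symm).trans (hm₁.trans (hg s).symm))]

end Torsor

section Birat

/-- The preimage of a dense open along an open morphism is birational to the whole. -/
theorem birationalOver_of_isPullback {S X Y W Z : Scheme.{u}} {θ : Z ⟶ X} {q : Z ⟶ W} {f : X ⟶ Y} {w : W ⟶ Y}
    (h : IsPullback θ q f w) [IsOpenImmersion w] [IsDominant w] (hf : IsOpenMap f) (sX : X ⟶ S) :
    Scheme.BirationalOver (θ ≫ sX) sX := by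
  haveI : IsOpenImmersion θ := MorphismProperty.of_isPullback h.flip ‹_›
  haveI : IsDominant θ := ⟨by
    have hr : Set.range θ = f ⁻¹' Set.range w := by
      rw [← h.isoPullback_hom_fst]
      ext x
      rw [← Scheme.Pullback.range_fst]
      exact ⟨fun ⟨z, hz⟩ => ⟨h.isoPullback.hom z, by rw [← hz]; rfl⟩, fun ⟨z, hz⟩ => ⟨h.isoPullback.inv z, by
        rw [← Scheme.Hom.comp_apply, Iso.inv_hom_id_assoc, hz]⟩⟩
    rw [DenseRange, hr]
    exact w.denseRange.preimage hf⟩
  exact Scheme.Hom.birationalOver θ sX _ rfl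

/-- Birationality is stable under products over a field. -/
theorem birationalOver_tensor {X Y : Over (Spec (CommRingCat.of k))} (h : Scheme.BirationalOver X.hom Y.hom)
    (Z : Over (Spec (CommRingCat.of k))) [LocallyOfFiniteType Z.hom] :
    Scheme.BirationalOver (X ⊗ Z).hom (Y ⊗ Z).hom := by
  obtain ⟨e, he⟩ := h
  haveI : LocallyOfFinitePresentation Z.hom := inferInstance
  haveI : UniversallyOpen Z.hom := inferInstance
  have key : ∀ {U V : Over (Spec (CommRingCat.of k))} (i : U ⟶ V) [IsOpenImmersion i.left] [IsDominant i.left],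
      Scheme.BirationalOver (U ⊗ Z).hom (V ⊗ Z).hom := by
    intro U V i _ _
    have hb : IsPullback (i ▷ Z) (fst U Z) (fst V Z) i := by
      refine ⟨⟨whiskerRight_fst i Z⟩, ⟨PullbackCone.IsLimit.mk _ (fun c => lift c.snd (c.fst ≫ snd V Z))
        (fun c => ?_) (fun c => lift_fst _ _) (fun c m h₁ h₂ => ?_)⟩⟩
      · apply CartesianMonoidalCategory.hom_ext
        · rw [Category.assoc, whiskerRight_fst, lift_fst_assoc, c.condition]
        · rw [Category.assoc, whiskerRight_snd, lift_snd]
      · apply CartesianMonoidalCategory.hom_ext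
        · rw [h₂, lift_fst]
        · rw [lift_snd, ← h₁, Category.assoc, whiskerRight_snd]
    have hb' : IsPullback (i ▷ Z).left (fst U Z).left (fst V Z).left i.left := hb.map (Over.forget _)
    haveI : UniversallyOpen (fst V Z).left := inferInstanceAs (UniversallyOpen (Limits.pullback.fst V.hom Z.hom))
    rw [← Over.w (i ▷ Z)]
    exact birationalOver_of_isPullback hb' (fst V Z).left.isOpenMap (V ⊗ Z).hom
  let U : Over (Spec (CommRingCat.of k)) := Over.mk (e.source.ι ≫ X.hom)
  let iU : U ⟶ X := Over.homMk e.source.ι rfl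
  let iV : U ⟶ Y := Over.homMk (e.iso.hom ≫ e.target.ι) (by
    show (e.iso.hom ≫ e.target.ι) ≫ Y.hom = e.source.ι ≫ X.hom
    rw [Category.assoc]; exact he)
  haveI : IsOpenImmersion iU.left := inferInstanceAs (IsOpenImmersion e.source.ι)
  haveI : IsDominant iU.left := Opens.isDominant_ι e.dense_source
  haveI : IsDominant e.target.ι := Opens.isDominant_ι e.dense_target
  haveI : IsOpenImmersion iV.left := inferInstanceAs (IsOpenImmersion (e.iso.hom ≫ e.target.ι))
  haveI : IsDominant iV.left := inferInstanceAs (IsDominant (e.iso.hom ≫ e.target.ι))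
  exact (key iU).symm.trans (key iV)

theorem birationalOver_of_iso {X Y : Over (Spec (CommRingCat.of k))} (e : X ≅ Y) :
    Scheme.BirationalOver X.hom Y.hom := by
  haveI : IsIso e.hom.left := ((Over.forget _).mapIso e).isIso_hom
  exact Scheme.Hom.birationalOver e.hom.left Y.hom X.hom (Over.w e.hom)

/-- A torsor which is trivial over a dense open is birational to a product. -/
theorem birationalOver_torsor {B X Q : Over (Spec (CommRingCat.of k))} [GrpObj B] [LocallyOfFiniteType B.hom]
    [LocallyOfFiniteType X.hom] [LocallyOfFiniteType Q.hom] (b : AlgGrp.Action B X) (f : X ⟶ Q) [Flat f.left]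
    (hT : IsPullback b.act.left (snd B X).left f.left f.left) (W : Q.left.Opens) (hW : Dense (W : Set Q.left))
    (s : (W : Scheme.{u}) ⟶ X.left) (hs : s ≫ f.left = W.ι) :
    Scheme.BirationalOver (Q ⊗ B).hom X.hom := by
  let T : Over (Spec (CommRingCat.of k)) := Over.mk (W.ι ≫ Q.hom)
  let σ : T ⟶ X := Over.homMk s (by
    show s ≫ X.hom = W.ι ≫ Q.hom
    rw [← hs, Category.assoc, Over.w f])
  let iT : T ⟶ Q := Over.homMk W.ι rfl
  haveI : IsOpenImmersion iT.left := inferInstanceAs (IsOpenImmersion W.ι)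
  haveI : IsDominant iT.left := Opens.isDominant_ι hW
  have hb : ∀ {Y : Over (Spec (CommRingCat.of k))} (i : T ⟶ Y), IsPullback (B ◁ i) (snd B T) (snd B Y) i := by
    intro Y i
    refine ⟨⟨whiskerLeft_snd B i⟩, ⟨PullbackCone.IsLimit.mk _ (fun c => lift (c.fst ≫ fst B Y) c.snd)
      (fun c => ?_) (fun c => lift_snd _ _) (fun c m h₁ h₂ => ?_)⟩⟩
    · apply CartesianMonoidalCategory.hom_ext
      · rw [Category.assoc, whiskerLeft_fst, lift_fst]
      · rw [Category.assoc, whiskerLeft_snd, lift_snd_assoc, c.condition]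
    · apply CartesianMonoidalCategory.hom_ext
      · rw [lift_fst, ← h₁, Category.assoc, whiskerLeft_fst]
      · rw [h₂, lift_snd]
  have h1 := ((hb σ).map (Over.forget _)).paste_horiz hT
  simp only [Over.forget_map] at h1
  have hσ : σ.left ≫ f.left = W.ι := hs
  replace h1 : IsPullback ((B ◁ σ).left ≫ b.act.left) (snd B T).left f.left W.ι := hσ ▸ h1
  haveI : IsDominant W.ι := Opens.isDominant_ι hW
  haveI : IsLocallyNoetherian Q.left := LocallyOfFiniteType.isLocallyNoetherian Q.hom
  haveI : LocallyOfFiniteType f.left := AGStr.locallyOfFiniteType_left f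
  haveI : UniversallyOpen f.left := inferInstance
  have e1 : Scheme.BirationalOver (B ⊗ T).hom X.hom := by
    have := birationalOver_of_isPullback h1 f.left.isOpenMap X.hom
    rwa [← Over.comp_left, Over.w ((B ◁ σ) ≫ b.act)] at this
  haveI : LocallyOfFinitePresentation B.hom := inferInstance
  haveI : UniversallyOpen B.hom := inferInstance
  haveI : UniversallyOpen (snd B Q).left := inferInstanceAs (UniversallyOpen (Limits.pullback.snd B.hom Q.hom))
  have e2 : Scheme.BirationalOver (B ⊗ T).hom (B ⊗ Q).hom := by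
    have h2 : IsPullback (B ◁ iT).left (snd B T).left (snd B Q).left iT.left := (hb iT).map (Over.forget _)
    have := birationalOver_of_isPullback h2 (snd B Q).left.isOpenMap (B ⊗ Q).hom
    rwa [Over.w (B ◁ iT)] at this
  exact ((birationalOver_of_iso (β_ Q B)).trans e2.symm).trans e1

open MvPolynomial in
theorem finite_of_finiteType_away {n : Type u} {f : MvPolynomial n k} (hf : f ≠ 0)
    [Algebra.FiniteType k (Localization.Away f)] : Finite n := by
  classical
  let L := Localization.Away f
  obtain ⟨t, ht⟩ : (⊤ : Subalgebra k L).FG := Algebra.FiniteType.out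
  have hr : ∀ a : L, ∃ (N : MvPolynomial n k) (m : ℕ),
      a * algebraMap (MvPolynomial n k) L (f ^ m) = algebraMap (MvPolynomial n k) L N := fun a => by
    obtain ⟨⟨N, ⟨_, m, rfl⟩⟩, h⟩ := IsLocalization.surj (Submonoid.powers f) a
    exact ⟨N, m, h⟩
  choose N m hN using hr
  let F : Finset n := f.vars ∪ t.biUnion fun a => (N a).vars
  by_contra hn
  rw [not_finite_iff_infinite] at hn
  obtain ⟨x, hx⟩ := Infinite.exists_notMem_finset F
  let v : n → L := fun i => algebraMap (MvPolynomial n k) L (X i + if i = x then 1 else 0)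
  let φ₀ : MvPolynomial n k →ₐ[k] L := aeval v
  have hφ : ∀ P : MvPolynomial n k, x ∉ P.vars → φ₀ P = algebraMap (MvPolynomial n k) L P := fun P hP => by
    have e : algebraMap (MvPolynomial n k) L P = aeval (fun i => algebraMap (MvPolynomial n k) L (X i)) P := by
      rw [show (aeval fun i => algebraMap (MvPolynomial n k) L (X i)) =
        IsScalarTower.toAlgHom k (MvPolynomial n k) L from algHom_ext fun i => by simp]
      rfl
    rw [e]
    refine eval₂Hom_congr' rfl (fun i hi _ => ?_) rfl
    have : i ≠ x := fun h => hP (h ▸ hi)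
    simp [v, this]
  have hfu : IsUnit (φ₀ f) := by
    rw [hφ f fun h => hx (Finset.mem_union_left _ h)]
    exact IsLocalization.Away.algebraMap_isUnit f
  let φ : L →ₐ[k] L := IsLocalization.liftAlgHom (M := Submonoid.powers f) (f := φ₀) (by
    rintro ⟨_, j, rfl⟩
    rw [map_pow]
    exact hfu.pow j)
  have hφ' : ∀ P : MvPolynomial n k, φ (algebraMap (MvPolynomial n k) L P) = φ₀ P := fun P =>
    IsLocalization.lift_eq _ P
  have hid : φ = AlgHom.id k L := AlgHom.ext_of_adjoin_eq_top ht fun a ha => by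
    have ha' := congrArg φ (hN a)
    have hxN : x ∉ (N a).vars := fun h => hx (Finset.mem_union_right _ (Finset.mem_biUnion.mpr ⟨a, ha, h⟩))
    rw [map_mul, hφ', hφ', map_pow, hφ f fun h => hx (Finset.mem_union_left _ h), hφ _ hxN, ← map_pow] at ha'
    exact ((IsLocalization.map_units L (⟨f ^ m a, ⟨m a, rfl⟩⟩ : Submonoid.powers f)).mul_left_injective (ha'.trans (hN a).symm))
  have h1 := (hφ' (X x)).symm.trans (congrArg (fun ψ : L →ₐ[k] L => ψ (algebraMap (MvPolynomial n k) L (X x))) hid)
  haveI : Nontrivial L := (IsLocalization.injective L (M := Submonoid.powers f)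
    (powers_le_nonZeroDivisors_of_noZeroDivisors hf)).nontrivial
  simp [φ₀, v] at h1

/-- A scheme locally of finite type rational over a field is birational to some finite-dimensional affine space. -/
theorem exists_birationalOver_fin (X : Over (Spec (CommRingCat.of k))) [LocallyOfFiniteType X.hom] [Nonempty X.left]
    [Scheme.IsRationalOver X.hom] : IrreducibleSpace X.left ∧ ∃ r : ℕ, Scheme.BirationalOver X.hom
      (Spec.map (CommRingCat.ofHom (algebraMap k (MvPolynomial (Fin r) k)))) := by
  obtain ⟨n, e, he⟩ := Scheme.IsRationalOver.exists_birationalOver_affineSpace X.hom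
  haveI : Nonempty (e.source : Scheme.{u}) := e.dense_source.nonempty.to_subtype
  let ε := AffineSpace.SpecIso n (CommRingCat.of k)
  have hε : ε.inv ≫ 𝔸(n; Spec (CommRingCat.of k)) ↘ Spec (CommRingCat.of k) =
      Spec.map (CommRingCat.ofHom (algebraMap k (MvPolynomial n k))) := AffineSpace.SpecIso_inv_over (n := n) _
  refine ⟨?_, ?_⟩
  · haveI : Nonempty (e.target : Scheme.{u}) := ⟨e.iso.hom (Classical.arbitrary _)⟩
    haveI : IrreducibleSpace (e.target : Scheme.{u}) :=
      { toPreirreducibleSpace := e.target.ι.isOpenEmbedding.preirreducibleSpace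
        toNonempty := inferInstance }
    haveI : IsDominant e.source.ι := Opens.isDominant_ι e.dense_source
    haveI : IsDominant (e.iso.inv ≫ e.source.ι) := inferInstance
    have h := (IrreducibleSpace.isIrreducible_univ _).image (e.iso.inv ≫ e.source.ι)
      (e.iso.inv ≫ e.source.ι).continuous.continuousOn
    rw [Set.image_univ] at h
    refine (irreducibleSpace_def _).mpr ?_
    show IsIrreducible (Set.univ : Set X.left)
    rw [← (e.iso.inv ≫ e.source.ι).denseRange.closure_range]
    exact h.closure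
  have hne : (SetLike.coe (ε.inv ⁻¹ᵁ e.target) : Set (Spec (CommRingCat.of (MvPolynomial n k)))).Nonempty := by
    obtain ⟨z⟩ := (inferInstance : Nonempty (e.source : Scheme.{u}))
    refine ⟨ε.hom (e.iso.hom z).1, ?_⟩
    show ε.inv (ε.hom (e.iso.hom z).1) ∈ e.target
    rw [← Scheme.Hom.comp_apply, Iso.hom_inv_id]
    exact (e.iso.hom z).2
  obtain ⟨z, hz⟩ := hne
  obtain ⟨_, ⟨f, rfl⟩, hzf, hfs⟩ := PrimeSpectrum.isTopologicalBasis_basic_opens.exists_subset_of_mem_open hz
    (ε.inv ⁻¹ᵁ e.target).isOpen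
  have hf : f ≠ 0 := fun h => by subst h; simp only [PrimeSpectrum.basicOpen_zero, TopologicalSpace.Opens.coe_bot] at hzf; exact hzf.elim
  let j := Spec.map (CommRingCat.ofHom (algebraMap (MvPolynomial n k) (Localization.Away f)))
  haveI : IsOpenImmersion j := IsOpenImmersion.of_isLocalization f
  have hj : Set.range (j ≫ ε.inv) ⊆ Set.range e.target.ι := by
    rintro _ ⟨y, rfl⟩
    rw [Scheme.Opens.range_ι]
    apply hfs
    have : (PrimeSpectrum.comap (algebraMap (MvPolynomial n k) (Localization.Away f))) y ∈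
        Set.range (PrimeSpectrum.comap (algebraMap (MvPolynomial n k) (Localization.Away f))) := ⟨y, rfl⟩
    rwa [PrimeSpectrum.localization_away_comap_range _ f] at this
  let l := IsOpenImmersion.lift e.target.ι (j ≫ ε.inv) hj
  have hl : l ≫ e.iso.inv ≫ e.source.ι ≫ X.hom =
      Spec.map (CommRingCat.ofHom (algebraMap k (Localization.Away f))) := by
    rw [← he, Iso.inv_hom_id_assoc, IsOpenImmersion.lift_fac_assoc, Category.assoc, hε, ← Spec.map_comp,
      ← CommRingCat.ofHom_comp, ← IsScalarTower.algebraMap_eq]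
  haveI : IsOpenImmersion l := by
    haveI : IsOpenImmersion (l ≫ e.target.ι) := by rw [IsOpenImmersion.lift_fac]; infer_instance
    exact IsOpenImmersion.of_comp l e.target.ι
  haveI : Algebra.FiniteType k (Localization.Away f) := by
    have h : LocallyOfFiniteType (Spec.map (CommRingCat.ofHom (algebraMap k (Localization.Away f)))) := by
      rw [← hl]; infer_instance
    rw [HasRingHomProperty.Spec_iff (P := @LocallyOfFiniteType)] at h
    exact RingHom.finiteType_algebraMap.mp h
  haveI := finite_of_finiteType_away hf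
  haveI := Fintype.ofFinite n
  refine ⟨Fintype.card n, (Scheme.BirationalOver.trans ⟨e, he⟩ ?_)⟩
  let ρ := MvPolynomial.renameEquiv k (Fintype.equivFin n)
  let θ : 𝔸(n; Spec (CommRingCat.of k)) ⟶ Spec (CommRingCat.of (MvPolynomial (Fin (Fintype.card n)) k)) :=
    ε.hom ≫ Spec.map (CommRingCat.ofHom ρ.symm.toRingHom)
  haveI : IsIso (CommRingCat.ofHom ρ.symm.toRingHom) :=
    inferInstanceAs (IsIso (ρ.symm.toRingEquiv.toCommRingCatIso).hom)
  refine Scheme.Hom.birationalOver θ _ _ ?_
  show θ ≫ Spec.map _ = _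
  have hρ : ρ.symm.toRingHom.comp (algebraMap k (MvPolynomial (Fin (Fintype.card n)) k)) =
      algebraMap k (MvPolynomial n k) := ρ.symm.toAlgHom.comp_algebraMap
  simp only [θ, Category.assoc]
  rw [← Spec.map_comp, ← CommRingCat.ofHom_comp, hρ, ← hε, Iso.hom_inv_id_assoc]

end Birat

end Groth.Agent.Obs28.NoName
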