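import Mathlib.AlgebraicGeometry.FunctionField
import Mathlib.AlgebraicGeometry.Morphisms.UniversallyInjective
import Mathlib.AlgebraicGeometry.AlgClosed.Basic
import Mathlib.AlgebraicGeometry.Noetherian
import Mathlib.RingTheory.LocalProperties.IntegrallyClosed
import Mathlib.RingTheory.IntegralClosure.Algebra.Basic
import Mathlib.RingTheory.IntegralClosure.IntegrallyClosed
import Mathlib.RingTheory.Adjoin.Tower
import Mathlib.RingTheory.FiniteType
import Mathlib.AlgebraicGeometry.PullbackCarrier

/-! Global functions along a bijective morphism onto a normal variety. -/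

universe u

open CategoryTheory Limits AlgebraicGeometry

namespace Groth.Agent.Obs28.PINormal

set_option linter.style.haveILetI false

theorem exists_prime_of_not_mem {A K : Type u} [CommRing A] [IsDomain A] [IsNoetherianRing A]
    [IsIntegrallyClosed A] [Field K] [Algebra A K] [IsFractionRing A K] (g : K)
    (hg : g ∉ Set.range (algebraMap A K)) :
    ∃ (p : Ideal A) (_ : p.IsPrime) (r c s : A), c ∈ p ∧ s ∉ p ∧
      algebraMap A K c * (g * algebraMap A K r) = algebraMap A K s := by
  let J : A → Ideal A := fun r =>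
    Submodule.comap (LinearMap.toSpanSingleton A K (g * algebraMap A K r)) (LinearMap.range (Algebra.linearMap A K))
  have hJ : ∀ r x, x ∈ J r ↔ algebraMap A K x * (g * algebraMap A K r) ∈ (algebraMap A K).range := fun r x => by
    show x • (g * algebraMap A K r) ∈ LinearMap.range (Algebra.linearMap A K) ↔ _
    rw [Algebra.smul_def]
    exact Iff.rfl
  let S : Set (Ideal A) := J '' {r | g * algebraMap A K r ∉ (algebraMap A K).range}
  obtain ⟨p, ⟨r, hr, rfl⟩, hmax⟩ := set_has_maximal_iff_noetherian.mpr (inferInstance : IsNoetherian A A) S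
    ⟨J 1, 1, by simpa using hg, rfl⟩
  have hprime : (J r).IsPrime := by
    refine ⟨fun h => hr ?_, fun {x y} hxy => ?_⟩
    · have := (hJ r 1).mp (h ▸ Submodule.mem_top)
      rwa [map_one, one_mul] at this
    by_contra hh
    push Not at hh
    have hrx : g * algebraMap A K (r * x) ∉ (algebraMap A K).range := fun h => hh.1 ((hJ r x).mpr (by
      rw [map_mul] at h
      convert h using 1
      ring))
    have hle : J r ≤ J (r * x) := fun z hz => by
      rw [hJ] at hz ⊢
      rw [map_mul, show algebraMap A K z * (g * (algebraMap A K r * algebraMap A K x)) =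
        algebraMap A K z * (g * algebraMap A K r) * algebraMap A K x by ring]
      exact mul_mem hz ⟨x, rfl⟩
    have heq : J r = J (r * x) := by
      by_contra hne
      exact hmax _ ⟨r * x, hrx, rfl⟩ (lt_of_le_of_ne hle hne)
    refine hh.2 ?_
    rw [heq, hJ, map_mul]
    have := (hJ r (x * y)).mp hxy
    rw [map_mul] at this
    convert this using 1
    ring
  by_cases hin : ∀ c ∈ J r, ∀ s, algebraMap A K c * (g * algebraMap A K r) = algebraMap A K s → s ∈ J r
  · exfalso
    let N : Submodule A K := Submodule.map (Algebra.linearMap A K) (J r)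
    have hN : N ≠ ⊥ := by
      obtain ⟨a, b, hb, hab⟩ := IsFractionRing.div_surjective (A := A) (g * algebraMap A K r)
      have hb0 : algebraMap A K b ≠ 0 := (map_ne_zero_iff _ (IsFractionRing.injective A K)).mpr
        (nonZeroDivisors.ne_zero hb)
      intro h
      have : algebraMap A K b ∈ N := ⟨b, (hJ r b).mpr ⟨a, by rw [← hab, mul_div_cancel₀ _ hb0]⟩, rfl⟩
      rw [h, Submodule.mem_bot] at this
      exact hb0 this
    have hint : IsIntegral A (g * algebraMap A K r) :=
      isIntegral_of_smul_mem_submodule N hN ((IsNoetherian.noetherian (J r)).map _) _ (by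
        rintro _ ⟨c, hc, rfl⟩
        obtain ⟨s, hs⟩ := (hJ r c).mp hc
        exact ⟨s, hin c hc s hs.symm, by
          show algebraMap A K s = _ • algebraMap A K c
          rw [hs, smul_eq_mul, mul_comm]⟩)
    exact hr (IsIntegrallyClosed.isIntegral_iff.mp hint)
  · push Not at hin
    obtain ⟨c, hc, s, hs, hs'⟩ := hin
    exact ⟨J r, hprime, r, c, s, hc, hs', hs⟩

variable {k : Type u} [Field k] [IsAlgClosed k]

theorem universallyInjective_of_injective {X Y : Over (Spec (CommRingCat.of k))} [IsSeparated X.hom]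
    [LocallyOfFiniteType X.hom] [LocallyOfFiniteType Y.hom] [IsSeparated Y.hom] (π : Y ⟶ X)
    (hπ : Function.Injective π.left.base) : UniversallyInjective π.left := by
  haveI : IsSeparated π.left := by
    have : IsSeparated (π.left ≫ X.hom) := by rw [Over.w π]; infer_instance
    exact IsSeparated.of_comp π.left X.hom
  haveI : LocallyOfFiniteType π.left := by
    have : LocallyOfFiniteType (π.left ≫ X.hom) := by rw [Over.w π]; infer_instance
    exact locallyOfFiniteType_of_comp π.left X.hom
  rw [UniversallyInjective.iff_diagonal, surjective_iff]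
  let P := pullback π.left π.left
  let p : P ⟶ Spec (CommRingCat.of k) := pullback.fst π.left π.left ≫ Y.hom
  haveI : JacobsonSpace P := LocallyOfFiniteType.jacobsonSpace p
  intro z
  by_contra hz
  have hcl : IsClosed (Set.range (pullback.diagonal π.left).base) :=
    (pullback.diagonal π.left).isClosedEmbedding.isClosed_range
  obtain ⟨w, hw, hwc⟩ := nonempty_inter_closedPoints
    (⟨z, hz⟩ : (Set.range (pullback.diagonal π.left).base)ᶜ.Nonempty) hcl.isOpen_compl.isLocallyClosed
  let t := pointOfClosedPoint p w hwc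
  have ht : t ≫ p = 𝟙 _ := pointOfClosedPoint_comp p w hwc
  have hsnd : pullback.snd π.left π.left ≫ Y.hom = p := by
    rw [← Over.w π, ← Category.assoc, ← pullback.condition, Category.assoc, Over.w π]
  have h1 : (t ≫ pullback.fst π.left π.left) ≫ Y.hom = 𝟙 _ := by rw [Category.assoc]; exact ht
  have h2 : (t ≫ pullback.snd π.left π.left) ≫ Y.hom = 𝟙 _ := by rw [Category.assoc, hsnd]; exact ht
  have heq : t ≫ pullback.fst π.left π.left = t ≫ pullback.snd π.left π.left :=
    ext_of_apply_closedPoint_eq Y.hom h1 h2 (hπ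
      (congr($(show (t ≫ pullback.fst π.left π.left) ≫ π.left = (t ≫ pullback.snd π.left π.left) ≫ π.left by
        rw [Category.assoc, Category.assoc, pullback.condition]).base (IsLocalRing.closedPoint k))))
  have htd : t = (t ≫ pullback.fst π.left π.left) ≫ pullback.diagonal π.left := pullback.hom_ext
    (by simp) (by simp [heq])
  refine hw ⟨(t ≫ pullback.fst π.left π.left).base (IsLocalRing.closedPoint k), ?_⟩
  exact (congrArg (fun m => m.base (IsLocalRing.closedPoint k)) htd).symm.trans (pointOfClosedPoint_apply p w hwc _)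

set_option linter.unusedSectionVars false

variable {X Y : Scheme.{u}} [AlgebraicGeometry.IsIntegral X] [AlgebraicGeometry.IsIntegral Y] (f : Y ⟶ X) [AlgebraicGeometry.Surjective f]

theorem genericPoint_map : f.base (genericPoint Y) = genericPoint X :=
  ((genericPoint_spec Y).image f.base.hom.continuous).eq
    (by simpa [Set.image_univ, f.surjective.range_eq] using genericPoint_spec X)

/-- The map of function fields. -/
noncomputable def ffMap : X.functionField ⟶ Y.functionField :=
  X.presheaf.stalkSpecializes (specializes_of_eq (genericPoint_map f)) ≫ f.stalkMap (genericPoint Y)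

theorem nonempty_preimage (U : X.Opens) [hU : Nonempty U] : Nonempty (f ⁻¹ᵁ U) := by
  obtain ⟨⟨x, hx⟩⟩ := hU
  obtain ⟨y, rfl⟩ := f.surjective x
  exact ⟨⟨y, hx⟩⟩

theorem ffMap_germ (U : X.Opens) [Nonempty U] [Nonempty (f ⁻¹ᵁ U)] (a : Γ(X, U)) :
    ffMap f (X.germToFunctionField U a) = Y.germToFunctionField (f ⁻¹ᵁ U) (f.app U a) := by
  have e : X.germToFunctionField U ≫ ffMap f = f.app U ≫ Y.germToFunctionField (f ⁻¹ᵁ U) := by
    rw [Scheme.germToFunctionField, Scheme.germToFunctionField, ffMap,
      TopCat.Presheaf.germ_stalkSpecializes_assoc, Scheme.Hom.germ_stalkMap]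
  exact congr($e a)

theorem exists_pow_mem [UniversallyInjective f] (z : Y.functionField) :
    ∃ n : ℕ, 0 < n ∧ z ^ n ∈ Set.range (ffMap f) := by
  set η := genericPoint Y with hη
  have hui : Function.Injective f.base ∧ ∀ x, (f.residueFieldMap x).hom.IsPurelyInseparable :=
    ((tfae_universallyInjective f).out 0 2).mp (inferInstance : UniversallyInjective f)
  have hri := hui.2 η
  algebraize [(f.residueFieldMap η).hom]
  obtain ⟨n, w, hw⟩ := IsPurelyInseparable.pow_mem (F := X.residueField (f η)) (ringExpChar (X.residueField (f η)))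
    (Y.residue η z)
  obtain ⟨w, rfl⟩ := IsLocalRing.residue_surjective w
  refine ⟨ringExpChar (X.residueField (f η)) ^ n, ?_, ?_⟩
  · exact pow_pos (expChar_pos (X.residueField (f η)) _) n
  have hinj : Function.Injective (Y.residue η) := RingHom.injective (R := Y.functionField) (Y.residue η).hom
  have hz : f.stalkMap η w = z ^ ringExpChar (X.residueField (f η)) ^ n := hinj (by
    rw [map_pow]
    exact (congr($(Scheme.residue_residueFieldMap f η) w)).symm.trans hw)
  obtain ⟨U, hU, a, rfl⟩ := X.presheaf.germ_exist w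
  haveI : Nonempty U := ⟨⟨_, hU⟩⟩
  haveI := nonempty_preimage f U
  refine ⟨X.germToFunctionField U a, ?_⟩
  rw [ffMap_germ, ← hz, Scheme.Hom.germ_stalkMap_apply]

theorem mem_of_integrallyClosed [Nonempty (⊤ : Y.Opens)] [IsLocallyNoetherian X] (hX : ∀ x : X, IsIntegrallyClosed (X.presheaf.stalk x))
    {b : Γ(Y, ⊤)} {g : X.functionField} (hg : ffMap f g = Y.germToFunctionField ⊤ b)
    (U : X.Opens) (hU : IsAffineOpen U) [Nonempty U] : g ∈ Set.range (X.germToFunctionField U) := by
  haveI : IsNoetherianRing Γ(X, U) := IsLocallyNoetherian.component_noetherian ⟨U, hU⟩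
  haveI := functionField_isFractionRing_of_isAffineOpen X U hU
  have hmem : ∀ P : PrimeSpectrum Γ(X, U), hU.fromSpec P ∈ U := fun P => hU.range_fromSpec.le ⟨P, rfl⟩
  haveI : IsIntegrallyClosed Γ(X, U) := by
    refine IsIntegrallyClosed.of_localization_maximal fun P _ hP => ?_
    let x : PrimeSpectrum Γ(X, U) := ⟨P, hP.isPrime⟩
    letI := X.presheaf.algebra_section_stalk (⟨hU.fromSpec x, hmem x⟩ : U)
    haveI : IsLocalization.AtPrime (X.presheaf.stalk (hU.fromSpec x)) P := hU.isLocalization_stalk' x (hmem x)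
    haveI := hX (hU.fromSpec x)
    exact IsIntegrallyClosed.of_equiv
      (IsLocalization.algEquiv P.primeCompl (X.presheaf.stalk (hU.fromSpec x)) (Localization.AtPrime P)).toRingEquiv
  by_contra hgm
  obtain ⟨p, hp, r, c, s, hc, hs, heq⟩ := exists_prime_of_not_mem (A := Γ(X, U)) g hgm
  let x := hU.fromSpec ⟨p, hp⟩
  have hx : x ∈ U := hmem _
  letI := X.presheaf.algebra_section_stalk (⟨x, hx⟩ : U)
  haveI : IsLocalization.AtPrime (X.presheaf.stalk x) p := hU.isLocalization_stalk' ⟨p, hp⟩ hx
  obtain ⟨y, hy⟩ := f.surjective x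
  haveI := nonempty_preimage f U
  have hyU : f y ∈ U := by rw [hy]; exact hx
  have hb : ffMap f g = Y.germToFunctionField (f ⁻¹ᵁ U) (Y.presheaf.map (homOfLE le_top).op b) := by
    rw [hg]; exact (Y.presheaf.germ_res_apply _ _ _ b).symm
  have hV : f.app U c * (Y.presheaf.map (homOfLE le_top).op b * f.app U r) = f.app U s := by
    apply Scheme.germToFunctionField_injective Y (f ⁻¹ᵁ U)
    have h := congrArg (ffMap f) heq
    change ffMap f (X.germToFunctionField U c * (g * X.germToFunctionField U r)) =
      ffMap f (X.germToFunctionField U s) at h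
    rw [map_mul, map_mul, ffMap_germ, ffMap_germ, ffMap_germ, hb] at h
    rw [map_mul, map_mul]
    exact h
  have hiff : ∀ a : Γ(X, U), IsUnit (X.presheaf.germ U x hx a) ↔ a ∈ p.primeCompl := fun a =>
    IsLocalization.AtPrime.isUnit_to_map_iff (X.presheaf.stalk x) p a
  have key : ∀ x', x' = x → ∀ (h' : x' ∈ U) (a : Γ(X, U)),
      IsUnit (X.presheaf.germ U x' h' a) ↔ a ∈ p.primeCompl := by rintro _ rfl h' a; exact hiff a
  have hiff' := key (f y) hy hyU
  have hu := ((hiff' s).mpr hs).map (f.stalkMap y).hom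
  rw [Scheme.Hom.germ_stalkMap_apply, ← hV, map_mul] at hu
  have hu' := isUnit_of_mul_isUnit_left hu
  rw [← Scheme.Hom.germ_stalkMap_apply] at hu'
  exact (hiff' c).mp (isUnit_of_map_unit (f.stalkMap y).hom _ hu') hc

theorem exists_pow_eq [UniversallyInjective f] [IsLocallyNoetherian X]
    (hX : ∀ x : X, IsIntegrallyClosed (X.presheaf.stalk x)) (b : Γ(Y, ⊤)) :
    ∃ n : ℕ, 0 < n ∧ ∃ a : Γ(X, ⊤), f.appTop a = b ^ n := by
  haveI : Nonempty (⊤ : Y.Opens) := ⟨⟨genericPoint Y, trivial⟩⟩
  haveI : Nonempty (⊤ : X.Opens) := ⟨⟨genericPoint X, trivial⟩⟩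
  obtain ⟨n, hn, g, hg⟩ := exists_pow_mem f (Y.germToFunctionField ⊤ b)
  rw [← map_pow] at hg
  refine ⟨n, hn, ?_⟩
  let ι := {U : X.Opens // IsAffineOpen U ∧ Nonempty U}
  choose sf hsf using fun U : ι => haveI := U.2.2; mem_of_integrallyClosed f hX hg U.1 U.2.1
  have hcompat : TopCat.Presheaf.IsCompatible X.presheaf (fun U : ι => U.1) sf := fun U V => by
    haveI := U.2.2; haveI := V.2.2
    have hne : ∀ W : X.Opens, Nonempty W → genericPoint X ∈ W := fun W hW =>
      ((genericPoint_spec X).mem_open_set_iff W.isOpen).mpr (by simpa using hW)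
    haveI : Nonempty (U.1 ⊓ V.1 : X.Opens) := ⟨⟨genericPoint X, hne _ U.2.2, hne _ V.2.2⟩⟩
    apply Scheme.germToFunctionField_injective X (U.1 ⊓ V.1)
    refine (X.presheaf.germ_res_apply _ _ _ _).trans ?_
    refine Eq.trans ?_ (X.presheaf.germ_res_apply _ _ _ _).symm
    exact (hsf U).trans (hsf V).symm
  obtain ⟨a, ha, -⟩ := X.sheaf.existsUnique_gluing' (fun U : ι => U.1) ⊤ (fun U => homOfLE le_top) (fun x _ => by
    obtain ⟨U, hU, hxU, -⟩ := exists_isAffineOpen_mem_and_subset (x := x) (U := ⊤) trivial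
    exact TopologicalSpace.Opens.mem_iSup.mpr ⟨⟨U, hU, ⟨⟨x, hxU⟩⟩⟩, hxU⟩) sf hcompat
  refine ⟨a, Scheme.germToFunctionField_injective Y ⊤ ?_⟩
  obtain ⟨U, hU, hxU, -⟩ := exists_isAffineOpen_mem_and_subset (x := genericPoint X) (U := ⊤) trivial
  haveI : Nonempty U := ⟨⟨_, hxU⟩⟩
  haveI := nonempty_preimage f ⊤
  refine (ffMap_germ f ⊤ a).symm.trans (Eq.trans ?_ hg)
  congr 1
  rw [← hsf ⟨U, hU, inferInstance⟩, ← ha ⟨U, hU, inferInstance⟩]
  exact (X.presheaf.germ_res_apply _ _ _ a).symm

theorem appTop_injective : Function.Injective f.appTop := by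
  haveI : Nonempty (⊤ : Y.Opens) := ⟨⟨genericPoint Y, trivial⟩⟩
  haveI : Nonempty (⊤ : X.Opens) := ⟨⟨genericPoint X, trivial⟩⟩
  haveI := nonempty_preimage f ⊤
  intro a b h
  exact Scheme.germToFunctionField_injective X ⊤ ((ffMap f).hom.injective (by
    rw [ffMap_germ, ffMap_germ]; exact congrArg _ h))

end Groth.Agent.Obs28.PINormal
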