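import Groth.Agent.Obs28.Extend
import Groth.Agent.Obs28.Primes

/-! Invariant rational functions as quotients of invariant functions. -/

universe u

open CategoryTheory MonoidalCategory CartesianMonoidalCategory MonObj GrpObj AlgebraicGeometry
open scoped TensorProduct

namespace Groth.Agent.Obs28

open GrpSchLib.Kunneth

set_option linter.unusedSectionVars false
set_option linter.style.haveILetI false

variable {k : Type u} [Field k] [IsAlgClosed k] {G H : Over (Spec (CommRingCat.of k))} [GrpObj G] [GrpObj H]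
  [IsAffine G.left] [Smooth G.hom] [IsAffine H.left] [Smooth H.hom] (i : H ⟶ G) [IsMonHom i]

theorem exists_equivariant_of_extends {V : Type u} [AddCommGroup V] [Module k V] (σ : VecGrp.GMod H V)
    (h : σ.ExtendsAlong i) :
    ∃ (W : Type u) (_ : AddCommGroup W) (_ : Module k W) (_ : Module.Finite k W) (π : Rat G →* (W ≃ₗ[k] W))
      (_ : IsRegular π) (φ : V →ₗ[k] W), Function.Injective φ ∧
      ∀ (h : Rat H) (v : V), φ (rep σ h v) = π (h ≫ i) (φ v) := by
  obtain ⟨W, _, _, _, ρ, φ, hφ, he⟩ := h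
  refine ⟨W, inferInstance, inferInstance, inferInstance, rep ρ, rep_isRegular ρ, φ, hφ, fun h v => ?_⟩
  have := congrArg (TensorProduct.lid k W) (he k h (1 ⊗ₜ[k] v))
  rw [LinearMap.baseChange_tmul, rho_k_apply, rho_k_apply, LinearMap.baseChange_tmul,
    TensorProduct.lid_tmul, TensorProduct.lid_tmul, one_smul, one_smul] at this
  exact this

/-- The contragredient of a representation. -/
noncomputable def dualPi {V : Type u} [AddCommGroup V] [Module k V] (π : Rat H →* (V ≃ₗ[k] V)) :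
    Rat H →* (Module.Dual k V ≃ₗ[k] Module.Dual k V) :=
  MonoidHom.mk' (fun g => (π g⁻¹).dualMap) fun g g' => LinearEquiv.ext fun ξ => LinearMap.ext fun v => by
    simp [_root_.mul_inv_rev, map_mul]

theorem dualPi_apply {V : Type u} [AddCommGroup V] [Module k V] (π : Rat H →* (V ≃ₗ[k] V)) (g : Rat H)
    (ξ : Module.Dual k V) (v : V) : dualPi π g ξ v = ξ (π g⁻¹ v) := rfl

theorem dualPi_regular {V : Type u} [AddCommGroup V] [Module k V] [Module.Finite k V]
    {π : Rat H →* (V ≃ₗ[k] V)} (hπ : IsRegular π) : IsRegular (dualPi π) := fun ξ => by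
  let b := Module.finBasis k V
  refine ⟨∑ j, ev ι[H] (coeff hπ ξ (b j)) ⊗ₜ[k] b.coord j, fun g => ?_⟩
  refine b.ext fun l => ?_
  rw [dualPi_apply, map_sum]
  simp [Finsupp.single_apply, evl_tmul, ← pfn_comp, GrpObj.inv_eq_inv, GrpObj.comp_inv, pfn_coeff]

theorem sum_coord_invariant {W J : Type*} [AddCommGroup W] [Module k W] [Fintype J] (e : Module.Basis J k W)
    (f : W →ₗ[k] k) (g : Module.Dual k W →ₗ[k] k) (T : W ≃ₗ[k] W) :
    ∑ v, f (T (e v)) * g (T.symm.dualMap (e.coord v)) = ∑ v, f (e v) * g (e.coord v) := by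
  classical
  have hg : ∀ ξ, g ξ = ξ (∑ l, g (e.coord l) • e l) := fun ξ => by
    have h1 : ξ = ∑ l, ξ (e l) • e.coord l := e.ext fun m => by simp
    conv_lhs => rw [h1]
    simp only [map_sum, map_smul, smul_eq_mul, _root_.mul_comm]
  have key : ∀ S : W ≃ₗ[k] W, ∑ v, f (S (e v)) * g (S.symm.dualMap (e.coord v)) =
      f (∑ l, g (e.coord l) • e l) := fun S => by
    conv_rhs => rw [← S.apply_symm_apply (∑ l, g (e.coord l) • e l),
      ← e.sum_repr (S.symm (∑ l, g (e.coord l) • e l))]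
    rw [map_sum, map_sum]
    refine Finset.sum_congr rfl fun v _ => ?_
    rw [hg (S.symm.dualMap (e.coord v)), map_smul, map_smul, smul_eq_mul, _root_.mul_comm (f (S (e v)))]
    rfl
  exact (key T).trans (key (LinearEquiv.refl k W)).symm

variable [ConnectedSpace G.left]

/-- An invariant fraction on a connected group is a quotient of invariant functions, for observable subgroups. -/
theorem exists_inv_quotient [IsClosedImmersion i.left] (hobs : AGF.IsObservableIn k i) {a b : Fn G} (hb : b ≠ 0)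
    (hab : ∀ h : Rat H, rMap (h ≫ i) a * b = a * rMap (h ≫ i) b) :
    ∃ a' b', Inv' i a' ∧ Inv' i b' ∧ b' ≠ 0 ∧ a * b' = a' * b := by
  classical
  haveI := isReduced_grp G
  haveI : IsDomain (Fn G) := isDomain_fn
  have hrne : ∀ g : Rat G, rMap g b ≠ 0 := fun g e => hb (ext_pts fun x => by
    have := congrArg (pfn (x * g⁻¹)) e
    rwa [pfn_rMap', inv_mul_cancel_right, map_zero, ← map_zero (pfn x)] at this)
  -- the denominators
  let I : Submodule k (Fn G) :=
    { carrier := {q | ∃ p, a * q = p * b}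
      add_mem' := fun {x y} ⟨p, hp⟩ ⟨p', hp'⟩ => ⟨p + p', by rw [mul_add, add_mul, hp, hp']⟩
      zero_mem' := ⟨0, by simp⟩
      smul_mem' := fun c x ⟨p, hp⟩ => ⟨c • p, by rw [mul_smul_comm, smul_mul_assoc, hp]⟩ }
  have hI : ∀ (h : Rat H) q, q ∈ I → rMap (h ≫ i) q ∈ I := fun h q ⟨p, hp⟩ =>
    ⟨rMap (h ≫ i) p, mul_left_cancel₀ (hrne (h ≫ i)) (by
      have h1 : rMap (h ≫ i) a * rMap (h ≫ i) q = rMap (h ≫ i) p * rMap (h ≫ i) b := by
        rw [← map_mul, ← map_mul, hp]
      linear_combination b * h1 - rMap (h ≫ i) q * hab h)⟩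
  let πH : Rat H →* (Fn G ≃ₗ[k] Fn G) :=
    rPi.comp (MonoidHom.mk' (fun h => h ≫ i) fun x y => MonObj.mul_comp x y i)
  have hπH : IsRegular πH := fun m => by
    obtain ⟨z, hz⟩ := rPi_regular (G := G) m
    refine ⟨VecGrp.Wmap (ev i) z, fun h => ?_⟩
    rw [evl_Wmap]
    exact hz (h ≫ i)
  let W := orbitSpan πH {b}
  haveI : Module.Finite k W := finite_orbitSpan hπH (Set.finite_singleton b)
  have hWI : W ≤ I := by
    refine Submodule.span_le.mpr ?_
    rintro _ ⟨h, _, hx, rfl⟩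
    rw [Set.mem_singleton_iff] at hx
    subst hx
    exact hI h _ ⟨a, rfl⟩
  let πW := subPi πH W (orbitSpan_stable πH _)
  have hπW : IsRegular πW := subPi_regular _ _ _ hπH
  obtain ⟨M, _, _, _, π, hπ, φ, hφ, heq⟩ :=
    exists_equivariant_of_extends i _ (extendsAlong_of_observable i hobs (ofRat (dualPi_regular hπW)))
  rw [rep_ofRat] at heq
  let n := Module.finrank k W
  let e : Module.Basis (Fin n) k W := Module.finBasis k W
  obtain ⟨j₀, hj₀⟩ : ∃ j, (e j : Fn G) ≠ 0 := by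
    haveI : Nontrivial W :=
      ⟨⟨b, subset_orbitSpan πH {b} (Set.mem_singleton b)⟩, 0, fun h => hb (congrArg Subtype.val h)⟩
    exact ⟨⟨0, Module.finrank_pos⟩, fun h => e.ne_zero _ (Subtype.ext h)⟩
  obtain ⟨x₀, hx₀⟩ : ∃ x : Rat G, pfn x (e j₀ : Fn G) ≠ 0 := by
    by_contra hh
    push Not at hh
    exact hj₀ (eq_zero_of_val _ hh)
  obtain ⟨L, hL⟩ := LinearMap.exists_leftInverse_of_injective ((π x₀).toLinearMap ∘ₗ φ)
    (LinearMap.ker_eq_bot.mpr ((π x₀).injective.comp hφ))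
  let ev₀ : Module.Dual k (Module.Dual k W) := LinearMap.applyₗ (e j₀)
  let ψ : M →ₗ[k] k := ev₀ ∘ₗ L
  let C : Module.Dual k W →ₗ[k] Fn G :=
    { toFun := fun ξ => coeff hπ ψ (φ ξ)
      map_add' := fun ξ ζ => ext_pts fun x => by simp [pfn_coeff]
      map_smul' := fun c ξ => ext_pts fun x => by simp [pfn_coeff] }
  have hC : ∀ (x : Rat G) ξ, pfn x (C ξ) = ψ (π x (φ ξ)) := fun x ξ => pfn_coeff hπ ψ (φ ξ) x
  let q : Fn G := ∑ j, (e j : Fn G) * C (e.coord j)
  -- `q` is a denominator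
  have hqI : q ∈ I := Submodule.sum_mem _ fun j _ => by
    obtain ⟨p, hp⟩ := hWI (e j).2
    exact ⟨p * C (e.coord j), by rw [← _root_.mul_assoc, hp]; ring⟩
  have hq : ∀ h : Rat H, rMap (h ≫ i) q = q := fun h => ext_pts fun x => by
    let f : W →ₗ[k] k := (pfn x).toLinearMap ∘ₗ W.subtype
    let g : Module.Dual k W →ₗ[k] k := (pfn x).toLinearMap ∘ₗ C
    simp only [q, map_sum, map_mul]
    refine Eq.trans (Finset.sum_congr rfl fun v _ => ?_)
      (sum_coord_invariant e f g (πW h))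
    have h2 : pfn x (rMap (h ≫ i) (C (e.coord v))) = g (dualPi πW h (e.coord v)) := by
      rw [pfn_rMap', hC, map_mul, LinearEquiv.mul_apply, ← heq]
      exact (hC x _).symm
    rw [h2]
    refine congrArg₂ (· * ·) rfl (congrArg g (LinearMap.ext fun w => ?_))
    rw [dualPi_apply, map_inv]
    rfl
  have hq0 : q ≠ 0 := fun e0 => hx₀ (by
    have h3 := congrArg (pfn x₀) e0
    simp only [q, map_sum, map_mul, map_zero, hC] at h3
    have h4 : ∀ j, ψ (π x₀ (φ (e.coord j))) = e.coord j (e j₀) := fun j =>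
      congrArg ev₀ (LinearMap.congr_fun hL (e.coord j))
    simp only [h4] at h3
    simpa [Finsupp.single_apply] using h3)
  obtain ⟨p, hp⟩ := hqI
  refine ⟨p, q, fun h => ?_, hq, hq0, hp⟩
  refine mul_right_cancel₀ hb ?_
  refine mul_right_cancel₀ (hrne (h ≫ i)) ?_
  have h1 : rMap (h ≫ i) a * q = rMap (h ≫ i) p * rMap (h ≫ i) b := by
    rw [← map_mul, ← hp, map_mul, hq h]
  linear_combination -b * h1 + q * hab h + rMap (h ≫ i) b * hp

/-- If invariant fractions are quotients of invariant functions, the subgroup is observable. -/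
theorem observable_of_quotient [IsClosedImmersion i.left]
    (hq : ∀ a b : Fn G, b ≠ 0 → (∀ h : Rat H, rMap (h ≫ i) a * b = a * rMap (h ≫ i) b) →
      ∃ a' b', Inv' i a' ∧ Inv' i b' ∧ b' ≠ 0 ∧ a * b' = a' * b) : AGF.IsObservableIn k i := by
  haveI := isReduced_grp G
  haveI : IsDomain (Fn G) := isDomain_fn
  rw [observable_iff]
  intro g hg
  obtain ⟨V, _, _, _, π, hπ, v, hv, hstab⟩ := exists_line_stab i
  obtain ⟨φ, hφ⟩ : ∃ φ : V →ₗ[k] k, φ v = 1 := by
    obtain ⟨L, hL⟩ := LinearMap.exists_leftInverse_of_injective (LinearMap.toSpanSingleton k V v)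
      (LinearMap.ker_eq_bot.mpr (smul_left_injective k hv))
    exact ⟨L, by simpa using LinearMap.congr_fun hL 1⟩
  have hinv : ∀ (ψ : V →ₗ[k] k) (h : Rat H), rMap (h ≫ i) (coeff hπ ψ v) * coeff hπ φ v =
      coeff hπ ψ v * rMap (h ≫ i) (coeff hπ φ v) := fun ψ h => ext_pts fun x => by
    obtain ⟨c, hc⟩ := (hstab (h ≫ i)).mp ⟨h, rfl⟩
    simp only [map_mul, pfn_rMap', pfn_coeff, map_mul, LinearEquiv.mul_apply, hc, map_smul, smul_eq_mul]
    ring
  have hb : coeff hπ φ v ≠ 0 := fun e => one_ne_zero (α := k) (by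
    have := congrArg (pfn (1 : Rat G)) e
    rwa [pfn_coeff, map_zero, map_one, show (1 : V ≃ₗ[k] V) v = v from rfl, hφ] at this)
  refine (hstab g).mpr ⟨φ (π g v), sub_eq_zero.mp ((Module.forall_dual_apply_eq_zero_iff k _).mp fun ψ => ?_)⟩
  obtain ⟨a', b', ha', hb', hb0, e⟩ := hq _ _ hb (hinv ψ)
  have h1 : rMap g (coeff hπ ψ v) * coeff hπ φ v = coeff hπ ψ v * rMap g (coeff hπ φ v) := by
    refine mul_right_cancel₀ hb0 ?_
    have h2 := congrArg (rMap g) e
    rw [map_mul, map_mul, hg a' ha', hg b' hb'] at h2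
    linear_combination coeff hπ φ v * h2 - rMap g (coeff hπ φ v) * e
  have h3 := congrArg (pfn (1 : Rat G)) h1
  simp only [map_mul, pfn_rMap', pfn_coeff, _root_.one_mul, map_one, show (1 : V ≃ₗ[k] V) v = v from rfl, hφ,
    _root_.mul_one] at h3
  rw [map_sub, map_smul, smul_eq_mul, h3, _root_.mul_comm, sub_self]

end Groth.Agent.Obs28
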