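import Groth.Agent.Obs28.RadBasic
import Groth.Agent.Obs28.SolvObs
import Groth.Agent.GrpSchLib.NormalQuot
import Groth.Agent.GrpSchLib.ImageFactor
import Groth.Agent.GrpSchLib.SmoothQuot

/-! Normal connected subgroups without subtori of an affine group: joins and a largest one. -/

universe u

open CategoryTheory MonoidalCategory CartesianMonoidalCategory MonObj GrpObj AlgebraicGeometry

namespace Groth.Agent.Obs28.RadM

open GrpSchLib.Kunneth

set_option linter.unusedSectionVars false
set_option linter.style.haveILetI false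

variable {k : Type u} [Field k] [IsAlgClosed k] {G : Over (Spec (CommRingCat.of k))} [GrpObj G] [IsAffine G.left]
  [Smooth G.hom]

/-- A smooth connected normal closed subgroup without subtori. -/
structure IsUN {U : Over (Spec (CommRingCat.of k))} [GrpObj U] (u : U ⟶ G) : Prop where
  hom : IsMonHom u
  closed : IsClosedImmersion u.left
  smooth : Smooth U.hom
  connected : ConnectedSpace U.left
  normal : AlgGrp.IsNormalHom u
  noSub : Red.HasNoSubtorus k U

/-- Factorisation through closed subschemes may be tested on rational points. -/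
theorem fac_of_rat {X B C : Over (Spec (CommRingCat.of k))} [Smooth B.hom] (iB : B ⟶ X) (iC : C ⟶ X)
    [IsClosedImmersion iC.left] (h : ∀ x : Rat B, ∃ z : Rat C, z ≫ iC = x ≫ iB) : ∃ f : B ⟶ C, f ≫ iC = iB := by
  haveI : IsReduced B.left := GrpSchLib.isReduced_of_smooth_field B.hom
  exact GrpSchLib.exists_fac_of_points (K := k) iB iC h

/-- A smooth closed subgroup stable under conjugation by rational points is normal. -/
theorem isNormalHom_of_rat {W : Over (Spec (CommRingCat.of k))} [GrpObj W] [Smooth W.hom] (w : W ⟶ G) [IsMonHom w]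
    [IsClosedImmersion w.left] (h : ∀ (g : Rat G) (x : Rat W), ∃ y : Rat W, g * (x ≫ w) * g⁻¹ = y ≫ w) :
    AlgGrp.IsNormalHom w := by
  haveI : Smooth (G ⊗ W).hom := inferInstanceAs (Smooth (Limits.pullback.fst G.hom W.hom ≫ G.hom))
  obtain ⟨c, hc⟩ := fac_of_rat (fst G W * (snd G W ≫ w) * (fst G W)⁻¹) w fun z => by
    obtain ⟨y, hy⟩ := h (z ≫ fst G W) (z ≫ snd G W)
    exact ⟨y, by rw [← hy]; simp only [MonObj.comp_mul, GrpObj.comp_inv, Category.assoc]⟩
  intro T g n
  refine ⟨lift g n ≫ c, ?_⟩
  rw [Category.assoc, hc]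
  simp only [MonObj.comp_mul, GrpObj.comp_inv, lift_fst, lift_snd_assoc]

/-- A connected subgroup of a group lies in its identity component. -/
theorem range_subset_component {U : Over (Spec (CommRingCat.of k))} [GrpObj U] [ConnectedSpace U.left] (f : U ⟶ G)
    [IsMonHom f] : Set.range f.left ⊆ connectedComponent (η[G].left (IsLocalRing.closedPoint k)) := by
  refine (isConnected_range f.left.continuous).subset_connectedComponent
    ⟨η[U].left (IsLocalRing.closedPoint k), ?_⟩
  show (η[U] ≫ f).left (IsLocalRing.closedPoint k) = _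
  rw [IsMonHom.one_hom]

/-- A group whose rational points are products of points of connected subgroups is connected. -/
theorem connected_of_products {W A B : Over (Spec (CommRingCat.of k))} [GrpObj W] [GrpObj A] [GrpObj B]
    [IsAffine W.left] [Smooth W.hom] [ConnectedSpace A.left] [ConnectedSpace B.left] (a : A ⟶ W) [IsMonHom a]
    (b : B ⟶ W) [IsMonHom b] (h : ∀ w : Rat W, ∃ (x : Rat A) (y : Rat B), w = (x ≫ a) * (y ≫ b)) :
    ConnectedSpace W.left := by
  obtain ⟨W₀, _, j, hj, hjo, hjc, _, _, hW₀, hr⟩ := exists_open_identityComponent W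
  haveI := hj; haveI := hjo; haveI := hjc; haveI := hW₀
  have hall : ∀ w : Rat W, ptx w ∈ Set.range j.left := fun w => by
    obtain ⟨x, y, rfl⟩ := h w
    have hx : Mem j (x ≫ a) := (mem_iff_ptx j _).mpr (by rw [hr, ptx_comp]; exact range_subset_component a ⟨_, rfl⟩)
    have hy : Mem j (y ≫ b) := (mem_iff_ptx j _).mpr (by rw [hr, ptx_comp]; exact range_subset_component b ⟨_, rfl⟩)
    obtain ⟨x', hx'⟩ := hx
    obtain ⟨y', hy'⟩ := hy
    exact (mem_iff_ptx j _).mp ⟨x' * y', by rw [MonObj.mul_comp, hx', hy']⟩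
  haveI : Surjective j.left := ⟨fun z => by
    by_contra hz
    obtain ⟨w, hw⟩ := exists_rat (X := W) (Z := (Set.range j.left)ᶜ) ⟨z, hz⟩
      j.left.isOpenEmbedding.isOpen_range.isClosed_compl.isLocallyClosed
    exact hw (hall w)⟩
  exact j.left.surjective.connectedSpace j.left.continuous

/-- The reduced preimage of a closed subgroup, without connectedness hypotheses. -/
theorem exists_preimage {G Q : Over (Spec (CommRingCat.of k))} [GrpObj G] [GrpObj Q] [IsAffine G.left]
    [LocallyOfFiniteType G.hom] (q : G ⟶ Q) [IsMonHom q] {P' : Over (Spec (CommRingCat.of k))} [GrpObj P'] (iP' : P' ⟶ Q)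
    [IsMonHom iP'] [IsClosedImmersion iP'.left] :
    ∃ (P : Over (Spec (CommRingCat.of k))) (_ : GrpObj P) (iP : P ⟶ G) (p : P ⟶ P'), IsMonHom iP ∧
      IsClosedImmersion iP.left ∧ Smooth P.hom ∧ p ≫ iP' = iP ≫ q ∧ (Surjective q.left → Surjective p.left) ∧
      ∀ (T : Over (Spec (CommRingCat.of k))) [IsReduced T.left] (g : T ⟶ G) (t : T ⟶ P'),
        g ≫ q = t ≫ iP' → ∃ s : T ⟶ P, s ≫ iP = g := by
  let i := Limits.pullback.fst q iP'
  let r := Limits.pullback.snd q iP'
  have hw : i ≫ q = r ≫ iP' := Limits.pullback.condition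
  have hlift : ∀ {T : Over (Spec (CommRingCat.of k))} (g : T ⟶ G) (t : T ⟶ P'),
      g ≫ q = t ≫ iP' → ∃ h : T ⟶ Limits.pullback q iP', h ≫ i = g := fun g t h =>
    ⟨Limits.pullback.lift g t h, Limits.pullback.lift_fst _ _ _⟩
  let P := Limits.pullback q iP'
  obtain ⟨η', he⟩ := hlift η[G] η[P'] (by rw [IsMonHom.one_hom q, IsMonHom.one_hom iP'])
  obtain ⟨μ', hm⟩ := hlift ((fst P P ≫ i) * (snd P P ≫ i)) ((fst P P ≫ r) * (snd P P ≫ r)) (by
    simp only [MonObj.mul_comp, Category.assoc, hw])
  obtain ⟨ι', hv⟩ := hlift i⁻¹ r⁻¹ (by simp only [GrpObj.inv_comp, hw])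
  have : Mono iP'.left := inferInstance
  have : Mono iP' := Over.mono_of_mono_left iP'
  have : Mono i := inferInstanceAs (Mono (Limits.pullback.fst q iP'))
  obtain ⟨str, hi⟩ := GrpSchLib.exists_grpObj_of_mono i η' he μ' hm ι' hv
  letI := str
  haveI := hi
  have hsq := (IsPullback.of_hasPullback q iP').map (Over.forget _)
  have hic : IsClosedImmersion i.left :=
    MorphismProperty.of_isPullback (P := @IsClosedImmersion) hsq.flip ‹_›
  have : LocallyOfFiniteType (Limits.pullback q iP').hom := by rw [← Over.w i]; infer_instance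
  have : QuasiCompact (Limits.pullback q iP').hom := by rw [← Over.w i]; infer_instance
  obtain ⟨R, _, j, _, _, hred, hjs, hl, -⟩ := GrpSchLib.RedSubgroup.exists_redSubgroup (Limits.pullback q iP')
  have := hred
  have := hl
  have : IsClosedImmersion (j ≫ i).left := by rw [Over.comp_left]; infer_instance
  refine ⟨R, inferInstance, j ≫ i, j ≫ r, inferInstance, inferInstance,
    GrpSchLib.smooth_of_isReduced_of_isAlgClosed R, by rw [Category.assoc, Category.assoc, hw], fun hqs => ?_,
    fun T _ g t hgt => ?_⟩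
  · have : Surjective r.left := MorphismProperty.of_isPullback (P := @Surjective) hsq hqs
    have := hjs
    rw [Over.comp_left]
    infer_instance
  · let h : T ⟶ Limits.pullback q iP' := Limits.pullback.lift g t hgt
    let c := Limits.pullback.fst h.left j.left
    have : Surjective c := by
      have := hjs
      exact MorphismProperty.of_isPullback (P := @Surjective) (IsPullback.of_hasPullback h.left j.left).flip ‹_›
    have := isIso_of_isClosedImmersion_of_surjective c
    let s := inv c ≫ Limits.pullback.snd h.left j.left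
    have hs : s ≫ j.left = h.left := by
      rw [Category.assoc, ← Limits.pullback.condition, IsIso.inv_hom_id_assoc]
    refine ⟨Over.homMk s (by rw [← Over.w j, ← Category.assoc, hs, Over.w h]), ?_⟩
    have e : (Over.homMk s (by rw [← Over.w j, ← Category.assoc, hs, Over.w h]) : T ⟶ R) ≫ j = h :=
      Over.OverMorphism.ext hs
    rw [← Category.assoc, e]
    exact Limits.pullback.lift_fst _ _ _

/-- Two normal connected subgroups without subtori lie in a third one. -/
theorem exists_join {U₁ U₂ : Over (Spec (CommRingCat.of k))} [GrpObj U₁] [GrpObj U₂] {u₁ : U₁ ⟶ G} {u₂ : U₂ ⟶ G}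
    (h₁ : IsUN u₁) (h₂ : IsUN u₂) :
    ∃ (W : Over (Spec (CommRingCat.of k))) (_ : GrpObj W) (w : W ⟶ G), IsUN w ∧
      (∃ f : U₁ ⟶ W, f ≫ w = u₁) ∧ ∃ f : U₂ ⟶ W, f ≫ w = u₂ := by
  haveI := h₁.hom; haveI := h₁.closed; haveI := h₁.smooth; haveI := h₁.connected
  haveI := h₂.hom; haveI := h₂.closed; haveI := h₂.smooth; haveI := h₂.connected
  haveI : IsAffine U₁.left := isAffine_of_closed u₁
  haveI : IsAffine U₂.left := isAffine_of_closed u₂
  obtain ⟨Q, _, q, hq, hQa, hQf, hqf, hqs, hqk⟩ := GrpSchLib.NormalQuot.exists_quot G U₁ u₁ h₁.normal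
  haveI := hq; haveI := hQa; haveI := hQf; haveI := hqf; haveI := hqs
  haveI : Smooth (q.left ≫ Q.hom) := by rw [Over.w q]; infer_instance
  haveI : Smooth Q.hom := GrpSchLib.smooth_of_flat_surjective q.left Q.hom
  haveI : QuasiCompact U₂.hom := inferInstance
  haveI : QuasiCompact Q.hom := inferInstance
  obtain ⟨I, _, p, i, hp, hi, hpi, hic, hpf, hps, hIl, -⟩ := GrpSchLib.ImageFactor.exists_image (u₂ ≫ q)
  haveI := hp; haveI := hi; haveI := hic; haveI := hpf; haveI := hps; haveI := hIl
  haveI : IsAffine I.left := isAffine_of_closed i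
  haveI : Smooth (p.left ≫ I.hom) := by rw [Over.w p]; infer_instance
  haveI : Smooth I.hom := GrpSchLib.smooth_of_flat_surjective p.left I.hom
  obtain ⟨W, _, w, c, hw, hwc, hWs, hcw, -, huniv⟩ := exists_preimage q i
  haveI := hw; haveI := hwc; haveI := hWs
  haveI : IsAffine W.left := isAffine_of_closed w
  haveI : Mono i.left := inferInstance
  haveI : Mono i := Over.mono_of_mono_left i
  haveI : Mono w.left := inferInstance
  haveI : Mono w := Over.mono_of_mono_left w
  haveI : Mono u₁.left := inferInstance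
  haveI : Mono u₁ := Over.mono_of_mono_left u₁
  haveI : IsMonHom (c ≫ i) := by rw [hcw]; infer_instance
  haveI : IsMonHom c := RedSub30.isMonHom_of_mono i c
  haveI : IsReduced U₁.left := isReduced_grp U₁
  haveI : IsReduced U₂.left := isReduced_grp U₂
  haveI : IsReduced (VecGrp.pt k k).left := inferInstanceAs (IsReduced (Spec (CommRingCat.of k)))
  have hk1 : u₁ ≫ q = 1 := by
    rw [hqk.w, Hom.one_def]
  obtain ⟨f₁, hf₁⟩ := huniv U₁ u₁ 1 (by rw [hk1, MonObj.one_comp])
  obtain ⟨f₂, hf₂⟩ := huniv U₂ u₂ p hpi.symm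
  haveI : IsMonHom (f₁ ≫ w) := by rw [hf₁]; infer_instance
  haveI : IsMonHom (f₂ ≫ w) := by rw [hf₂]; infer_instance
  haveI : IsMonHom f₁ := RedSub30.isMonHom_of_mono w f₁
  haveI : IsMonHom f₂ := RedSub30.isMonHom_of_mono w f₂
  have hker : ∀ {T : Over (Spec (CommRingCat.of k))} (x : T ⟶ W), x ≫ c = 1 → ∃ y : T ⟶ U₁, y ≫ f₁ = x := by
    intro T x hx
    have h0 : (x ≫ w) ≫ q = toUnit T ≫ η[Q] := by
      rw [Category.assoc, ← hcw, ← Category.assoc, hx, MonObj.one_comp, Hom.one_def]
    exact ⟨hqk.lift (x ≫ w) (toUnit T) h0, by rw [← cancel_mono w, Category.assoc, hf₁, hqk.lift_fst]⟩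
  haveI : ConnectedSpace W.left := connected_of_products f₁ f₂ fun x => by
    obtain ⟨y, hy⟩ := exists_rat_over p (x ≫ c)
    obtain ⟨z, hz⟩ := hker (x * (y ≫ f₂)⁻¹) (by
      rw [MonObj.mul_comp, GrpObj.inv_comp, Category.assoc, show f₂ ≫ c = p from by
        rw [← cancel_mono i, Category.assoc, hcw, ← Category.assoc, hf₂, hpi], hy, mul_inv_cancel])
    exact ⟨z, y, by rw [hz, inv_mul_cancel_right]⟩
  have hIn : Red.HasNoSubtorus k I := hasNoSubtorus_image h₂.noSub p
  haveI : Mono f₁ := by
    haveI : Mono (f₁ ≫ w) := by rw [hf₁]; infer_instance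
    exact mono_of_mono f₁ w
  refine ⟨W, inferInstance, w, ⟨hw, hwc, hWs, inferInstance, isNormalHom_of_rat w fun g x => ?_,
    hasNoSubtorus_ext f₁ c h₁.noSub hIn hker⟩, ⟨f₁, hf₁⟩, f₂, hf₂⟩
  obtain ⟨y, hy⟩ := exists_rat_over p (x ≫ c)
  obtain ⟨y', hy'⟩ := h₂.normal _ g y
  obtain ⟨z, hz⟩ := huniv (VecGrp.pt k k) (g * (x ≫ w) * g⁻¹) (y' ≫ p) (by
    rw [Category.assoc, hpi, ← Category.assoc y', ← hy', MonObj.mul_comp, MonObj.mul_comp, GrpObj.inv_comp,
      MonObj.mul_comp, MonObj.mul_comp, GrpObj.inv_comp, Category.assoc x, ← hcw, ← Category.assoc x, ← hy,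
      Category.assoc y p i, hpi, ← Category.assoc y u₂ q])
  exact ⟨z, hz.symm⟩

/-- The trivial subgroup. -/
theorem isUN_one : IsUN (η[G] : 𝟙_ (Over (Spec (CommRingCat.of k))) ⟶ G) := by
  haveI : IsSeparated G.hom := (qc_grp G).2
  haveI : IsReduced (𝟙_ (Over (Spec (CommRingCat.of k)))).left := inferInstanceAs (IsReduced (Spec (CommRingCat.of k)))
  haveI hs : Smooth (𝟙_ (Over (Spec (CommRingCat.of k)))).hom := inferInstanceAs (Smooth (𝟙 (Spec (CommRingCat.of k))))
  haveI hc : IsClosedImmersion (η[G] : 𝟙_ (Over (Spec (CommRingCat.of k))) ⟶ G).left := by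
    haveI : IsClosedImmersion ((η[G] : 𝟙_ (Over (Spec (CommRingCat.of k))) ⟶ G).left ≫ G.hom) := by
      rw [Over.w η[G]]
      exact inferInstanceAs (IsClosedImmersion (𝟙 (Spec (CommRingCat.of k))))
    exact IsClosedImmersion.of_comp _ G.hom
  have hm : IsMonHom (η[G] : 𝟙_ (Over (Spec (CommRingCat.of k))) ⟶ G) :=
    { one_hom := by rw [toUnit_unique η[𝟙_ (Over (Spec (CommRingCat.of k)))] (𝟙 _), Category.id_comp]
      mul_hom := by
        rw [show (μ[𝟙_ (Over (Spec (CommRingCat.of k)))]) = toUnit _ from toUnit_unique _ _,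
          show μ[G] = fst G G * snd G G by rw [Hom.mul_def, lift_fst_snd, Category.id_comp], MonObj.comp_mul,
          tensorHom_fst, tensorHom_snd, toUnit_unique (fst _ _) (toUnit _), toUnit_unique (snd _ _) (toUnit _),
          ← Hom.one_def, _root_.mul_one] }
  refine ⟨hm, hc, hs, inferInstanceAs (ConnectedSpace (Spec (CommRingCat.of k))), fun T g n => ⟨n, ?_⟩, ?_⟩
  · rw [toUnit_unique n (toUnit T), ← Hom.one_def, _root_.mul_one, mul_inv_cancel]
  · intro T _ j _ _ _
    have e : j = toUnit T := toUnit_unique _ _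
    have hT : (𝟙 T : T ⟶ T) = toUnit T ≫ η[T] := by
      rw [← cancel_mono j]
      exact toUnit_unique _ _
    exact ⟨η[T].left, (congrArg CommaMorphism.left hT).symm, Over.w η[T]⟩

/-- There is a largest normal connected subgroup without subtori. -/
theorem exists_max :
    ∃ (R : Over (Spec (CommRingCat.of k))) (_ : GrpObj R) (r : R ⟶ G), IsUN r ∧
      ∀ (U : Over (Spec (CommRingCat.of k))) [GrpObj U] (u : U ⟶ G), IsUN u → ∃ f : U ⟶ R, f ≫ r = u := by
  by_contra hne
  push Not at hne
  have hirr : ∀ {U : Over (Spec (CommRingCat.of k))} [GrpObj U] {u : U ⟶ G}, IsUN u →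
      IsIrreducible (Set.range u.left) ∧ IsClosed (Set.range u.left) := fun {U} _ u hu => by
    haveI := hu.hom; haveI := hu.closed; haveI := hu.smooth; haveI := hu.connected
    haveI : IsAffine U.left := isAffine_of_closed u
    haveI : IsIntegral U.left := Unip.isIntegral_grp
    rw [← Set.image_univ]
    exact ⟨(IrreducibleSpace.isIrreducible_univ _).image _ u.left.continuous.continuousOn,
      by rw [Set.image_univ]; exact u.left.isClosedEmbedding.isClosed_range⟩
  let rg : ∀ {U : Over (Spec (CommRingCat.of k))} [GrpObj U] {u : U ⟶ G}, IsUN u →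
      TopologicalSpace.IrreducibleCloseds G.left := fun {U} _ u hu => ⟨_, (hirr hu).1, (hirr hu).2⟩
  have hser : ∀ n : ℕ, ∃ (l : LTSeries (TopologicalSpace.IrreducibleCloseds G.left))
      (U : Over (Spec (CommRingCat.of k))) (_ : GrpObj U) (u : U ⟶ G) (hu : IsUN u), l.length = n ∧ l.last = rg hu := by
    intro n
    induction n with
    | zero => exact ⟨RelSeries.singleton _ (rg isUN_one), _, inferInstance, _, isUN_one, rfl, rfl⟩
    | succ n ih =>
      obtain ⟨l, U, _, u, hu, hl, hlast⟩ := ih
      obtain ⟨V, _, v, hv, hvf⟩ := hne U inferInstance u hu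
      obtain ⟨W, _, w, hw, ⟨f₁, hf₁⟩, f₂, hf₂⟩ := exists_join hu hv
      have hlt : rg hu < rg hw := by
        refine lt_of_le_of_ne (fun x hx => ?_) fun heq => ?_
        · obtain ⟨y, rfl⟩ := hx
          exact ⟨f₁.left y, by rw [← Scheme.Hom.comp_apply, ← Over.comp_left, hf₁]⟩
        · haveI := hu.closed; haveI := hw.closed; haveI := hw.smooth
          haveI : IsClosedImmersion (f₁.left ≫ w.left) := by rw [← Over.comp_left, hf₁]; infer_instance
          haveI : IsClosedImmersion f₁.left := IsClosedImmersion.of_comp f₁.left w.left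
          haveI : Surjective f₁.left := ⟨fun y => by
            obtain ⟨x, hx⟩ : w.left y ∈ Set.range u.left :=
              (congrArg (fun S : TopologicalSpace.IrreducibleCloseds G.left => (S : Set G.left)) heq).ge ⟨y, rfl⟩
            exact ⟨x, w.left.isClosedEmbedding.injective
              (by rw [← Scheme.Hom.comp_apply, ← Over.comp_left, hf₁, hx])⟩⟩
          haveI : IsReduced W.left := GrpSchLib.isReduced_of_smooth_field W.hom
          haveI := isIso_of_isClosedImmersion_of_surjective f₁.left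
          haveI : IsIso ((Over.forget _).map f₁) := ‹IsIso f₁.left›
          haveI : IsIso f₁ := isIso_of_reflects_iso f₁ (Over.forget _)
          exact hvf (f₂ ≫ inv f₁) (by rw [Category.assoc, ← hf₁, IsIso.inv_hom_id_assoc, hf₂])
      exact ⟨l.snoc (rg hw) (hlast ▸ hlt), W, inferInstance, w, hw,
        by rw [RelSeries.snoc_length, hl], RelSeries.last_snoc _ _ _⟩
  haveI := finiteType_fn G
  have hdim : topologicalKrullDim G.left < ⊤ := by
    rw [IsHomeomorph.topologicalKrullDim_eq _ (Scheme.homeoOfIso G.left.isoSpec).isHomeomorph,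
      show topologicalKrullDim ↥(Spec Γ(G.left, ⊤)) = ringKrullDim (Fn G) from
        PrimeSpectrum.topologicalKrullDim_eq_ringKrullDim _]
    obtain ⟨n, f, hf⟩ := Algebra.FiniteType.iff_quotient_mvPolynomial''.mp
      (inferInstance : Algebra.FiniteType k (Fn G))
    refine lt_of_le_of_lt (ringKrullDim_le_of_surjective f.toRingHom hf) ?_
    rw [MvPolynomial.ringKrullDim_of_isNoetherianRing, ringKrullDim_eq_zero_of_field, zero_add]
    exact WithBot.coe_lt_coe.2 (WithTop.coe_lt_top _)
  obtain ⟨N, hN⟩ : ∃ N : ℕ, topologicalKrullDim G.left < (N : WithBot ℕ∞) := by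
    generalize topologicalKrullDim G.left = d at hdim ⊢
    induction d with
    | bot => exact ⟨0, WithBot.bot_lt_coe _⟩
    | coe d =>
      induction d with
      | top => exact absurd hdim (lt_irrefl _)
      | coe d => exact ⟨d + 1, by exact_mod_cast Nat.lt_succ_self d⟩
  obtain ⟨l, U, _, u, hu, hl, -⟩ := hser N
  have := Order.LTSeries.length_le_krullDim l
  rw [hl] at this
  exact (lt_irrefl _) (lt_of_le_of_lt this hN)

end Groth.Agent.Obs28.RadM
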