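import Groth.Agent.Obs28.RadJoin

/-! Unipotent radicals as largest normal connected subgroups without subtori; identity components. -/

universe u

open CategoryTheory MonoidalCategory CartesianMonoidalCategory MonObj GrpObj AlgebraicGeometry

namespace Groth.Agent.Obs28.RadM

open GrpSchLib.Kunneth

set_option linter.unusedSectionVars false
set_option linter.style.haveILetI false

variable {k : Type u} [Field k] [IsAlgClosed k]

/-- The geometric fibre of a group without subtori has no subtori. -/
theorem hasNoSubtorus_geomFibre {U : Over (Spec (CommRingCat.of k))} [GrpObj U] (hU : Red.HasNoSubtorus k U)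
    (s : Spec (CommRingCat.of k)) :
    Red.HasNoSubtorus (AlgebraicClosure ((Spec (CommRingCat.of k)).residueField s)) (Red.geomFibre s U) := by
  intro T _ j _ _ hT
  haveI := isIso_geomPt s
  let g := Red.geomPt s
  let h := inv g
  obtain ⟨e1⟩ := GrpSchLib.MultTypeBC.bc_bc h g U
  obtain ⟨e2⟩ := GrpSchLib.MultTypeBC.bc_congr (IsIso.inv_hom_id g) U
  obtain ⟨e3⟩ := AGFRoot.bc_id U
  let e := e1 ≪≫ e2 ≪≫ e3
  haveI : IsMonHom e.hom.hom.hom := e.hom.hom.isMonHom_hom
  let e' : Red.bc h (Red.geomFibre s U) ≅ U := (Grp.forget _).mapIso e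
  haveI : IsMonHom e'.hom := e.hom.hom.isMonHom_hom
  haveI : Mono ((Over.pullback h).map j) := inferInstance
  haveI hiso : IsIso (Red.bc h T).hom :=
    hU (Red.bc h T) ((Over.pullback h).map j ≫ e'.hom) (RedSub30.TorusAbsorb.isTorus_bc h hT)
  haveI : IsIso (Limits.pullback.snd T.hom h) := hiso
  haveI : IsIso (Limits.pullback.fst T.hom h) := inferInstance
  haveI : IsIso (Limits.pullback.fst T.hom h ≫ T.hom) := by rw [Limits.pullback.condition]; infer_instance
  exact IsIso.of_isIso_comp_left (Limits.pullback.fst T.hom h) T.hom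

theorem connected_geomFibre {U : Over (Spec (CommRingCat.of k))} [ConnectedSpace U.left] (s : Spec (CommRingCat.of k)) :
    ConnectedSpace (Red.geomFibre s U).left := by
  haveI := isIso_geomPt s
  let f : (Red.geomFibre s U).left ⟶ U.left := Limits.pullback.fst U.hom (Red.geomPt s)
  haveI : IsIso f := inferInstanceAs (IsIso (Limits.pullback.fst U.hom (Red.geomPt s)))
  exact (Scheme.homeoOfIso (asIso f)).connectedSpace_iff.mpr ‹_›

variable {G : Over (Spec (CommRingCat.of k))} [GrpObj G] [IsAffine G.left] [Smooth G.hom]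

theorem isUN_of_isUnipotentRadical {U : Over (Spec (CommRingCat.of k))} [GrpObj U] {u : U ⟶ G}
    (h : Par.IsUnipotentRadical u) : IsUN u := by
  obtain ⟨h1, h2, h3, h4, h5⟩ := unipRad_facts h
  exact ⟨h1, h2, h3, h4, h.2.2.1, h5⟩

/-- A unipotent radical contains all smooth connected normal subgroups without subtori. -/
theorem le_of_isUnipotentRadical {U V : Over (Spec (CommRingCat.of k))} [GrpObj U] [GrpObj V] {u : U ⟶ G} {v : V ⟶ G}
    (h : Par.IsUnipotentRadical u) (hv : IsUN v) : ∃ f : V ⟶ U, f ≫ u = v := by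
  haveI := hv.hom; haveI := hv.closed; haveI := hv.smooth; haveI := hv.connected
  haveI : IsAffine V.left := isAffine_of_closed v
  exact h.2.2.2.2.2.2 V v hv.closed hv.normal hv.smooth (qc_grp V).1 fun s =>
    ⟨connected_geomFibre s, hasNoSubtorus_geomFibre hv.noSub s⟩

/-- A largest such subgroup is a unipotent radical. -/
theorem isUnipotentRadical_of_max {R : Over (Spec (CommRingCat.of k))} [GrpObj R] {r : R ⟶ G} (hr : IsUN r)
    (hmax : ∀ (U : Over (Spec (CommRingCat.of k))) [GrpObj U] (u : U ⟶ G), IsUN u → ∃ f : U ⟶ R, f ≫ r = u) :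
    Par.IsUnipotentRadical r := by
  haveI := hr.hom; haveI := hr.closed; haveI := hr.smooth; haveI := hr.connected
  haveI : IsAffine R.left := isAffine_of_closed r
  refine ⟨hr.hom, hr.closed, hr.normal, hr.smooth, (qc_grp R).1,
    fun s => ⟨connected_geomFibre s, hasNoSubtorus_geomFibre hr.noSub s⟩, fun U' _ u' _ hc hn hs _ hg => ?_⟩
  exact hmax U' u' ⟨‹_›, hc, hs, connected_of_geomFibre fun s => (hg s).1, hn,
    hasNoSubtorus_of_geomFibre fun s => (hg s).2⟩

/-- Conjugation by a rational point, after a homomorphism, is a homomorphism. -/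
theorem isMonHom_conj {A : Over (Spec (CommRingCat.of k))} [GrpObj A] (g : Rat G) (f : A ⟶ G) [IsMonHom f] :
    IsMonHom (cst g * f * (cst g)⁻¹) :=
  GrpSchLib.RankOne.isMonHom_of_comp _ fun Y a b => by
    simp only [MonObj.comp_mul, GrpObj.comp_inv, comp_cst, MonObj.mul_comp]
    group

/-- A homomorphism from a connected group factors through an open connected subgroup. -/
theorem fac_component {A K : Over (Spec (CommRingCat.of k))} [GrpObj A] [GrpObj K] [ConnectedSpace A.left]
    (j : K ⟶ G) [IsMonHom j] [IsOpenImmersion j.left] (f : A ⟶ G) [IsMonHom f] : ∃ f' : A ⟶ K, f' ≫ j = f := by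
  haveI := isClosedImmersion_of_open j
  have hj : connectedComponent (η[G].left (IsLocalRing.closedPoint k)) ⊆ Set.range j.left :=
    IsClopen.connectedComponent_subset ⟨j.left.isClosedEmbedding.isClosed_range,
      j.left.isOpenEmbedding.isOpen_range⟩ ⟨η[K].left (IsLocalRing.closedPoint k), by
        show (η[K] ≫ j).left (IsLocalRing.closedPoint k) = _
        rw [IsMonHom.one_hom]⟩
  have hr : Set.range f.left ⊆ Set.range j.left := (range_subset_component f).trans hj
  exact ⟨Over.homMk (IsOpenImmersion.lift j.left f.left hr) (by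
      rw [← Over.w j, IsOpenImmersion.lift_fac_assoc, Over.w f]),
    Over.OverMorphism.ext (IsOpenImmersion.lift_fac _ _ _)⟩

/-- The largest such subgroup of an open connected subgroup is normal in the whole group. -/
theorem isUN_comp {K R : Over (Spec (CommRingCat.of k))} [GrpObj K] [GrpObj R] [ConnectedSpace K.left]
    [IsAffine K.left] [Smooth K.hom] (j : K ⟶ G) [IsMonHom j] [IsOpenImmersion j.left] {r : R ⟶ K} (hr : IsUN r)
    (hmax : ∀ (U : Over (Spec (CommRingCat.of k))) [GrpObj U] (u : U ⟶ K), IsUN u → ∃ f : U ⟶ R, f ≫ r = u) :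
    IsUN (r ≫ j) := by
  haveI := hr.hom; haveI := hr.closed; haveI := hr.smooth; haveI := hr.connected
  haveI := isClosedImmersion_of_open j
  haveI : Mono j.left := inferInstance
  haveI : Mono j := Over.mono_of_mono_left j
  haveI hcl : IsClosedImmersion (r ≫ j).left := by rw [Over.comp_left]; infer_instance
  refine ⟨inferInstance, hcl, hr.smooth, hr.connected, isNormalHom_of_rat _ fun g x => ?_, hr.noSub⟩
  haveI := isMonHom_conj g (r ≫ j)
  obtain ⟨v, hv⟩ := fac_component j (cst g * (r ≫ j) * (cst g)⁻¹)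
  haveI : IsMonHom (v ≫ j) := by rw [hv]; infer_instance
  haveI : IsMonHom v := RedSub30.isMonHom_of_mono j v
  have hvc : IsClosedImmersion v.left := by
    haveI : IsClosedImmersion (v.left ≫ j.left) := by
      let τ : Rat G → (G ⟶ G) := fun a => cst a * 𝟙 G * (cst a)⁻¹
      have hinv : ∀ a : Rat G, τ a ≫ τ a⁻¹ = 𝟙 G := fun a => by
        simp only [τ, MonObj.comp_mul, GrpObj.comp_inv, comp_cst, Category.comp_id]
        rw [show (cst a⁻¹ : G ⟶ G) = (cst a)⁻¹ from eq_inv_of_mul_eq_one_left (by
          rw [← cst_mul, inv_mul_cancel, cst_one])]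
        group
      haveI : IsIso (τ g) := ⟨⟨τ g⁻¹, hinv g, by simpa using hinv g⁻¹⟩⟩
      haveI : IsIso (τ g).left := inferInstanceAs (IsIso ((Over.forget _).map (τ g)))
      have e : cst g * (r ≫ j) * (cst g)⁻¹ = (r ≫ j) ≫ τ g := by
        simp only [τ, MonObj.comp_mul, GrpObj.comp_inv, comp_cst, Category.comp_id]
      rw [← Over.comp_left, hv, e, Over.comp_left]
      infer_instance
    exact IsClosedImmersion.of_comp v.left j.left
  have hvn : AlgGrp.IsNormalHom v := by
    haveI := hvc
    refine isNormalHom_of_rat v fun a y => ?_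
    haveI := isMonHom_conj g⁻¹ j
    obtain ⟨c, hc⟩ := fac_component j (cst g⁻¹ * j * (cst g⁻¹)⁻¹)
    obtain ⟨y', hy'⟩ := hr.normal _ (a ≫ c) y
    refine ⟨y', (cancel_mono j).mp ?_⟩
    have hc' : (a ≫ c) ≫ j = g⁻¹ * (a ≫ j) * g := by
      rw [Category.assoc, hc]
      simp only [MonObj.comp_mul, GrpObj.comp_inv, comp_cst, cst_pt, _root_.inv_inv]
    have h2 := congrArg (· ≫ j) hy'
    simp only [MonObj.mul_comp, GrpObj.inv_comp, hc', Category.assoc] at h2
    simp only [MonObj.mul_comp, GrpObj.inv_comp, Category.assoc, hv]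
    simp only [MonObj.comp_mul, GrpObj.comp_inv, comp_cst, cst_pt, ← h2]
    group
  obtain ⟨f, hf⟩ := hmax R v ⟨‹_›, hvc, hr.smooth, hr.connected, hvn, hr.noSub⟩
  refine ⟨x ≫ f, ?_⟩
  rw [Category.assoc, ← Category.assoc f, hf, hv]
  simp only [MonObj.comp_mul, GrpObj.comp_inv, comp_cst, cst_pt]

/-- The largest such subgroup of a normal subgroup is normal in the whole group. -/
theorem isUN_comp_normal {K R : Over (Spec (CommRingCat.of k))} [GrpObj K] [GrpObj R]
    [IsAffine K.left] [Smooth K.hom] (j : K ⟶ G) [IsMonHom j] [IsClosedImmersion j.left] (hjn : AlgGrp.IsNormalHom j)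
    {r : R ⟶ K} (hr : IsUN r)
    (hmax : ∀ (U : Over (Spec (CommRingCat.of k))) [GrpObj U] (u : U ⟶ K), IsUN u → ∃ f : U ⟶ R, f ≫ r = u) :
    IsUN (r ≫ j) := by
  haveI := hr.hom; haveI := hr.closed; haveI := hr.smooth; haveI := hr.connected
  haveI : Mono j.left := inferInstance
  haveI : Mono j := Over.mono_of_mono_left j
  haveI hcl : IsClosedImmersion (r ≫ j).left := by rw [Over.comp_left]; infer_instance
  refine ⟨inferInstance, hcl, hr.smooth, hr.connected, isNormalHom_of_rat _ fun g x => ?_, hr.noSub⟩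
  obtain ⟨v, hv⟩ := hjn R (cst g) r
  haveI := isMonHom_conj g (r ≫ j)
  haveI : IsMonHom (v ≫ j) := by rw [← hv]; infer_instance
  haveI : IsMonHom v := RedSub30.isMonHom_of_mono j v
  have hvc : IsClosedImmersion v.left := by
    haveI : IsClosedImmersion (v.left ≫ j.left) := by
      let τ : Rat G → (G ⟶ G) := fun a => cst a * 𝟙 G * (cst a)⁻¹
      have hinv : ∀ a : Rat G, τ a ≫ τ a⁻¹ = 𝟙 G := fun a => by
        simp only [τ, MonObj.comp_mul, GrpObj.comp_inv, comp_cst, Category.comp_id]
        rw [show (cst a⁻¹ : G ⟶ G) = (cst a)⁻¹ from eq_inv_of_mul_eq_one_left (by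
          rw [← cst_mul, inv_mul_cancel, cst_one])]
        group
      haveI : IsIso (τ g) := ⟨⟨τ g⁻¹, hinv g, by simpa using hinv g⁻¹⟩⟩
      haveI : IsIso (τ g).left := inferInstanceAs (IsIso ((Over.forget _).map (τ g)))
      have e : cst g * (r ≫ j) * (cst g)⁻¹ = (r ≫ j) ≫ τ g := by
        simp only [τ, MonObj.comp_mul, GrpObj.comp_inv, comp_cst, Category.comp_id]
      rw [← Over.comp_left, ← hv, e, Over.comp_left]
      infer_instance
    exact IsClosedImmersion.of_comp v.left j.left
  have hvn : AlgGrp.IsNormalHom v := by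
    haveI := hvc
    refine isNormalHom_of_rat v fun a y => ?_
    obtain ⟨c, hc⟩ := hjn _ g⁻¹ a
    obtain ⟨y', hy'⟩ := hr.normal _ c y
    refine ⟨y', (cancel_mono j).mp ?_⟩
    have h2 := congrArg (· ≫ j) hy'
    simp only [MonObj.mul_comp, GrpObj.inv_comp, Category.assoc, ← hc] at h2
    simp only [MonObj.mul_comp, GrpObj.inv_comp, Category.assoc, ← hv]
    simp only [MonObj.comp_mul, GrpObj.comp_inv, comp_cst, cst_pt, ← h2]
    group
  obtain ⟨f, hf⟩ := hmax R v ⟨‹_›, hvc, hr.smooth, hr.connected, hvn, hr.noSub⟩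
  refine ⟨x ≫ f, ?_⟩
  rw [Category.assoc, ← Category.assoc f, hf, ← hv]
  simp only [MonObj.comp_mul, GrpObj.comp_inv, comp_cst, cst_pt]

/-- The unipotent radical of an open connected subgroup is that of the whole group. -/
theorem isUnipotentRadical_comp {K R : Over (Spec (CommRingCat.of k))} [GrpObj K] [GrpObj R] [ConnectedSpace K.left]
    [IsAffine K.left] [Smooth K.hom] (j : K ⟶ G) [IsMonHom j] [IsOpenImmersion j.left] {r : R ⟶ K}
    (h : Par.IsUnipotentRadical r) : Par.IsUnipotentRadical (r ≫ j) := by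
  have hr := isUN_of_isUnipotentRadical h
  refine isUnipotentRadical_of_max (isUN_comp j hr fun U _ u hu => le_of_isUnipotentRadical h hu) fun U _ u hu => ?_
  haveI := hu.hom; haveI := hu.closed; haveI := hu.connected
  haveI : Mono j.left := inferInstance
  haveI : Mono j := Over.mono_of_mono_left j
  obtain ⟨v, hv⟩ := fac_component j u
  haveI : IsMonHom (v ≫ j) := by rw [hv]; infer_instance
  have hvc : IsClosedImmersion v.left := by
    haveI : IsClosedImmersion (v.left ≫ j.left) := by rw [← Over.comp_left, hv]; infer_instance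
    exact IsClosedImmersion.of_comp v.left j.left
  have hvn : AlgGrp.IsNormalHom v := fun T a n => by
    obtain ⟨n', hn'⟩ := hu.normal T (a ≫ j) n
    refine ⟨n', (cancel_mono j).mp ?_⟩
    rw [MonObj.mul_comp, MonObj.mul_comp, GrpObj.inv_comp, Category.assoc, hv, Category.assoc, hv]
    exact hn'
  obtain ⟨f, hf⟩ := le_of_isUnipotentRadical h (v := v)
    ⟨RedSub30.isMonHom_of_mono j v, hvc, hu.smooth, hu.connected, hvn, hu.noSub⟩
  exact ⟨f, by rw [← Category.assoc, hf, hv]⟩

end Groth.Agent.Obs28.RadM
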