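import Groth.Agent.Obs28.SolvRadical
import Groth.Agent.Obs28.Criterion
import Groth.Agent.Obs28.Homog
import Groth.Agent.GrpSchLib.NormalQuot
import Groth.Agent.GrpSchLib.SmoothQuot
import Groth.Agent.Obs28.SolvObs

/-! Observability of a subgroup and of its radical. -/

universe u

open CategoryTheory MonoidalCategory CartesianMonoidalCategory MonObj GrpObj AlgebraicGeometry
open scoped TensorProduct

namespace Groth.Agent.Obs28.TorW

open GrpSchLib.Kunneth

set_option linter.unusedSectionVars false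
set_option linter.style.haveILetI false

variable {k : Type u} [Field k] [IsAlgClosed k] {G H R : Over (Spec (CommRingCat.of k))} [GrpObj G] [GrpObj H] [GrpObj R]
  [IsAffine G.left] [Smooth G.hom] [IsAffine H.left] [Smooth H.hom]

/-- A stable subspace gives a line on which scalar operators act by the power of the scalar. -/
theorem exists_det_line {M : Type u} [AddCommGroup M] [Module k M]
    {π : Rat G →* (M ≃ₗ[k] M)} (hπ : IsRegular π) (U : Submodule k M) [Module.Finite k U] :
    ∃ (V : Type u) (_ : AddCommGroup V) (_ : Module k V)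
      (π' : Rat G →* (V ≃ₗ[k] V)) (_ : IsRegular π') (v : V), v ≠ 0 ∧
        (∀ g, (∀ x ∈ U, π g x ∈ U) → ∃ c : k, π' g v = c • v) ∧
        ∀ g (c : k), (∀ x ∈ U, π g x = c • x) → π' g v = c ^ Module.finrank k U • v := by
  classical
  let b := Module.finBasis k U
  let bM : Fin (Module.finrank k U) → M := fun j => (b j : M)
  have hbM : LinearIndependent k bM := b.linearIndependent.map' U.subtype U.ker_subtype
  let ω := ExteriorAlgebra.ιMulti k (Module.finrank k U) bM
  have hω : ω ≠ 0 := ιMulti_ne_zero hbM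
  let X := orbitSpan (extPi π) {ω}
  refine ⟨X, inferInstance, inferInstance, subPi (extPi π) X (orbitSpan_stable _ _),
    subPi_regular _ _ _ (extPi_regular π hπ), ⟨ω, subset_orbitSpan _ _ rfl⟩,
    fun h => hω (congrArg Subtype.val h), fun g hg => ?_, fun g c hg => ?_⟩
  · simp only [Subtype.ext_iff, subPi_coe, SetLike.val_smul]
    let e : U →ₗ[k] U := ((π g).toLinearMap ∘ₗ U.subtype).codRestrict U fun x => hg x x.2
    refine ⟨LinearMap.det e, ?_⟩
    show ExteriorAlgebra.map (π g).toLinearMap ω = _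
    rw [ExteriorAlgebra.map_apply_ιMulti]
    refine sub_eq_zero.mp ((Module.forall_dual_apply_eq_zero_iff k _).mp fun φ => ?_)
    let F : U [⋀^Fin (Module.finrank k U)]→ₗ[k] k :=
      φ.compAlternatingMap ((ExteriorAlgebra.ιMulti k (Module.finrank k U)).compLinearMap U.subtype)
    have key : F (fun j => e (b j)) = LinearMap.det e * F b := by
      have h2 := F.eq_smul_basis_det b
      conv_lhs => rw [h2]
      rw [AlternatingMap.smul_apply, show (fun j => e (b j)) = e ∘ b from rfl, Module.Basis.det_comp,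
        Module.Basis.det_self, _root_.mul_one, smul_eq_mul, mul_comm]
    rw [map_sub, map_smul, smul_eq_mul, sub_eq_zero]
    exact key
  · simp only [Subtype.ext_iff, subPi_coe, SetLike.val_smul]
    show ExteriorAlgebra.map (π g).toLinearMap ω = _
    rw [ExteriorAlgebra.map_apply_ιMulti,
      show ⇑(π g).toLinearMap ∘ bM = fun j => c • bM j from funext fun j => hg _ (b j).2]
    exact ((ExteriorAlgebra.ιMulti k (Module.finrank k U)).toMultilinearMap.map_smul_univ (fun _ => c) bM).trans
      (by rw [Finset.prod_const, Finset.card_univ, Fintype.card_fin]; rfl)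

variable [IsAffine R.left] [Smooth R.hom]

/-- A subgroup is observable if a normal subgroup is, and all characters trivial on it are trivial. -/
theorem observable_of_normal (i : H ⟶ G) [IsMonHom i] [IsClosedImmersion i.left] (r : R ⟶ H) [IsMonHom r]
    [IsClosedImmersion r.left] (hn : AlgGrp.IsNormalHom r) (hobs : AGF.IsObservableIn k (r ≫ i))
    (hchar : ∀ χ : H ⟶ Red.Gm (Spec (CommRingCat.of k)), IsMonHom χ → (∀ x : Rat R, cv χ (x ≫ r) = 1) → χ = 1) :
    AGF.IsObservableIn k i := by
  classical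
  haveI := isReduced_grp G
  refine observable_of_chars i fun χ hχ V _ _ _ π hπ v hv heig => ?_
  obtain ⟨φ, hφ⟩ : ∃ φ : V →ₗ[k] k, φ v ≠ 0 := by
    by_contra h
    push Not at h
    exact hv ((Module.forall_dual_apply_eq_zero_iff k _).mp h)
  let f := coeff hπ φ v
  have hf : ∀ (g : Rat G) (h : Rat H), pfn (g * (h ≫ i)) f = cv χ h * pfn g f := fun g h => by
    rw [pfn_coeff, pfn_coeff, map_mul, LinearEquiv.mul_apply, heig, map_smul, map_smul, smul_eq_mul]
  have hf1 : pfn (1 : Rat G) f ≠ 0 := by rw [pfn_coeff, map_one]; exact hφ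
  obtain ⟨b, hb0, hb⟩ := exists_inv_weight (r ≫ i) hobs (fun x => cv χ (x ≫ r)) (fun x => cv_ne_zero χ _)
    (f := f) (fun h => hf1 (by rw [h, map_zero])) fun g x => by
      rw [← Category.assoc]
      exact hf g (x ≫ r)
  let πH : Rat H →* (Fn G ≃ₗ[k] Fn G) :=
    rPi.comp (MonoidHom.mk' (fun h => h ≫ i) fun x y => MonObj.mul_comp x y i)
  have hπH : IsRegular πH := fun m => by
    obtain ⟨z, hz⟩ := rPi_regular (G := G) m
    refine ⟨VecGrp.Wmap (ev i) z, fun h => ?_⟩
    rw [evl_Wmap]
    exact hz (h ≫ i)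
  let U := orbitSpan πH {b}
  haveI : Module.Finite k U := finite_orbitSpan hπH (Set.finite_singleton b)
  have hUR : ∀ (x : Rat R), ∀ u ∈ U, rMap (x ≫ r ≫ i) u = (cv χ (x ≫ r))⁻¹ • u := fun x u hu => by
    induction hu using Submodule.span_induction with
    | mem u hu =>
      obtain ⟨h, _, hx, rfl⟩ := hu
      rw [Set.mem_singleton_iff] at hx
      subst hx
      obtain ⟨x', hx'⟩ := hn _ h⁻¹ x
      refine ext_pts fun w => ?_
      show pfn w (rMap (x ≫ r ≫ i) (rMap (h ≫ i) _)) = pfn w (_ • rMap (h ≫ i) _)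
      have e : (x ≫ r) * h = h * (x' ≫ r) := by
        rw [← hx', _root_.inv_inv, ← _root_.mul_assoc, mul_inv_cancel_left]
      have hval : cv χ (x' ≫ r) = cv χ (x ≫ r) := by rw [← hx', cv_conj]
      rw [map_smul, pfn_rMap', pfn_rMap', pfn_rMap', _root_.mul_assoc, ← Category.assoc, ← MonObj.mul_comp, e,
        MonObj.mul_comp, ← _root_.mul_assoc, Category.assoc x' r i, hb, hval, smul_eq_mul]
    | zero => simp
    | add u w _ _ hu hw => rw [map_add, hu, hw, smul_add]
    | smul c u _ hu => rw [map_smul, hu, smul_comm]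
  obtain ⟨V', _, _, π', hπ', v', hv', hst, hsc⟩ := exists_det_line (rPi_regular (G := G)) U
  obtain ⟨c, hc, hceig⟩ := exists_char_of_line i hπ' hv' fun h => hst (h ≫ i) fun x hx =>
    orbitSpan_stable πH {b} h x hx
  let n := Module.finrank k U
  have hn0 : 0 < n := by
    haveI : Nontrivial U :=
      ⟨⟨b, subset_orbitSpan πH {b} (Set.mem_singleton b)⟩, 0, fun h => hb0 (congrArg Subtype.val h)⟩
    exact Module.finrank_pos
  have hcR : ∀ x : Rat R, cv c (x ≫ r) = (cv χ (x ≫ r))⁻¹ ^ n := fun x => by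
    refine smul_left_injective k hv' ?_
    show cv c (x ≫ r) • v' = _
    rw [← hceig, Category.assoc]
    exact hsc _ _ fun u hu => hUR x u hu
  obtain ⟨ψ, hψ, hψu⟩ := exists_char (Red.gmFn c * Red.gmFn χ ^ n) (fun a d => by
      simp only [map_mul, map_pow]
      show cv c (a * d) * cv χ (a * d) ^ n = cv c a * cv χ a ^ n * (cv c d * cv χ d ^ n)
      rw [cv_hom, cv_hom, mul_pow]
      ring) (by
      simp only [map_mul, map_pow]
      show cv c (1 : Rat H) * cv χ (1 : Rat H) ^ n = 1
      rw [cv_one_pt, cv_one_pt, one_pow, _root_.mul_one])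
  have hψv : ∀ h : Rat H, cv ψ h = cv c h * cv χ h ^ n := fun h => by
    show pfn h (Red.gmFn ψ) = _
    rw [hψu, map_mul, map_pow]
    rfl
  have hψ1 := hchar ψ hψ fun x => by
    rw [hψv, hcR, inv_pow, inv_mul_cancel₀ (pow_ne_zero _ (cv_ne_zero χ _))]
  have hc' : ∀ h : Rat H, cv c h = (cv χ h ^ n)⁻¹ := fun h => by
    refine eq_inv_of_mul_eq_one_left ?_
    rw [← hψv, hψ1, cv_one']
  obtain ⟨φ', hφ'⟩ : ∃ φ : V' →ₗ[k] k, φ v' ≠ 0 := by
    by_contra h
    push Not at h
    exact hv' ((Module.forall_dual_apply_eq_zero_iff k _).mp h)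
  let F := f ^ (n - 1) * coeff hπ' φ' v'
  have hF : ∀ (g : Rat G) (h : Rat H), pfn (g * (h ≫ i)) F = (cv χ h)⁻¹ * pfn g F := fun g h => by
    simp only [F, map_mul, map_pow, hf]
    rw [pfn_coeff, pfn_coeff, map_mul, LinearEquiv.mul_apply, hceig, map_smul, map_smul, smul_eq_mul, hc', mul_pow]
    have e : cv χ h ^ n = cv χ h ^ (n - 1) * cv χ h := by rw [← pow_succ, Nat.sub_add_cancel hn0]
    rw [e]
    field_simp [cv_ne_zero χ h]
    rw [pfn_coeff]
  have hF1 : pfn (1 : Rat G) F ≠ 0 := by
    simp only [F, map_mul, map_pow]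
    exact mul_ne_zero (pow_ne_zero _ hf1) (by rw [pfn_coeff, map_one]; exact hφ')
  refine ⟨Fn G, inferInstance, inferInstance, rPi, rPi_regular, F, fun h => hF1 (by rw [h, map_zero]), fun h => ?_⟩
  rw [rPi_apply]
  refine ext_pts fun w => ?_
  rw [pfn_rMap', hF, map_smul, smul_eq_mul]

omit [IsAffine G.left] [Smooth G.hom] in
/-- A normal subgroup is observable. -/
theorem observable_normal (r : R ⟶ H) [IsMonHom r] [IsClosedImmersion r.left] (hn : AlgGrp.IsNormalHom r) :
    AGF.IsObservableIn k r := by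
  obtain ⟨Q, _, q, hq, hQa, hQf, hqf, hqs, hk⟩ := GrpSchLib.NormalQuot.exists_quot H R r hn
  haveI := hq; haveI := hQa; haveI := hQf; haveI := hqf; haveI := hqs
  haveI := isReduced_grp H
  rw [observable_iff]
  intro g hg
  have h1 : g ≫ q = 1 := by
    refine pfn_injective (AlgHom.ext fun e => ?_)
    rw [pfn_comp, ← MonObj.one_comp q (X := VecGrp.pt k k), pfn_comp]
    refine (fix_iff r g).mp hg _ fun x => ext_pts fun w => ?_
    rw [pfn_rMap', ← pfn_comp, ← pfn_comp, MonObj.mul_comp, Category.assoc, hk.w, ← Hom.one_def, MonObj.comp_one,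
      _root_.mul_one]
  rw [Hom.one_def] at h1
  exact ⟨hk.lift g (toUnit _) h1, hk.lift_fst _ _ _⟩

/-- A subgroup is observable exactly when its radical is. -/
theorem observable_iff_radical (i : H ⟶ G) [IsMonHom i] [IsClosedImmersion i.left] [ConnectedSpace R.left] (r : R ⟶ H)
    [IsMonHom r] [IsClosedImmersion r.left] (hn : AlgGrp.IsNormalHom r)
    (hmax : ∀ (R' : Over (Spec (CommRingCat.of k))) [GrpObj R'] (r' : R' ⟶ H) [IsMonHom r'],
      IsClosedImmersion r'.left → Smooth R'.hom → ConnectedSpace R'.left → AlgGrp.IsNormalHom r' →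
        Red.IsSolvableGrp R' → ∃ f : R' ⟶ R, f ≫ r = r') :
    AGF.IsObservableIn k i ↔ AGF.IsObservableIn k (r ≫ i) := by
  refine ⟨observable_comp r i (observable_normal r hn), fun h => ?_⟩
  obtain ⟨H₀, _, j, hj, hjo, hjc, hHa, hHs, hHc, -⟩ := exists_open_identityComponent H
  haveI := hj; haveI := hjo; haveI := hjc; haveI := hHa; haveI := hHs; haveI := hHc
  haveI : Mono j.left := inferInstance
  haveI : Mono j := Over.mono_of_mono_left j
  obtain ⟨r₁, hr₁⟩ := RadM.fac_component j r
  haveI : IsMonHom (r₁ ≫ j) := by rw [hr₁]; infer_instance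
  haveI : IsMonHom r₁ := RedSub30.isMonHom_of_mono j r₁
  haveI : IsClosedImmersion r₁.left := by
    haveI : IsClosedImmersion (r₁.left ≫ j.left) := by rw [← Over.comp_left, hr₁]; infer_instance
    exact IsClosedImmersion.of_comp r₁.left j.left
  haveI : IsClosedImmersion (j ≫ i).left := by rw [Over.comp_left]; infer_instance
  have hn₁ : AlgGrp.IsNormalHom r₁ := fun T a n => by
    obtain ⟨n', hn'⟩ := hn T (a ≫ j) n
    refine ⟨n', (cancel_mono j).mp ?_⟩
    rw [MonObj.mul_comp, MonObj.mul_comp, GrpObj.inv_comp, Category.assoc, hr₁, Category.assoc, hr₁]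
    exact hn'
  refine (observable_open_sub_iff j i).mp (observable_of_normal (j ≫ i) r₁ hn₁ ?_ fun χ hχ hx => ?_)
  · rw [← Category.assoc, hr₁]; exact h
  · haveI := hχ
    refine char_eq_one_component j r hmax χ fun x z hz => ?_
    rw [show z = x ≫ r₁ from (cancel_mono j).mp (by rw [Category.assoc, hr₁, hz])]
    exact hx x

end Groth.Agent.Obs28.TorW
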