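import Groth.Agent.Obs28.Unip.Fixed
import Groth.Agent.Obs28.Comp
import Groth.Agent.Obs28.Char
import Groth.Agent.RedSub30.TorusAbsorb
import Groth.Prelude.Def_Par

/-! Unipotent radicals over an algebraically closed field. -/

universe u

open CategoryTheory MonoidalCategory CartesianMonoidalCategory MonObj GrpObj AlgebraicGeometry
open scoped TensorProduct

namespace Groth.Agent.Obs28

open GrpSchLib.Kunneth

set_option linter.unusedSectionVars false
set_option linter.style.haveILetI false

variable {k : Type u} [Field k] [IsAlgClosed k]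

theorem isIso_geomPt (s : Spec (CommRingCat.of k)) : IsIso (Red.geomPt s) := by
  let S := Spec (CommRingCat.of k)
  obtain ⟨ρ, hρ⟩ : ∃ ρ, Spec.map ρ = S.fromSpecResidueField s := ⟨_, Spec.map_preimage _⟩
  haveI : IsClosedImmersion (S.fromSpecResidueField s) := by
    refine IsClosedImmersion.of_isPreimmersion _ ?_
    rw [Scheme.range_fromSpecResidueField]
    rw [show s = IsLocalRing.closedPoint k from Subsingleton.elim (α := PrimeSpectrum k) _ _]
    exact IsLocalRing.isClosed_singleton_closedPoint k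
  haveI : Surjective (S.fromSpecResidueField s) :=
    ⟨fun x => ⟨IsLocalRing.closedPoint (S.residueField s), Subsingleton.elim (α := PrimeSpectrum k) _ _⟩⟩
  haveI : IsIso (S.fromSpecResidueField s) := isIso_of_isClosedImmersion_of_surjective _
  haveI : IsIso (Spec.map ρ) := by rw [hρ]; infer_instance
  haveI : IsIso (Scheme.Spec.map ρ.op) := ‹IsIso (Spec.map ρ)›
  haveI : IsIso ρ.op := isIso_of_fully_faithful Scheme.Spec ρ.op
  haveI : IsIso ρ := isIso_of_op ρ
  have hρb : Function.Bijective ρ.hom := ConcreteCategory.bijective_of_isIso ρ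
  haveI : IsAlgClosed (S.residueField s) := IsAlgClosed.of_ringEquiv k _ (RingEquiv.ofBijective ρ.hom hρb)
  haveI : IsIso (CommRingCat.ofHom (algebraMap (S.residueField s) (AlgebraicClosure (S.residueField s)))) :=
    (ConcreteCategory.isIso_iff_bijective _).mpr IsAlgClosed.algebraMap_bijective_of_isIntegral
  exact inferInstanceAs (IsIso (Spec.map _ ≫ S.fromSpecResidueField s))

theorem connected_of_geomFibre {U : Over (Spec (CommRingCat.of k))}
    (h : ∀ s, ConnectedSpace (Red.geomFibre s U).left) : ConnectedSpace U.left := by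
  let s : Spec (CommRingCat.of k) := IsLocalRing.closedPoint k
  haveI := isIso_geomPt s
  haveI := h s
  let f : (Red.geomFibre s U).left ⟶ U.left := Limits.pullback.fst U.hom (Red.geomPt s)
  haveI : IsIso f := inferInstanceAs (IsIso (Limits.pullback.fst U.hom (Red.geomPt s)))
  exact (f.surjective).connectedSpace f.continuous

theorem hasNoSubtorus_of_geomFibre {U : Over (Spec (CommRingCat.of k))} [GrpObj U]
    (h : ∀ s : Spec (CommRingCat.of k),
      Red.HasNoSubtorus (AlgebraicClosure ((Spec (CommRingCat.of k)).residueField s)) (Red.geomFibre s U)) :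
    Red.HasNoSubtorus k U := by
  intro T _ j _ _ hT
  let s : Spec (CommRingCat.of k) := IsLocalRing.closedPoint k
  haveI := isIso_geomPt s
  let g := Red.geomPt s
  have h1 : IsIso (Red.bc g T).hom :=
    h s (Red.bc g T) ((Over.pullback g).map j) (RedSub30.TorusAbsorb.isTorus_bc g hT)
  haveI : IsIso (Limits.pullback.snd T.hom g) := h1
  haveI : IsIso (Limits.pullback.fst T.hom g) := inferInstance
  haveI : IsIso (Limits.pullback.fst T.hom g ≫ T.hom) := by rw [Limits.pullback.condition]; infer_instance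
  exact IsIso.of_isIso_comp_left (Limits.pullback.fst T.hom g) T.hom

/-- The properties of a unipotent radical used below. -/
theorem unipRad_facts {U P : Over (Spec (CommRingCat.of k))} [GrpObj U] [GrpObj P] {u : U ⟶ P}
    (hU : Par.IsUnipotentRadical u) :
    IsMonHom u ∧ IsClosedImmersion u.left ∧ Smooth U.hom ∧ ConnectedSpace U.left ∧ Red.HasNoSubtorus k U :=
  ⟨hU.1, hU.2.1, hU.2.2.2.1, connected_of_geomFibre fun s => (hU.2.2.2.2.2.1 s).1,
    hasNoSubtorus_of_geomFibre fun s => (hU.2.2.2.2.2.1 s).2⟩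

variable {G H : Over (Spec (CommRingCat.of k))} [GrpObj G] [GrpObj H]

section Restrict

variable {M : Type u} [AddCommGroup M] [Module k M]

/-- Restriction of a representation of the rational points. -/
noncomputable def resPi (π : Rat G →* (M ≃ₗ[k] M)) (i : H ⟶ G) [IsMonHom i] : Rat H →* (M ≃ₗ[k] M) :=
  π.comp (MonoidHom.mk' (fun h => h ≫ i) fun a b => MonObj.mul_comp a b i)

theorem resPi_apply (π : Rat G →* (M ≃ₗ[k] M)) (i : H ⟶ G) [IsMonHom i] (h : Rat H) :
    resPi π i h = π (h ≫ i) := rfl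

theorem resPi_regular {π : Rat G →* (M ≃ₗ[k] M)} (hπ : IsRegular π) (i : H ⟶ G) [IsMonHom i] :
    IsRegular (resPi π i) := fun m => by
  obtain ⟨z, hz⟩ := hπ m
  refine ⟨VecGrp.Wmap (ev i) z, fun h => ?_⟩
  rw [resPi_apply, hz, evl_Wmap]
  rfl

variable [IsAffine H.left] [Smooth H.hom] [ConnectedSpace H.left]

/-- A nonzero stable subspace has a nonzero fixed vector. -/
theorem exists_fixed_in (hH : Red.HasNoSubtorus k H) {π : Rat G →* (M ≃ₗ[k] M)} (hπ : IsRegular π) (i : H ⟶ G)
    [IsMonHom i] {W : Submodule k M} (hW : ∀ h : Rat H, ∀ x ∈ W, π (h ≫ i) x ∈ W) (hW0 : W ≠ ⊥) :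
    ∃ x ∈ W, x ≠ 0 ∧ ∀ h : Rat H, π (h ≫ i) x = x := by
  haveI : Nontrivial W := Submodule.nontrivial_iff_ne_bot.mpr hW0
  obtain ⟨x, hx, hfix⟩ :=
    Unip.exists_fixed hH (subPi_regular (resPi π i) W hW (resPi_regular hπ i))
  exact ⟨x, x.2, fun h => hx (Subtype.ext h), fun h => congrArg Subtype.val (hfix h)⟩

/-- A group without subtori has no characters. -/
theorem char_eq_one (hH : Red.HasNoSubtorus k H) (i : H ⟶ G) [IsMonHom i]
    (χ : G ⟶ Red.Gm (Spec (CommRingCat.of k))) [IsMonHom χ] (t : Rat H) : cv χ (t ≫ i) = 1 := by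
  let c : Rat H →* kˣ := MonoidHom.mk' (fun h => Units.mk0 (cv χ (h ≫ i)) (cv_ne_zero χ _))
    fun a b => Units.ext (by
      simp only [Units.val_mk0, Units.val_mul, MonObj.mul_comp a b i, cv, ← chiVal_eq]
      rw [VecGrp.chiVal, MonObj.mul_comp _ _ χ, GmPts.gmFn_mul, map_mul, VecGrp.chiVal, VecGrp.chiVal])
  let π₁ : Rat H →* (k ≃ₗ[k] k) :=
    MonoidHom.mk' (fun h => LinearEquiv.smulOfUnit (c h)) fun a b => LinearEquiv.ext fun x => by
      show (c (a * b) : k) * x = (c a : k) * ((c b : k) * x)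
      rw [map_mul, Units.val_mul, _root_.mul_assoc]
  have hπ₁ : IsRegular π₁ := fun m => ⟨ev i (Red.gmFn χ) ⊗ₜ[k] m, fun h => by
    rw [evl_tmul, ← pfn_comp]
    rfl⟩
  obtain ⟨v, hv, hfix⟩ := Unip.exists_fixed hH hπ₁
  exact (mul_eq_right₀ hv).mp (show cv χ (t ≫ i) * v = v from hfix t)

end Restrict

end Groth.Agent.Obs28
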