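import Groth.Agent.Obs28.Rep

/-! Translations of functions on a group, and actions by algebra automorphisms. -/

universe u

open CategoryTheory MonoidalCategory CartesianMonoidalCategory MonObj GrpObj AlgebraicGeometry
open scoped TensorProduct

namespace Groth.Agent.Obs28

open GrpSchLib.Kunneth

set_option linter.unusedSectionVars false
set_option linter.style.haveILetI false

variable {k : Type u} [Field k] [IsAlgClosed k] {G H : Over (Spec (CommRingCat.of k))} [GrpObj G] [GrpObj H]
  [IsAffine G.left] [Smooth G.hom]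

variable (G) in
theorem qc_grp : QuasiCompact G.hom ∧ IsSeparated G.hom :=
  ⟨(quasiCompact_iff_compactSpace G.hom).mpr inferInstance, GrpSchLib.AntiAffine.isSeparated_grp G⟩

/-- The constant point of value `g`. -/
noncomputable def cst {T X : Over (Spec (CommRingCat.of k))} (g : Rat X) : T ⟶ X :=
  toUnit T ≫ (CartesianMonoidalCategory.lift (𝟙 _) (𝟙 _) : 𝟙_ (Over (Spec (CommRingCat.of k))) ⟶ _) ≫
    fst _ _ ≫ (Over.homMk (𝟙 (Spec (CommRingCat.of k))) (by
      show 𝟙 _ ≫ Spec.map (CommRingCat.ofHom (algebraMap k k)) = 𝟙 _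
      simp) : 𝟙_ (Over (Spec (CommRingCat.of k))) ⟶ VecGrp.pt k k) ≫ g

theorem comp_cst {T T' X : Over (Spec (CommRingCat.of k))} (f : T' ⟶ T) (g : Rat X) :
    f ≫ cst g = (cst g : T' ⟶ X) := by
  simp only [cst, ← Category.assoc, comp_toUnit]

theorem cst_pt {X : Over (Spec (CommRingCat.of k))} (g : Rat X) : (cst g : VecGrp.pt k k ⟶ X) = g := by
  rw [cst, lift_fst_assoc, Category.id_comp, ← Category.assoc]
  refine (congrArg (· ≫ g) (?_ : _ = 𝟙 (VecGrp.pt k k))).trans (Category.id_comp g)
  refine Over.OverMorphism.ext ?_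
  show (VecGrp.pt k k).hom ≫ 𝟙 _ = 𝟙 _
  simp

theorem cst_mul {T : Over (Spec (CommRingCat.of k))} (g h : Rat G) :
    (cst (g * h) : T ⟶ G) = cst g * cst h := by
  simp only [cst, MonObj.comp_mul]

theorem cst_one {T : Over (Spec (CommRingCat.of k))} : (cst (1 : Rat G) : T ⟶ G) = 1 := by
  simp only [cst, MonObj.comp_one]

/-- Right translation of functions by a rational point. -/
noncomputable def rMap (g : Rat G) : Fn G →ₐ[k] Fn G := ev (𝟙 G * cst g)

theorem pfn_rMap {B : Type u} [CommRing B] [Algebra k B] (x : VecGrp.pt k B ⟶ G) (g : Rat G) (f : Fn G) :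
    pfn x (rMap g f) = pfn (x * cst g) f := by
  rw [rMap, ← pfn_comp, MonObj.comp_mul, Category.comp_id, comp_cst]

theorem pfn_rMap' (x g : Rat G) (f : Fn G) : pfn x (rMap g f) = pfn (x * g) f := by
  rw [pfn_rMap, cst_pt]

theorem ext_pts {X : Over (Spec (CommRingCat.of k))} [IsReduced X.left] [LocallyOfFiniteType X.hom] {a b : Fn X}
    (h : ∀ g : VecGrp.pt k k ⟶ X, pfn g a = pfn g b) : a = b :=
  sub_eq_zero.mp (eq_zero_of_val _ fun g => by rw [map_sub, h g, sub_self])

/-- Right translation as a representation of the rational points. -/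
noncomputable def rPi : Rat G →* (Fn G ≃ₗ[k] Fn G) :=
  (LinearMap.GeneralLinearGroup.generalLinearEquiv k (Fn G)).toMonoidHom.comp
    (({ toFun := fun g => (rMap g).toLinearMap
        map_one' := by
          haveI := isReduced_grp G
          exact LinearMap.ext fun f => ext_pts fun x => by
            show pfn x (rMap 1 f) = pfn x f
            rw [pfn_rMap', _root_.mul_one]
        map_mul' := fun g h => by
          haveI := isReduced_grp G
          exact LinearMap.ext fun f => ext_pts fun x => by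
            show pfn x (rMap (g * h) f) = pfn x (rMap g (rMap h f))
            rw [pfn_rMap', pfn_rMap', pfn_rMap', _root_.mul_assoc] } : Rat G →* Module.End k (Fn G)).toHomUnits)

theorem rPi_apply (g : Rat G) (f : Fn G) : rPi g f = rMap g f := rfl

theorem rPi_regular : IsRegular (rPi (G := G)) := by
  intro f
  obtain ⟨_, _⟩ := qc_grp G
  obtain ⟨t, ht⟩ := (toProd_bijective G G).2 (ev μ[G] f)
  refine ⟨TensorProduct.comm k (Fn G) (Fn G) t, fun g => ?_⟩
  have key : ∀ s : Fn G ⊗[k] Fn G, ∀ x : Rat G,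
      pfn x (evl (pfn g) (TensorProduct.comm k (Fn G) (Fn G) s)) = pfn (lift x g) (toProd G G s) := by
    intro s x
    induction s using TensorProduct.induction_on with
    | zero => simp
    | tmul a b =>
      rw [TensorProduct.comm_tmul, evl_tmul, map_smul, toProd, Algebra.TensorProduct.lift_tmul, map_mul,
        ← pfn_comp, ← pfn_comp, lift_fst, lift_snd, smul_eq_mul, mul_comm]
    | add p q hp hq => simp only [map_add, hp, hq]
  haveI := isReduced_grp G
  refine ext_pts fun x => ?_
  rw [key, ht, ← pfn_comp, rPi_apply, pfn_rMap', Hom.mul_def]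

variable (G) in
/-- The right regular rational module. -/
noncomputable def regR : VecGrp.GMod G (Fn G) := ofRat (rPi_regular (G := G))

theorem rep_regR (g : Rat G) (f : Fn G) : rep (regR G) g f = rMap g f := by
  rw [regR, rep_ofRat, rPi_apply]

section Mult

variable {A : Type u} [CommRing A] [Algebra k A] (ρ : VecGrp.GMod G A)

theorem evl_mul {B : Type u} [CommRing B] [Algebra k B] (χ : B →ₐ[k] k) (x y : B ⊗[k] A) :
    evl χ (x * y) = evl χ x * evl χ y := by
  have e : ∀ z : B ⊗[k] A, evl χ z = (Algebra.TensorProduct.lid k A) (Algebra.TensorProduct.map χ (AlgHom.id k A) z) := by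
    intro z
    induction z using TensorProduct.induction_on with
    | zero => simp
    | tmul b a => simp
    | add p q hp hq => simp only [map_add, hp, hq]
  simp only [e, map_mul]

theorem isMult_of_rep (hmul : ∀ (g : Rat G) (a b : A), rep ρ g (a * b) = rep ρ g a * rep ρ g b)
    (hone : ∀ g : Rat G, rep ρ g 1 = 1) : ρ.IsMult := by
  haveI := isReduced_grp G
  have hc : ∀ a b : A, coact ρ (a * b) = coact ρ a * coact ρ b := fun a b => eq_of_evl_pts fun g => by
    rw [evl_mul, ← rep_eq_evl, ← rep_eq_evl, ← rep_eq_evl, hmul]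
  have hc1 : coact ρ (1 : A) = 1 := eq_of_evl_pts fun g => by
    rw [← rep_eq_evl, hone, Algebra.TensorProduct.one_def, evl_tmul, map_one, one_smul]
  intro B _ _ g
  have hW : ∀ z : Fn G ⊗[k] A, VecGrp.Wmap (pfn g) z = Algebra.TensorProduct.map (pfn g) (AlgHom.id k A) z := by
    intro z
    induction z using TensorProduct.induction_on with
    | zero => simp
    | tmul b a => simp
    | add p q hp hq => simp only [map_add, hp, hq]
  have h1 : ρ.ρ B g (1 : VecGrp.W k A B) = 1 := by
    show ρ.ρ B g ((1 : B) ⊗ₜ[k] (1 : A)) = _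
    rw [rho_one_tmul, hc1, hW, map_one]
  refine ⟨fun x y => ?_, h1⟩
  induction x using TensorProduct.induction_on with
  | zero => simp
  | tmul b a =>
    induction y using TensorProduct.induction_on with
    | zero => simp
    | tmul b' a' =>
      have e : ∀ (c : B) (z : A), c ⊗ₜ[k] z = c • ((1 : B) ⊗ₜ[k] z) := fun c z => by
        rw [TensorProduct.smul_tmul', smul_eq_mul, _root_.mul_one]
      rw [Algebra.TensorProduct.tmul_mul_tmul, e, e b a, e b' a', map_smul, map_smul, map_smul, rho_one_tmul,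
        rho_one_tmul, rho_one_tmul, hc, hW, hW, hW, map_mul, smul_mul_smul_comm]
    | add p q hp hq => simp only [mul_add, map_add, hp, hq]
  | add p q hp hq => simp only [add_mul, map_add, hp, hq]

theorem rep_mul (hρ : ρ.IsMult) (g : Rat G) (a b : A) : rep ρ g (a * b) = rep ρ g a * rep ρ g b := by
  have h := (hρ k g).1 ((1 : k) ⊗ₜ[k] a) ((1 : k) ⊗ₜ[k] b)
  rw [Algebra.TensorProduct.tmul_mul_tmul, _root_.mul_one, rho_k_apply, rho_k_apply, rho_k_apply,
    Algebra.TensorProduct.tmul_mul_tmul, _root_.mul_one] at h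
  simpa using congrArg (TensorProduct.lid k A) h

theorem rep_one (hρ : ρ.IsMult) (g : Rat G) : rep ρ g (1 : A) = 1 := by
  have h := (hρ k g).2
  rw [Algebra.TensorProduct.one_def, rho_k_apply] at h
  simpa using congrArg (TensorProduct.lid k A) h

end Mult

theorem regR_isMult : (regR G).IsMult :=
  isMult_of_rep _ (fun g a b => by simp only [rep_regR, map_mul]) fun g => by rw [rep_regR, map_one]

section Invariant

variable [IsAffine H.left] [Smooth H.hom]

theorem isRTransInv_iff (i : H ⟶ G) (f : Fn G) :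
    AGF.IsRTransInv i f ↔ ∀ h : Rat H, rMap (h ≫ i) f = f := by
  haveI := isReduced_grp G
  haveI : IsAffine (G ⊗ H).left := inferInstanceAs (IsAffine (Limits.pullback G.hom H.hom))
  haveI : Smooth (G ⊗ H).hom := inferInstanceAs (Smooth (Limits.pullback.fst G.hom H.hom ≫ G.hom))
  haveI : IsReduced (G ⊗ H).left := GrpSchLib.isReduced_of_smooth_field (G ⊗ H).hom
  have e : AGF.IsRTransInv i f ↔ ev ((G ◁ i) ≫ μ[G]) f = ev (fst G H) f := Iff.rfl
  rw [e]
  constructor
  · intro hf h
    refine ext_pts fun x => ?_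
    have := congrArg (pfn (lift x h)) hf
    rw [← pfn_comp, ← pfn_comp, lift_fst, ← Category.assoc, lift_whiskerLeft, ← Hom.mul_def] at this
    rw [pfn_rMap', this]
  · intro hf
    refine ext_pts fun w => ?_
    rw [← pfn_comp, ← pfn_comp, ← Category.assoc, ← lift_comp_fst_snd w, lift_whiskerLeft, lift_fst, ← Hom.mul_def,
      ← pfn_rMap', hf]

theorem isRTransInv_pt_iff (g : Rat G) (f : Fn G) : AGF.IsRTransInv g f ↔ rMap g f = f := by
  obtain ⟨_, _⟩ := qc_grp G
  have e : AGF.IsRTransInv g f ↔ ev ((G ◁ g) ≫ μ[G]) f = ev (fst G (VecGrp.pt k k)) f := Iff.rfl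
  have hfac : (G ◁ g) ≫ μ[G] = fst G (VecGrp.pt k k) ≫ (𝟙 G * cst g) := by
    have h2 : fst G (VecGrp.pt k k) ≫ cst g = snd G (VecGrp.pt k k) ≫ g := by
      rw [comp_cst, ← comp_cst (snd G (VecGrp.pt k k)) g, cst_pt]
    rw [MonObj.comp_mul, Category.comp_id, h2, Hom.mul_def]
    congr 1
  rw [e, hfac, ← ev_ev]
  constructor
  · intro h
    haveI := isReduced_grp G
    refine ext_pts fun x => ?_
    have := congrArg (pfn (lift x (𝟙 (VecGrp.pt k k)))) h
    simp only [← pfn_comp, lift_fst] at this
    rwa [pfn_comp] at this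
  · intro h
    exact congrArg _ h

theorem rTransInv_eq_fixedUnder (i : H ⟶ G) (f : Fn G) :
    f ∈ AGF.rTransInv i ↔ f ∈ (regR G).fixedUnder i := by
  rw [AGF.mem_rTransInv_iff, isRTransInv_iff, mem_fixedUnder_iff]
  simp only [rep_regR]

end Invariant

end Groth.Agent.Obs28
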