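import Groth.Agent.Obs28.SepInv
import Groth.Agent.GenFreeRed.Main

/-! Invariant functions on an observable subgroup are restrictions of invariant functions. -/

universe u

open CategoryTheory MonoidalCategory CartesianMonoidalCategory MonObj GrpObj AlgebraicGeometry
open scoped TensorProduct

namespace Groth.Agent.Obs28

open GrpSchLib.Kunneth

set_option linter.unusedSectionVars false
set_option linter.style.haveILetI false

theorem flat_away_of_free {C B : Type u} [CommRing C] [CommRing B] [Algebra C B] (f : C)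
    [Module.Free (Localization.Away f) (LocalizedModule (Submonoid.powers f) B)] :
    Module.Flat C (Localization.Away (algebraMap C B f)) := by
  let M' := LocalizedModule (Submonoid.powers f) B
  haveI : Module.Flat C (Localization.Away f) := IsLocalization.flat _ (Submonoid.powers f)
  haveI : Module.Flat C M' := Module.Flat.trans C (Localization.Away f) M'
  let l : B →ₗ[B] Localization.Away (algebraMap C B f) := Algebra.linearMap B _
  haveI : IsLocalizedModule (Submonoid.powers (algebraMap C B f)) l :=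
    (isLocalizedModule_iff_isLocalization' _ _).mpr inferInstance
  haveI := IsLocalizedModule.restrictScalars_powers (A := B) f l
  exact Module.Flat.of_linearEquiv (IsLocalizedModule.iso (Submonoid.powers f) (l.restrictScalars C)).symm

variable {k : Type u} [Field k] [IsAlgClosed k] {G H K : Over (Spec (CommRingCat.of k))} [GrpObj G] [GrpObj H]
  [GrpObj K] [IsAffine G.left] [Smooth G.hom] [IsAffine H.left] [Smooth H.hom] [IsAffine K.left] [Smooth K.hom]

/-- The point of an algebra map out of the functions of an affine scheme. -/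
noncomputable def ptHom {X : Over (Spec (CommRingCat.of k))} [IsAffine X.left] {R : Type u} [CommRing R]
    [Algebra k R] (φ : Fn X →ₐ[k] R) : VecGrp.pt k R ⟶ X :=
  VecGrp.ptMap φ ≫ univ X

theorem pfn_ptHom {X : Over (Spec (CommRingCat.of k))} [IsAffine X.left] {R : Type u} [CommRing R]
    [Algebra k R] (φ : Fn X →ₐ[k] R) : pfn (ptHom φ) = φ := by
  rw [ptHom, pfn_ptMap, pfn_univ]
  exact AlgHom.comp_id _

theorem ptMap_ptHom {X : Over (Spec (CommRingCat.of k))} [IsAffine X.left] {R R' : Type u} [CommRing R]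
    [Algebra k R] [CommRing R'] [Algebra k R'] (ψ : R →ₐ[k] R') (φ : Fn X →ₐ[k] R) :
    VecGrp.ptMap ψ ≫ ptHom φ = ptHom (ψ.comp φ) :=
  pfn_injective (by rw [pfn_ptMap, pfn_ptHom, pfn_ptHom])

theorem ev_eq_of_pfn {X : Over (Spec (CommRingCat.of k))} {R : Type u} [CommRing R] [Algebra k R]
    {u v : VecGrp.pt k R ⟶ X} {z : Fn X} (h : pfn u z = pfn v z) : ev u z = ev v z := by
  apply (ConcreteCategory.bijective_of_isIso (Scheme.ΓSpecIso (CommRingCat.of R)).hom).1
  exact h

theorem pfn_eq_of_ev {X : Over (Spec (CommRingCat.of k))} {R : Type u} [CommRing R] [Algebra k R]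
    {u v : VecGrp.pt k R ⟶ X} {z : Fn X} (h : ev u z = ev v z) : pfn u z = pfn v z :=
  congrArg (fun t => (Scheme.ΓSpecIso (CommRingCat.of R)).hom t) h

variable (i : H ⟶ G) [IsMonHom i] [IsClosedImmersion i.left] (κ : K ⟶ H) [IsMonHom κ]

set_option maxHeartbeats 2000000 in
set_option synthInstance.maxHeartbeats 200000 in
theorem exists_extension_core {C : Type u} [CommRing C] [Algebra k C] [Algebra C (Fn G)] [IsScalarTower k C (Fn G)]
    (hC : ∀ z : C, Inv' i (algebraMap C (Fn G) z))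
    (hsep : ∀ (T : Over (Spec (CommRingCat.of k))) (g g' : T ⟶ G),
      (∀ z : C, ev g (algebraMap C (Fn G) z) = ev g' (algebraMap C (Fn G) z)) → ∃ h : T ⟶ H, g * (h ≫ i) = g')
    (c : C) [Module.Flat C (Localization.Away (algebraMap C (Fn G) c))]
    (a : Rat G) (ha : pfn a (algebraMap C (Fn G) c) ≠ 0) {f : Fn H} (hf : Inv' κ f) :
    ∃ F : Fn G, Inv' (κ ≫ i) F ∧ ev i F = f := by
  classical
  haveI := isReduced_grp G
  haveI := isReduced_grp H
  haveI : Mono i.left := inferInstance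
  haveI : Mono i := Over.mono_of_mono_left i
  let M := Localization.Away (algebraMap C (Fn G) c)
  -- the two tautological points of `M ⊗ Fn G`
  let R₁ := M ⊗[C] Fn G
  let ι₁ : Fn G →ₐ[k] R₁ :=
    ((Algebra.TensorProduct.includeLeft : M →ₐ[C] R₁).restrictScalars k).comp (IsScalarTower.toAlgHom k (Fn G) M)
  let ι₂ : Fn G →ₐ[k] R₁ := (Algebra.TensorProduct.includeRight : Fn G →ₐ[C] R₁).restrictScalars k
  have hι₁ : ∀ z : C, ι₁ (algebraMap C (Fn G) z) = algebraMap C R₁ z := fun z => by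
    show (algebraMap (Fn G) M (algebraMap C (Fn G) z)) ⊗ₜ[C] (1 : Fn G) = _
    rw [← IsScalarTower.algebraMap_apply C (Fn G) M]
    rfl
  have hι₂ : ∀ z : C, ι₂ (algebraMap C (Fn G) z) = algebraMap C R₁ z := fun z =>
    (Algebra.TensorProduct.includeRight : Fn G →ₐ[C] R₁).commutes z
  obtain ⟨h₁, hh₁⟩ := hsep _ (ptHom ι₁) (ptHom ι₂) fun z =>
    ev_eq_of_pfn (by rw [pfn_ptHom, pfn_ptHom, hι₁, hι₂])
  let x : R₁ := pfn h₁ f
  -- translation on the second factor
  let R₃ := M ⊗[C] (Fn G ⊗[k] Fn K)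
  let jL : R₁ →ₐ[k] R₃ := (Algebra.TensorProduct.map (AlgHom.id C M)
    (IsScalarTower.toAlgHom C (Fn G) (Fn G ⊗[k] Fn K))).restrictScalars k
  let inR : Fn G ⊗[k] Fn K →ₐ[k] R₃ :=
    (Algebra.TensorProduct.includeRight : Fn G ⊗[k] Fn K →ₐ[C] R₃).restrictScalars k
  let jR : Fn K →ₐ[k] R₃ := inR.comp Algebra.TensorProduct.includeRight
  let eL : Fn G →ₐ[k] Fn G ⊗[k] Fn K := Algebra.TensorProduct.includeLeft
  let eR : Fn K →ₐ[k] Fn G ⊗[k] Fn K := Algebra.TensorProduct.includeRight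
  let tG : VecGrp.pt k (Fn G ⊗[k] Fn K) ⟶ G := ptHom eL * (ptHom eR ≫ κ ≫ i)
  let δ₀ : Fn G →ₐ[k] Fn G ⊗[k] Fn K := pfn tG
  have hδC : ∀ z : C, δ₀ (algebraMap C (Fn G) z) = algebraMap C (Fn G) z ⊗ₜ[k] 1 := fun z => by
    have h1 : ev tG (algebraMap C (Fn G) z) = ev (ptHom eL) (algebraMap C (Fn G) z) := by
      simp only [tG, ← Category.assoc]
      exact ev_mul_of_inv i (hC z) _ _
    rw [show δ₀ = pfn tG from rfl, pfn_eq_of_ev h1, pfn_ptHom]
    rfl
  let δ : Fn G →ₗ[C] Fn G ⊗[k] Fn K :=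
    { toFun := δ₀
      map_add' := map_add _
      map_smul' := fun z y => by
        rw [Algebra.smul_def, map_mul, RingHom.id_apply, hδC, Algebra.smul_def]
        rfl }
  let inc : Fn G →ₗ[C] Fn G ⊗[k] Fn K :=
    (IsScalarTower.toAlgHom C (Fn G) (Fn G ⊗[k] Fn K)).toLinearMap
  let d : Fn G →ₗ[C] Fn G ⊗[k] Fn K := δ - inc
  let τ : Fn G ⊗[k] Fn K →ₐ[k] R₃ := inR
  let κu : VecGrp.pt k R₃ ⟶ H := ptHom jR ≫ κ
  let q₁ : VecGrp.pt k R₃ ⟶ G := ptHom (jL.comp ι₁)
  let q₂ : VecGrp.pt k R₃ ⟶ G := ptHom (jL.comp ι₂) * (κu ≫ i)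
  have hq₂ : pfn q₂ = τ.comp δ₀ := by
    have e : q₂ = VecGrp.ptMap τ ≫ tG := by
      simp only [tG, q₂, κu, MonObj.comp_mul, ← Category.assoc]
      congr 1
      · rw [ptMap_ptHom]
        exact congrArg ptHom (AlgHom.ext fun _ => rfl)
      · congr 2
        rw [ptMap_ptHom]
    rw [e, pfn_ptMap]
  have hlin : ∀ (m : M) (y : Fn G), m ⊗ₜ[C] δ y = jL (m ⊗ₜ[C] 1) * pfn q₂ y := fun m y => by
    rw [hq₂]
    show m ⊗ₜ[C] δ₀ y = (m ⊗ₜ[C] algebraMap (Fn G) (Fn G ⊗[k] Fn K) 1) * ((1 : M) ⊗ₜ[C] δ₀ y)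
    rw [Algebra.TensorProduct.tmul_mul_tmul, _root_.mul_one, map_one, _root_.one_mul]
  have hlin' : ∀ (m : M) (y : Fn G), m ⊗ₜ[C] inc y = jL (m ⊗ₜ[C] y) := fun m y => rfl
  have hq₂C : ∀ z : C, pfn q₂ (algebraMap C (Fn G) z) = algebraMap C R₃ z := fun z => by
    rw [hq₂, AlgHom.comp_apply, hδC]
    exact (Algebra.TensorProduct.includeRight : Fn G ⊗[k] Fn K →ₐ[C] R₃).commutes z
  let Q₂ : Fn G →ₐ[C] R₃ := AlgHom.mk (pfn q₂).toRingHom hq₂C
  let E₁ : R₁ →ₐ[k] R₃ :=
    (Algebra.TensorProduct.lift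
      (Algebra.TensorProduct.includeLeft : M →ₐ[C] R₃) Q₂ fun _ _ => .all _ _).restrictScalars k
  have hE₁ : ∀ (m : M) (y : Fn G), E₁ (m ⊗ₜ[C] y) = jL (m ⊗ₜ[C] 1) * pfn q₂ y := fun m y => by
    show (m ⊗ₜ[C] (1 : Fn G ⊗[k] Fn K)) * pfn q₂ y = (m ⊗ₜ[C] algebraMap (Fn G) (Fn G ⊗[k] Fn K) 1) * pfn q₂ y
    rw [map_one]
  have hker : (LinearMap.lTensor M d) x = 0 := by
    have e : ∀ z : R₁, LinearMap.lTensor M d z = E₁ z - jL z := fun z => by
      induction z using TensorProduct.induction_on with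
      | zero => simp
      | tmul m y =>
        rw [LinearMap.lTensor_tmul, hE₁, ← hlin, ← hlin', ← TensorProduct.tmul_sub]
        rfl
      | add p q hp hq => simp only [map_add, hp, hq]; abel
    rw [e, sub_eq_zero]
    let hA : VecGrp.pt k R₃ ⟶ H := VecGrp.ptMap E₁ ≫ h₁
    let hB : VecGrp.pt k R₃ ⟶ H := VecGrp.ptMap jL ≫ h₁
    have eA : q₁ * (hA ≫ i) = q₂ := by
      have h := congrArg (VecGrp.ptMap E₁ ≫ ·) hh₁
      simp only [MonObj.comp_mul, ptMap_ptHom] at h
      have e1 : E₁.comp ι₁ = jL.comp ι₁ := AlgHom.ext fun y => by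
        show E₁ ((algebraMap (Fn G) M y) ⊗ₜ[C] (1 : Fn G)) = _
        rw [hE₁, map_one, _root_.mul_one]
        rfl
      have e2 : E₁.comp ι₂ = pfn q₂ := AlgHom.ext fun y => by
        show E₁ ((1 : M) ⊗ₜ[C] y) = _
        rw [hE₁, ← Algebra.TensorProduct.one_def, map_one, _root_.one_mul]
      rw [e1, e2] at h
      refine Eq.trans (Eq.trans ?_ h) (pfn_injective (pfn_ptHom _))
      simp only [hA, q₁, Category.assoc]
    have eB : q₁ * (hB ≫ i) = ptHom (jL.comp ι₂) := by
      have h := congrArg (VecGrp.ptMap jL ≫ ·) hh₁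
      simp only [MonObj.comp_mul, ptMap_ptHom] at h
      simpa only [hB, q₁, Category.assoc] using h
    have hAB : hA = hB * κu := by
      rw [← cancel_mono i, MonObj.mul_comp]
      refine mul_left_cancel (a := q₁) ?_
      rw [← _root_.mul_assoc, eB, eA]
    have hA' : pfn hA f = E₁ x := AlgHom.congr_fun (pfn_ptMap E₁ h₁) f
    have hB' : pfn hB f = jL x := AlgHom.congr_fun (pfn_ptMap jL h₁) f
    rw [← hA', ← hB', hAB]
    exact pfn_eq_of_ev (ev_mul_of_inv κ hf hB (ptHom jR))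
  -- exactness
  have hexact : Function.Exact (LinearMap.ker d).subtype d := LinearMap.exact_subtype_ker_map d
  obtain ⟨y, hy⟩ := (Module.Flat.lTensor_exact M hexact x).mp hker
  -- evaluation
  let χ : M →ₐ[k] k := AlgHom.mk (IsLocalization.Away.lift (R := Fn G) (algebraMap C (Fn G) c)
      (g := (pfn a).toRingHom) (isUnit_iff_ne_zero.mpr ha)) fun r => by
    rw [IsScalarTower.algebraMap_apply k (Fn G) M]
    exact (IsLocalization.Away.lift_eq _ _ _).trans ((pfn a).commutes r)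
  have hχ : ∀ g, χ (algebraMap (Fn G) M g) = pfn a g := fun g =>
    IsLocalization.Away.lift_eq (algebraMap C (Fn G) c) (g := (pfn a).toRingHom) (isUnit_iff_ne_zero.mpr ha) g
  let L : Fn G →ₐ[k] Fn H := (ev i).comp (lMap a)
  have hL : ∀ (t : Rat H) g, pfn t (L g) = pfn (a * (t ≫ i)) g := fun t g => by
    rw [AlgHom.comp_apply, ← pfn_comp, pfn_lMap]
  letI : Algebra C (Fn H) :=
    ((algebraMap k (Fn H)).comp ((pfn a).toRingHom.comp (algebraMap C (Fn G)))).toAlgebra
  have hLC : ∀ z : C, L (algebraMap C (Fn G) z) = algebraMap C (Fn H) z := fun z => by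
    refine ext_pts fun t => ?_
    show _ = pfn t (algebraMap k (Fn H) (pfn a (algebraMap C (Fn G) z)))
    rw [AlgHom.commutes, Algebra.algebraMap_self_apply, hL, ← pfn_rMap', hC z t]
  have hχC : ∀ z : C, algebraMap k (Fn H) (χ (algebraMap C M z)) = algebraMap C (Fn H) z := fun z => by
    show algebraMap k (Fn H) (χ (algebraMap C M z)) = algebraMap k (Fn H) (pfn a (algebraMap C (Fn G) z))
    rw [IsScalarTower.algebraMap_apply C (Fn G) M, hχ]
  let ω₁ : M →ₐ[C] Fn H := AlgHom.mk ((Algebra.ofId k (Fn H)).comp χ).toRingHom hχC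
  let ω₂ : Fn G →ₐ[C] Fn H := AlgHom.mk L.toRingHom hLC
  let ω : R₁ →ₐ[C] Fn H := Algebra.TensorProduct.lift ω₁ ω₂ fun _ _ => .all _ _
  have hω : ∀ (m : M) g, ω (m ⊗ₜ[C] g) = algebraMap k (Fn H) (χ m) * L g := fun m g => rfl
  let ω' : R₁ →ₐ[k] Fn H := AlgHom.mk ω.toRingHom fun r => by
    show ω ((algebraMap k M r) ⊗ₜ[C] (1 : Fn G)) = _
    rw [hω, map_one, _root_.mul_one, AlgHom.commutes]
    rfl
  have hω' : ∀ (m : M) g, ω' (m ⊗ₜ[C] g) = algebraMap k (Fn H) (χ m) * L g := hω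
  have hfix : ω' x = f := by
    let hu : VecGrp.pt k (Fn H) ⟶ H := univ H
    let ca : VecGrp.pt k (Fn H) ⟶ G := ptHom ((Algebra.ofId k (Fn H)).comp (pfn a))
    have e : VecGrp.ptMap ω' ≫ h₁ = hu := by
      rw [← cancel_mono i]
      have h3 := congrArg (VecGrp.ptMap ω' ≫ ·) hh₁
      simp only [MonObj.comp_mul, ptMap_ptHom] at h3
      have e1 : ω'.comp ι₁ = (Algebra.ofId k (Fn H)).comp (pfn a) := AlgHom.ext fun g => by
        show ω' ((algebraMap (Fn G) M g) ⊗ₜ[C] (1 : Fn G)) = _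
        rw [hω', map_one, _root_.mul_one, hχ]
        rfl
      have e2 : ω'.comp ι₂ = pfn (ca * (hu ≫ i)) := AlgHom.ext fun g => ext_pts fun t => by
        show pfn t (ω' ((1 : M) ⊗ₜ[C] g)) = _
        rw [hω', map_one, map_one, _root_.one_mul, hL]
        have e3 : (pfn t).comp (pfn (ca * (hu ≫ i))) = pfn (a * (t ≫ i)) := by
          rw [← pfn_ptMap, MonObj.comp_mul, ptMap_ptHom, ← Category.assoc]
          congr 2
          · exact pfn_injective ((pfn_ptHom _).trans (AlgHom.ext fun y => (pfn t).commutes _))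
          · congr 1
            exact ptMap_pfn_univ t
        exact (AlgHom.congr_fun e3 g).symm
      rw [e1, e2] at h3
      have h4 : ptHom (pfn (ca * (hu ≫ i))) = ca * (hu ≫ i) := pfn_injective (pfn_ptHom _)
      rw [h4] at h3
      simpa only [Category.assoc] using mul_left_cancel h3
    have h2 := AlgHom.congr_fun (pfn_ptMap ω' h₁) f
    rw [e] at h2
    rw [show ω' x = pfn hu f from h2.symm, pfn_univ]
    rfl
  have hL' : ∀ w : Fn G, d w = 0 → Inv' (κ ≫ i) w := fun w hw t => ext_pts fun z => by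
    have h4 : δ₀ w = w ⊗ₜ[k] 1 := sub_eq_zero.mp hw
    let χzt : Fn G ⊗[k] Fn K →ₐ[k] k := Algebra.TensorProduct.lift (pfn z) (pfn t) fun _ _ => .all _ _
    have h5 := congrArg χzt h4
    have h6 : χzt (δ₀ w) = pfn (VecGrp.ptMap χzt ≫ tG) w := (AlgHom.congr_fun (pfn_ptMap χzt tG) w).symm
    have e : VecGrp.ptMap χzt ≫ tG = z * (t ≫ κ ≫ i) := by
      simp only [tG, MonObj.comp_mul, ← Category.assoc, ptMap_ptHom]
      congr 1
      · refine pfn_injective ((pfn_ptHom _).trans (AlgHom.ext fun y => ?_))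
        simp [eL, χzt]
      · congr 2
        refine pfn_injective ((pfn_ptHom _).trans (AlgHom.ext fun y => ?_))
        simp [eR, χzt]
    rw [h6, e] at h5
    rw [pfn_rMap', h5]
    simp [χzt]
  rw [← hfix, ← hy]
  clear hy hker
  induction y using TensorProduct.induction_on with
  | zero => exact ⟨0, fun t => map_zero _, by simp⟩
  | tmul m w =>
    refine ⟨χ m • lMap a (w : Fn G), fun t => ?_, ?_⟩
    · rw [map_smul, rMap_lMap, hL' _ w.2 t]
    · rw [map_smul, Algebra.smul_def, LinearMap.lTensor_tmul, hω']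
      rfl
  | add p q hp hq =>
    obtain ⟨F, hF, eF⟩ := hp
    obtain ⟨F', hF', eF'⟩ := hq
    exact ⟨F + F', fun t => by rw [map_add, hF t, hF' t], by rw [map_add, eF, eF', map_add, map_add]⟩

/-- For an observable subgroup every invariant function on it extends to an invariant function on the group. -/
theorem exists_extension_invariant (hobs : AGF.IsObservableIn k i) {f : Fn H} (hf : Inv' κ f) :
    ∃ F : Fn G, Inv' (κ ≫ i) F ∧ ev i F = f := by
  classical
  haveI := isReduced_grp G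
  haveI := finiteType_fn G
  haveI : _root_.IsReduced (Fn G) := inferInstanceAs (_root_.IsReduced Γ(G.left, ⊤))
  haveI : Nontrivial (Fn G) := RingHom.domain_nontrivial (pfn (1 : Rat G)).toRingHom
  obtain ⟨s, hs, hsep⟩ := exists_sep_points i hobs
  let C := Algebra.adjoin k (s : Set (Fn G))
  haveI : Algebra.FiniteType k C := (Subalgebra.fg_iff_finiteType C).mp (Subalgebra.fg_adjoin_finset s)
  haveI : _root_.IsReduced C := isReduced_of_injective C.val Subtype.val_injective
  haveI : Algebra.FiniteType C (Fn G) := Algebra.FiniteType.of_restrictScalars_finiteType k C (Fn G)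
  obtain ⟨c, hc, hgood, -⟩ := GenFreeRed.exists_isGood C (Fn G) (Fn G) 1 one_ne_zero
  rw [_root_.one_mul] at hc hgood
  haveI := hgood
  haveI := flat_away_of_free (B := Fn G) c
  obtain ⟨a, ha⟩ : ∃ a : Rat G, pfn a (c : Fn G) ≠ 0 := by
    by_contra hh
    push Not at hh
    exact hc (Subtype.ext (eq_zero_of_val _ hh))
  exact exists_extension_core i κ (C := C)
    (fun z h => (Algebra.adjoin_le (fun x hx => hs x hx h) :
      C ≤ AlgHom.equalizer (rMap (h ≫ i)) (AlgHom.id k (Fn G))) z.2)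
    (fun T g g' hgg => hsep T g g' fun f hf => hgg ⟨f, Algebra.subset_adjoin hf⟩) c a ha hf

end Groth.Agent.Obs28
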