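import Groth.Agent.RedRk29.NormWeyl
import Groth.Agent.RedRk29.ConjRoot
import Groth.Agent.RedRk29.Geom
import Groth.Agent.AGFRoot.BorelConj
import Groth.Agent.MaxTorusLib.FieldExt
import Groth.Agent.RootData.Weyl
import Groth.Agent.RedSub30.TorusOverField
import Groth.Agent.Obs28.CentreRoots

/-! The root data of two splittings of a group over an algebraically closed field are equivalent. -/

set_option autoImplicit false
set_option linter.style.haveILetI false
set_option linter.unusedSectionVars false

universe u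

open CategoryTheory CategoryTheory.Limits MonoidalCategory CartesianMonoidalCategory AlgebraicGeometry WithConv
open scoped MonObj GrpObj AddMonoidAlgebra

noncomputable section

namespace Groth.Agent.Obs28.RootU

open BigCell29 RedRk29 Rank2Red38

variable {k : Type u} [Field k]

local notation "f₀" => (𝟙 (Spec (CommRingCat.of k)) : Spec (CommRingCat.of k) ⟶ Spec (CommRingCat.of k))

/-- Points with values in a subalgebra form a subgroup. -/
theorem pt_mul_mem {A B : Type u} [CommRing A] [HopfAlgebra k A] [CommRing B] [Algebra k B] (V : Subalgebra k B)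
    {p q : Pt k A B} (hp : ∀ a, p a ∈ V) (hq : ∀ a, q a ∈ V) (a : A) : (p * q) a ∈ V := by
  obtain ⟨p₀, rfl⟩ : ∃ p₀ : Pt k A V, mapPt V.val p₀ = p :=
    ⟨toConv (p.ofConv.codRestrict V hp), pt_ext fun a => rfl⟩
  obtain ⟨q₀, rfl⟩ : ∃ q₀ : Pt k A V, mapPt V.val q₀ = q :=
    ⟨toConv (q.ofConv.codRestrict V hq), pt_ext fun a => rfl⟩
  rw [← map_mul]
  exact ((p₀ * q₀) a).2

theorem cst_mem {A B : Type u} [CommRing A] [HopfAlgebra k A] [CommRing B] [Algebra k B] (V : Subalgebra k B)
    (g : Pt k A k) (a : A) : cstPt B g a ∈ V := V.algebraMap_mem _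

/-- A group-like element of a group algebra over a field is a monomial. -/
theorem exists_single {N : Type} [AddCommGroup N] (x : k[N]) (hu : IsUnit x)
    (h : AddMonoidAlgebra.lift k k[N][N] N (univChar k[N] N *
        (AddMonoidAlgebra.singleZeroAlgHom (R := k) (A := k[N]) (M := N)).toRingHom.toMonoidHom.comp (univChar k N)) x =
      AddMonoidAlgebra.lift k k[N][N] N (univChar k[N] N) x *
        AddMonoidAlgebra.lift k k[N][N] N
          ((AddMonoidAlgebra.singleZeroAlgHom (R := k) (A := k[N]) (M := N)).toRingHom.toMonoidHom.comp (univChar k N)) x) :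
    ∃ n : N, x = AddMonoidAlgebra.single n 1 := by
  classical
  set χ₁ := univChar k[N] N
  set χ₂ := (AddMonoidAlgebra.singleZeroAlgHom (R := k) (A := k[N]) (M := N)).toRingHom.toMonoidHom.comp (univChar k N)
  have h1 : ∀ (y : k[N]) (n p : N), ((AddMonoidAlgebra.lift k k[N][N] N (χ₁ * χ₂) y).coeff n).coeff p =
      if n = p then y.coeff n else 0 := by
    intro y n p
    induction y using AddMonoidAlgebra.induction_linear with
    | zero => simp
    | add a b ha hb => simp only [map_add, AddMonoidAlgebra.coeff_add, Finsupp.add_apply, ha, hb]; split_ifs <;> simp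
    | single m r =>
      have e : AddMonoidAlgebra.lift k k[N][N] N (χ₁ * χ₂) (AddMonoidAlgebra.single m r) =
          AddMonoidAlgebra.single m (AddMonoidAlgebra.single m r) := by
        simp [χ₁, χ₂, AddMonoidAlgebra.single_mul_single, AddMonoidAlgebra.smul_single]
      rw [e]
      simp only [AddMonoidAlgebra.coeff_single, Finsupp.single_apply]
      by_cases h1 : m = n
      · subst h1
        rw [if_pos rfl, if_pos rfl]
        simp [Finsupp.single_apply]
      · rw [if_neg h1, if_neg h1]
        simp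
  have h2 : ∀ y : k[N], AddMonoidAlgebra.lift k k[N][N] N χ₁ y =
      AddMonoidAlgebra.mapAlgHom N (Algebra.ofId k k[N]) y := by
    intro y
    induction y using AddMonoidAlgebra.induction_linear with
    | zero => simp
    | add a b ha hb => simp [ha, hb]
    | single m r => simp [χ₁, AddMonoidAlgebra.smul_single, Algebra.smul_def]
  have h3 : ∀ y : k[N], AddMonoidAlgebra.lift k k[N][N] N χ₂ y = AddMonoidAlgebra.single 0 y := by
    intro y
    induction y using AddMonoidAlgebra.induction_linear with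
    | zero => simp
    | add a b ha hb => simp [ha, hb, AddMonoidAlgebra.single_add]
    | single m r => simp [χ₂, AddMonoidAlgebra.smul_single]
  have key : ∀ n p : N, (if n = p then x.coeff n else 0) = x.coeff n * x.coeff p := by
    intro n p
    rw [← h1 x n p, h, h2, h3]
    simp [AddMonoidAlgebra.coeff_mul_single_zero, Algebra.smul_def]
  obtain ⟨n, hn⟩ : ∃ n, x.coeff n ≠ 0 := by
    by_contra hc
    push Not at hc
    exact hu.ne_zero (AddMonoidAlgebra.coeff_injective (Finsupp.ext fun n => by simpa using hc n))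
  refine ⟨n, AddMonoidAlgebra.coeff_injective (Finsupp.ext fun p => ?_)⟩
  have hk := key n p
  by_cases hp : n = p
  · subst hp
    rw [if_pos rfl] at hk
    simpa using (mul_left_cancel₀ hn (by rw [← hk, mul_one] : x.coeff n * x.coeff n = x.coeff n * 1))
  · rw [if_neg hp] at hk
    simpa [Finsupp.single_apply, hp] using (mul_eq_zero.mp hk.symm).resolve_left hn

variable {G : Over (Spec (CommRingCat.of k))} [GrpObj G] (D D' : Red.SplitRed G)

/-- A homomorphism of split tori is a map of lattices, on affine points. -/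
theorem exists_lattice (e : D'.T ⟶ D.T) [IsMonHom e] :
    ∃ f : D.M →+ D'.M, ∀ (B : Type u) [CommRing B] [Algebra k B] (χ : Multiplicative D'.M →* B),
      chPt f₀ χ ≫ D'.split.inv.hom.hom ≫ e = chPt f₀ (χ.comp f.toMultiplicative) ≫ D.split.inv.hom.hom := by
  haveI : IsMonHom D'.split.inv.hom.hom := D'.split.inv.hom.isMonHom_hom
  haveI : IsMonHom D.split.hom.hom.hom := D.split.hom.hom.isMonHom_hom
  set h := D'.split.inv.hom.hom ≫ e ≫ D.split.hom.hom.hom
  obtain ⟨c, hc⟩ := (chPt_bijective f₀).surjective (chPt f₀ (univChar k D'.M) ≫ h)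
  have hnat : ∀ (B : Type u) [CommRing B] [Algebra k B] (χ : Multiplicative D'.M →* B),
      chPt f₀ χ ≫ h = chPt f₀ ((AddMonoidAlgebra.lift k B D'.M χ).toRingHom.toMonoidHom.comp c) := fun B _ _ χ => by
    have key := (Category.assoc (tMap f₀ (AddMonoidAlgebra.lift k B D'.M χ)) (chPt f₀ (univChar k D'.M)) h).trans
      (congrArg (tMap f₀ (AddMonoidAlgebra.lift k B D'.M χ) ≫ ·) hc.symm)
    have e1 : (AddMonoidAlgebra.lift k B D'.M χ).toRingHom.toMonoidHom.comp (univChar k D'.M) = χ :=
      MonoidHom.ext fun m => by simp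
    rwa [chPt_map, chPt_map, e1] at key
  have hc' : ∀ m, ∃ n : D'.M, c m = AddMonoidAlgebra.single n 1 := fun m => by
    refine exists_single (c m) (IsUnit.map c (Group.isUnit m)) ?_
    have h2 := (hnat _ (univChar k[D'.M] D'.M *
      (AddMonoidAlgebra.singleZeroAlgHom (R := k) (A := k[D'.M]) (M := D'.M)).toRingHom.toMonoidHom.comp (univChar k D'.M)))
    rw [chPt_mul, MonObj.mul_comp, hnat, hnat, ← chPt_mul] at h2
    exact (DFunLike.congr_fun ((chPt_bijective f₀).injective h2) m).symm
  choose φ hφ using hc'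
  let f : D.M →+ D'.M := AddMonoidHom.mk' (fun m => φ (Multiplicative.ofAdd m)) fun a b => by
    have := map_mul c (Multiplicative.ofAdd a) (Multiplicative.ofAdd b)
    rw [hφ, hφ, hφ, AddMonoidAlgebra.single_mul_single, one_mul] at this
    exact AddMonoidAlgebra.single_left_injective one_ne_zero this
  refine ⟨f, fun B _ _ χ => ?_⟩
  have e1 : (AddMonoidAlgebra.lift k B D'.M χ).toRingHom.toMonoidHom.comp c = χ.comp f.toMultiplicative := by
    refine MonoidHom.ext fun m => ?_
    simp [hφ, f]
  have h1 := hnat B χ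
  rw [e1] at h1
  rw [← h1]
  simp only [h, Category.assoc]
  rw [show D.split.hom.hom.hom ≫ D.split.inv.hom.hom = 𝟙 _ from congrArg (fun k => k.hom.hom) D.split.hom_inv_id,
    Category.comp_id]

variable {D D'} (g : 𝟙_ (Over (Spec (CommRingCat.of k))) ⟶ G) {f : D.M →+ D'.M}

/-- Conjugation by `g` carries the torus of `D'` to that of `D` through `f`. -/
def IsConjLattice (D D' : Red.SplitRed G) (g : 𝟙_ (Over (Spec (CommRingCat.of k))) ⟶ G) (f : D.M →+ D'.M) : Prop :=
  ∀ (B : Type u) [CommRing B] [Algebra k B] (χ : Multiplicative D'.M →* B),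
    (toUnit (tObj f₀ B) ≫ g) * torG D' χ * (toUnit (tObj f₀ B) ≫ g)⁻¹ = torG D (χ.comp f.toMultiplicative)

theorem exists_conjLattice (e : D'.T ⟶ D.T) [IsMonHom e] (he : e ≫ D.i = AGF.conjBy g D'.i) :
    ∃ f : D.M →+ D'.M, IsConjLattice D D' g f := by
  obtain ⟨f, hf⟩ := exists_lattice D D' e
  refine ⟨f, fun B _ _ χ => ?_⟩
  have h := congrArg ((chPt f₀ χ ≫ D'.split.inv.hom.hom) ≫ ·) he
  dsimp only at h
  rw [← Category.assoc, Category.assoc _ _ e, hf, AGFRoot.comp_conjBy] at h
  simp only [AGF.conjBy, torG, Category.assoc] at h ⊢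
  exact h.symm

theorem comp_eq_id {f' : D'.M →+ D.M} (hf : IsConjLattice D D' g f) (hf' : IsConjLattice D' D g⁻¹ f') (m : D.M) :
    f' (f m) = m := by
  have h1 := hf' k[D.M] (univChar k D.M)
  have h2 := hf k[D.M] ((univChar k D.M).comp f'.toMultiplicative)
  rw [← h1, GrpObj.comp_inv] at h2
  simp only [inv_inv, mul_assoc, mul_inv_cancel_left, inv_mul_cancel_left, mul_inv_cancel, inv_mul_cancel, mul_one] at h2
  have h3 := DFunLike.congr_fun (torG_injective D h2) (Multiplicative.ofAdd m)
  simp [univChar] at h3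
  exact (AddMonoidAlgebra.single_left_injective one_ne_zero h3).symm

/-- Roots are carried to roots. -/
theorem exists_root {f' : D'.M →+ D.M} (hf : IsConjLattice D D' g f) (hf' : IsConjLattice D' D g⁻¹ f')
    (a : D'.idx) : ∃ c : D.idx, D.P.root c = f' (D'.P.root a) := by
  classical
  have hinv : ∀ m, f (f' m) = m := comp_eq_id g⁻¹ hf' (by rwa [inv_inv])
  by_contra hcon
  push Not at hcon
  have : IsAffineHom G.hom := D.reductive.1
  obtain ⟨A, _, _, ⟨Md⟩⟩ := exists_model f₀ G
  set F := Md.frame D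
  set g0 : Pt k A k := Md.ofPt (toUnit (tObj f₀ k) ≫ g)
  have hg0 : ∀ (B : Type u) [CommRing B] [Algebra k B], Md.pt (cstPt B g0) = toUnit (tObj f₀ B) ≫ g := fun B _ _ => by
    rw [cstPt, Md.pt_map, Md.pt_ofPt, ← Category.assoc, toUnit_unique (_ ≫ toUnit _) (toUnit _)]
  let P := Polynomial k
  let u₂ : ∀ (B : Type u) [CommRing B] [Algebra k B], B → Pt k A B := fun B _ _ y =>
    cstPt B g0 * (Md.frame D').rt a y * (cstPt B g0)⁻¹
  let φ : A →ₐ[k] Polynomial k := (u₂ (Polynomial k) Polynomial.X).ofConv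
  have hline : ∀ (B : Type u) [CommRing B] [Algebra k B] (y : B), linePt φ y = u₂ B y := fun B _ _ y => by
    have e : linePt φ y = mapPt (Polynomial.aeval y) (u₂ (Polynomial k) Polynomial.X) := rfl
    rw [e]
    simp only [u₂, map_mul, map_inv, PreFrame.mapPt_rt, mapPt_cstPt, Polynomial.aeval_X]
  have hsurj : Function.Surjective φ := by
    let V := φ.range
    have h2 : ∀ x, u₂ (Polynomial k) Polynomial.X x ∈ V := fun x => ⟨x, rfl⟩
    have h3 : (Md.frame D').rt a (Polynomial.X : Polynomial k) =
        cstPt (Polynomial k) g0⁻¹ * u₂ (Polynomial k) Polynomial.X * cstPt (Polynomial k) g0 := by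
      simp only [u₂, map_inv]; group
    intro x
    obtain ⟨b, hb⟩ := (Md.frame D').φ_surj a x
    have hb' : (Md.frame D').rt a (Polynomial.X : Polynomial k) b = x := by
      rw [PreFrame.rt, linePt_apply, Polynomial.aeval_X_left_apply, hb]
    have hm : x ∈ V := by
      rw [← hb', h3]
      exact pt_mul_mem V (pt_mul_mem V (cst_mem V _) h2) (cst_mem V _) b
    exact hm
  let F1 : PreFrame k A D.M Unit :=
    { T := F.T
      root := fun _ => f' (D'.P.root a)
      φ := fun _ => φ
      root_inj := fun _ _ _ => Subsingleton.elim _ _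
      π_surj := F.π_surj
      φ_surj := fun _ => hsurj
      rt_add := fun B _ _ _ x y => by
        have := (Md.frame D').rt_add B a x y
        simp only [hline, u₂, PreFrame.rt, this]; group
      conj := fun B _ _ _ χ x => by
        simp only [hline, u₂]
        refine Md.pt_bijective.injective ?_
        have hχ := hf B (χ.comp f'.toMultiplicative)
        rw [show (χ.comp f'.toMultiplicative).comp f.toMultiplicative = χ from
          MonoidHom.ext fun m => congrArg χ (congrArg Multiplicative.ofAdd (comp_eq_id g hf hf' _))] at hχ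
        simp only [Md.pt_mul, Md.pt_inv, hg0, Md.pt_rt, F, Md.pt_tor, ← hχ]
        have hr := rtG_conj (f := f₀) D' a (χ.comp f'.toMultiplicative) x
        calc (toUnit _ ≫ g) * torG D' (χ.comp f'.toMultiplicative) * (toUnit _ ≫ g)⁻¹ *
              ((toUnit _ ≫ g) * rtG D' a x * (toUnit _ ≫ g)⁻¹)
            = (toUnit _ ≫ g) * (torG D' (χ.comp f'.toMultiplicative) * rtG D' a x) * (toUnit _ ≫ g)⁻¹ := by group
          _ = _ := by rw [hr]; simp only [MonoidHom.comp_apply, AddMonoidHom.toMultiplicative_apply_apply, toAdd_ofAdd]; group }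
  obtain ⟨a0, ha0⟩ := hsurj Polynomial.X
  have hα0 : f' (D'.P.root a) ≠ 0 := fun h => D'.P.ne_zero a (by rw [← hinv (D'.P.root a), h, map_zero])
  set y := F.T.coact.p (f' (D'.P.root a)) a0
  have hdu : F1.du () y = 1 := by
    rw [show y = F1.T.coact.p (F1.root ()) a0 from rfl, F1.du_p_self, PreFrame.du_apply]
    show (φ a0).coeff 1 = 1
    rw [ha0, Polynomial.coeff_X_one]
  have hπ : F.T.π y = 0 := F.π_p_ne hα0 a0
  have haug : y ∈ aug k A := by
    rw [mem_aug]
    have h : F.T.tor (1 : Multiplicative D.M →* k) y = 0 := by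
      show AddMonoidAlgebra.lift k k D.M 1 (F.T.π y) = 0
      rw [hπ, map_zero]
    rw [map_one] at h
    simpa using h
  have hy2 : y ∈ aug k A ^ 2 := F.cot y haug
    (fun l => by simp [PreFrame.dT, hπ])
    (fun i => F.du_p_ne (hcon i) a0)
  have h0 : ∀ b ∈ aug k A, (φ b).coeff 0 = 0 := fun b hb => by
    have h1 := DFunLike.congr_fun (congrArg WithConv.ofConv (F1.rt_zero (B := k) ())) b
    rw [PreFrame.rt, linePt_apply] at h1
    rw [Polynomial.coeff_zero_eq_eval_zero]
    have h2 : Polynomial.aeval (0 : k) (φ b) = 0 := h1.trans (by simpa using mem_aug.mp hb)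
    rwa [Polynomial.coe_aeval_eq_eval] at h2
  have hvan : ∀ z ∈ aug k A ^ 2, F1.du () z = 0 := fun z hz => by
    rw [pow_two] at hz
    refine Submodule.mul_induction_on hz (fun p hp q hq => ?_) fun p q hp hq => by rw [map_add, hp, hq, add_zero]
    show (φ (p * q)).coeff 1 = 0
    rw [map_mul, Polynomial.coeff_mul]
    simp [Finset.Nat.antidiagonal_succ, h0 p hp, h0 q hq]
  exact one_ne_zero (hdu ▸ hvan y hy2)

/-- The reflections correspond. -/
theorem reflection_eq [IsAlgClosed k] (e : D'.T ≅ D.T) (he : e.hom ≫ D.i = AGF.conjBy g D'.i)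
    {f' : D'.M →+ D.M} (hf : IsConjLattice D D' g f)
    (hf' : IsConjLattice D' D g⁻¹ f') (a : D'.idx) (c : D.idx) (hac : D.P.root c = f' (D'.P.root a)) (m : D.M) :
    f' (D'.P.reflection a (f m)) = D.P.reflection c m := by
  classical
  obtain ⟨n', hn'⟩ := D'.refl a
  haveI : Nonempty (Spec (CommRingCat.of k)) := ⟨IsLocalRing.closedPoint k⟩
  have hinv : ∀ m, f (f' m) = m := comp_eq_id g⁻¹ hf' (by rwa [inv_inv])
  let s' : D.M →+ D.M := f'.comp ((D'.P.reflection a).toLinearMap.toAddMonoidHom.comp f)
  -- the conjugated representative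
  let n : 𝟙_ (Over (Spec (CommRingCat.of k))) ⟶ G := g * n' * g⁻¹
  have hn : ∀ (B : Type u) [CommRing B] [Algebra k B] (χ : Multiplicative D.M →* B),
      (toUnit (tObj f₀ B) ≫ n) * torG D χ * (toUnit (tObj f₀ B) ≫ n)⁻¹ = torG D (χ.comp s'.toMultiplicative) := by
    intro B _ _ χ
    have h1 := hf B (χ.comp f'.toMultiplicative)
    rw [show (χ.comp f'.toMultiplicative).comp f.toMultiplicative = χ from
      MonoidHom.ext fun m => congrArg χ (congrArg Multiplicative.ofAdd (comp_eq_id g hf hf' _))] at h1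
    have h2 := hn' (tObj f₀ B) (chPt f₀ (χ.comp f'.toMultiplicative) ≫ D'.split.inv.hom.hom)
    have hid' : D'.split.inv.hom.hom ≫ D'.split.hom.hom.hom = 𝟙 _ := congrArg (fun k => k.hom.hom) D'.split.inv_hom_id
    simp only [Category.assoc, reassoc_of% hid'] at h2
    have hch : ∀ (Z : Over (Spec (CommRingCat.of k))) (q : Red.DS (Spec (CommRingCat.of k)) D'.M ⟶ Z)
        (χ' : Multiplicative D'.M →* B) (φ : D'.M →+ D'.M),
        chPt f₀ χ' ≫ Red.DSmap _ φ ≫ q = chPt f₀ (χ'.comp φ.toMultiplicative) ≫ q := fun Z q χ' φ => by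
      rw [← Category.assoc, chPt_DSmap]
    rw [hch] at h2
    have h3 := hf B ((χ.comp f'.toMultiplicative).comp (D'.P.reflection a).toLinearMap.toAddMonoidHom.toMultiplicative)
    rw [← h1]
    simp only [n, MonObj.comp_mul, GrpObj.comp_inv]
    simp only [torG, Category.assoc] at h2 h3 ⊢
    rw [show χ.comp s'.toMultiplicative = ((χ.comp f'.toMultiplicative).comp
      (D'.P.reflection a).toLinearMap.toAddMonoidHom.toMultiplicative).comp f.toMultiplicative from rfl, ← h3, ← h2]
    group
  have hnorm : ∀ (X' : Over (Spec (CommRingCat.of k))) (y : X' ⟶ 𝟙_ (Over (Spec (CommRingCat.of k)))) (t : X' ⟶ D.T), ∃ t' : X' ⟶ D.T,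
      (y ≫ n) * (t ≫ D.i) * (y ≫ n)⁻¹ = t' ≫ D.i := by
    intro X' y t
    have hy : y = toUnit X' := toUnit_unique _ _
    subst hy
    obtain ⟨t₁, ht₁⟩ : ∃ t₁ : X' ⟶ D'.T,
        (toUnit X' ≫ n') * ((t ≫ e.inv) ≫ D'.i) * (toUnit X' ≫ n')⁻¹ = t₁ ≫ D'.i :=
      ⟨(t ≫ e.inv) ≫ D'.split.hom.hom.hom ≫
          Red.DSmap _ (D'.P.reflection a).toLinearMap.toAddMonoidHom ≫ D'.split.inv.hom.hom,
        (hn' X' (t ≫ e.inv)).trans (by simp only [Category.assoc])⟩
    refine ⟨t₁ ≫ e.hom, ?_⟩
    have h1 : t ≫ D.i = AGF.conjBy g ((t ≫ e.inv) ≫ D'.i) := by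
      rw [← AGFRoot.comp_conjBy, ← he, Category.assoc, Iso.inv_hom_id_assoc]
    rw [Category.assoc t₁, he, AGFRoot.comp_conjBy, ← ht₁, h1]
    simp only [n, AGF.conjBy, MonObj.comp_mul, GrpObj.comp_inv]
    group
  haveI : ConnectedSpace (𝟙_ (Over (Spec (CommRingCat.of k)))).left := inferInstanceAs (ConnectedSpace (PrimeSpectrum k))
  obtain ⟨l, hl⟩ := exists_word_of_normalizing D (𝟙_ (Over (Spec (CommRingCat.of k)))) n hnorm
  have hsw : s' = wordMap D l := by
    have h1 := hl (tObj f₀ k[D.M]) (toUnit _) (chPt f₀ (univChar k D.M) ≫ D.split.inv.hom.hom)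
    have h2 := hn k[D.M] (univChar k D.M)
    simp only [torG, Category.assoc] at h1 h2
    rw [h2] at h1
    have h3 : torG (f := f₀) D ((univChar k D.M).comp s'.toMultiplicative) =
        torG D ((univChar k D.M).comp (wordMap D l).toMultiplicative) := by
      rw [torG, torG, h1, actT]
      simp only [Category.assoc]
      rw [← Category.assoc D.split.inv.hom.hom, show D.split.inv.hom.hom ≫ D.split.hom.hom.hom = 𝟙 _ from
        congrArg (fun k => k.hom.hom) D.split.inv_hom_id, Category.id_comp, ← Category.assoc, chPt_DSmap]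
    refine AddMonoidHom.ext fun m => ?_
    exact AddMonoidAlgebra.single_left_injective one_ne_zero
      (DFunLike.congr_fun (torG_injective D h3) (Multiplicative.ofAdd m))
  have hword : ∀ (l : List D.idx) (m : D.M), RootData.word D.P l • m = wordMap D l m := by
    intro l
    induction l with
    | nil => intro m; simp [RootData.word, wordMap]
    | cons b l ih =>
      intro m
      rw [RootData.word_cons, mul_smul, ih, RootPairing.Equiv.reflection_smul]
      simp [wordMap]
  let w : D.P.Aut := RootPairing.Equiv.reflection D.P c * RootData.word D.P l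
  have hw : w ∈ D.P.weylGroup := mul_mem (D.P.reflection_mem_weylGroup c) (RootData.gen_le Set.univ (RootData.word_mem_gen fun _ _ => Set.mem_univ _))
  have hwm : ∀ m, w • m = D.P.reflection c (s' m) := fun m => by
    rw [mul_smul, hword, RootPairing.Equiv.reflection_smul, hsw]
  -- the product is a translation along the root
  set d : D.M → ℤ := fun m => D.P.coroot' c m - D'.P.coroot' a (f m)
  have hs' : ∀ m, s' m = m - D'.P.coroot' a (f m) • D.P.root c := fun m => by
    show f' (D'.P.reflection a (f m)) = _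
    rw [RootPairing.reflection_apply, map_sub, map_zsmul, comp_eq_id g hf hf', hac]
  have hd : ∀ m, w • m = m - d m • D.P.root c := fun m => by
    rw [hwm, hs', RootPairing.reflection_apply, map_sub, map_zsmul, D.P.root_coroot'_eq_pairing, D.P.pairing_same,
      smul_eq_mul]
    simp only [d]
    module
  have hdc : d (D.P.root c) = 0 := by
    simp only [d]
    rw [hac, hinv, ← hac, D.P.root_coroot'_eq_pairing, D'.P.root_coroot'_eq_pairing, D.P.pairing_same,
      D'.P.pairing_same, sub_self]
  have hadd : ∀ (x : D.M) (n : ℤ), d (x + n • D.P.root c) = d x := fun x n => by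
    have h1 : D'.P.coroot' a (f (D.P.root c)) = D.P.coroot' c (D.P.root c) := (sub_eq_zero.mp hdc).symm
    simp only [d, map_add, map_zsmul, smul_eq_mul, h1]
    ring
  have hfix : ∀ i : D.idx, w • i = i := by
    intro i
    have hit : ∀ p : ℕ, D.P.root ((w ^ p) • i) = D.P.root i - (p * d (D.P.root i)) • D.P.root c := by
      intro p
      induction p with
      | zero => simp
      | succ p ih =>
        rw [pow_succ', mul_smul]
        have h1 : D.P.root (w • ((w ^ p) • i)) = w • D.P.root ((w ^ p) • i) :=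
          (RootPairing.Hom.root_weightMap_apply D.P D.P _ w.toHom).symm
        rw [h1, hd, ih, sub_eq_add_neg _ ((p * d (D.P.root i)) • D.P.root c), ← neg_smul, hadd]
        push_cast
        module
    have hz : d (D.P.root i) = 0 := by
      by_contra hz
      obtain ⟨p, q, hne, he⟩ := Finite.exists_ne_map_eq_of_infinite fun p : ℕ => (w ^ p) • i
      have := congrArg D.P.root he
      rw [hit, hit, sub_right_inj] at this
      have := smul_left_injective ℤ (D.P.ne_zero c) this
      exact hne (by exact_mod_cast mul_right_cancel₀ hz this)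
    have h1 : D.P.root (w • i) = D.P.root i := by simpa [hz] using hit 1
    exact D.P.root.injective h1
  have hone := RootData.weylGroup_eq_one_of_fix hw hfix
  have h2 := hwm m
  rw [hone, one_smul] at h2
  show s' m = _
  conv_rhs => rw [h2]
  rw [D.P.reflection_same]

end Groth.Agent.Obs28.RootU

namespace Groth.Agent.Obs28.RootU

open BigCell29 RedRk29 Rank2Red38

variable {k : Type u} [Field k] [IsAlgClosed k] {G : Over (Spec (CommRingCat.of k))} [GrpObj G]

theorem equiv_of_conj (D D' : Red.SplitRed G)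
    (hconj : ∃ g : 𝟙_ (Over (Spec (CommRingCat.of k))) ⟶ G,
      ∀ (X : Over (Spec (CommRingCat.of k))) (t : X ⟶ D'.T), ∃ t' : X ⟶ D.T,
        (toUnit X ≫ g) * (t ≫ D'.i) * (toUnit X ≫ g)⁻¹ = t' ≫ D.i) : Nonempty (RootPairing.Equiv D'.P D.P) := by
  classical
  obtain ⟨g, hg⟩ := hconj
  haveI := D.maximalTorus.1
  haveI := D.maximalTorus.2.1
  haveI := D'.maximalTorus.1
  haveI := D'.maximalTorus.2.1
  obtain ⟨e, he⟩ := hg D'.T (𝟙 _)
  rw [Category.id_comp] at he
  have he' : e ≫ D.i = AGF.conjBy g D'.i := he.symm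
  haveI : IsMonHom (e ≫ D.i) := by rw [he']; infer_instance
  haveI : IsMonHom e := RedSub30.isMonHom_of_mono D.i e
  haveI : IsIso e := by
    obtain ⟨s⟩ : Nonempty ↥(Spec (CommRingCat.of k)) := ⟨IsLocalRing.closedPoint k⟩
    haveI := MaxTorusLib.isIso_geomPt s
    haveI : (Over.pullback (Red.geomPt s)).PreservesMonomorphisms :=
      Functor.preservesMonomorphisms_of_adjunction (Over.mapPullbackAdj (Red.geomPt s))
    refine MaxTorusLib.isIso_of_map_isIso (Red.geomPt s) e ?_
    exact D'.maximalTorus.2.2.2 s _ ((Over.pullback (Red.geomPt s)).map (AGF.conjBy g⁻¹ D.i))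
      ((Over.pullback (Red.geomPt s)).map e) (RedSub30.TorusAbsorb.isTorus_bc _ D.maximalTorus.2.2.1)
      (by rw [← Functor.map_comp, AGFRoot.comp_conjBy, he', AGFRoot.conjBy_inv_cancel'])
  have he'' : inv e ≫ D'.i = AGF.conjBy g⁻¹ D.i := by
    rw [IsIso.inv_comp_eq, AGFRoot.comp_conjBy, he', AGFRoot.conjBy_inv_cancel']
  haveI : IsMonHom (inv e ≫ D'.i) := by rw [he'']; infer_instance
  haveI : IsMonHom (inv e) := RedSub30.isMonHom_of_mono D'.i (inv e)
  obtain ⟨f, hf⟩ := exists_conjLattice g e he'
  obtain ⟨f', hf'⟩ := exists_conjLattice g⁻¹ (inv e) he''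
  have hff : ∀ m, f' (f m) = m := comp_eq_id g hf hf'
  have hff' : ∀ m, f (f' m) = m := comp_eq_id g⁻¹ hf' (by rwa [inv_inv])
  choose σ hσ using exists_root g hf hf'
  choose τ hτ using exists_root g⁻¹ hf' (f' := f) (by rwa [inv_inv])
  let ie : D'.idx ≃ D.idx :=
    { toFun := σ
      invFun := τ
      left_inv := fun a => D'.P.root.injective (by rw [hτ, hσ, hff'])
      right_inv := fun c => D.P.root.injective (by rw [hσ, hτ, hff]) }
  have hrefl : ∀ a m, f' (D'.P.reflection a (f m)) = D.P.reflection (σ a) m := fun a m =>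
    reflection_eq g (asIso e) he' hf hf' a (σ a) (hσ a) m
  have hco : ∀ a m, D.P.coroot' (σ a) m = D'.P.coroot' a (f m) := fun a m => by
    have h := hrefl a m
    rw [RootPairing.reflection_apply, RootPairing.reflection_apply, map_sub, map_zsmul, hff, ← hσ, sub_right_inj] at h
    exact (smul_left_injective ℤ (D.P.ne_zero _) h).symm
  have hp : ∀ (φ : Module.Dual ℤ D.M) (x : D.M), D.P.toLinearMap x φ = φ x := fun φ x => by rw [D.pairing_eq]; rfl
  have hp' : ∀ (φ : Module.Dual ℤ D'.M) (x : D'.M), D'.P.toLinearMap x φ = φ x := fun φ x => by rw [D'.pairing_eq]; rfl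
  exact ⟨{
    weightMap := f'.toIntLinearMap
    coweightMap := f'.toIntLinearMap.dualMap
    indexEquiv := ie
    weight_coweight_transpose := by
      refine LinearMap.ext fun φ => LinearMap.ext fun x => ?_
      show D.P.toLinearMap (f' x) φ = D'.P.toLinearMap x (f'.toIntLinearMap.dualMap φ)
      rw [hp, hp']; rfl
    root_weightMap := funext fun a => (hσ a).symm
    coroot_coweightMap := funext fun c => LinearMap.ext fun x => by
      show D.P.coroot c (f' x) = D'.P.coroot (τ c) x
      have h := hco (τ c) (f' x)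
      rw [show σ (τ c) = c from ie.right_inv c, hff'] at h
      rw [← hp, ← hp']
      exact h
    bijective_weightMap := Function.bijective_iff_has_inverse.mpr ⟨f, hff', hff⟩
    bijective_coweightMap := Function.bijective_iff_has_inverse.mpr
      ⟨f.toIntLinearMap.dualMap, fun φ => LinearMap.ext fun x => congrArg φ (hff x),
        fun φ => LinearMap.ext fun x => congrArg φ (hff' x)⟩ }⟩

end Groth.Agent.Obs28.RootU
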