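import Groth.Agent.Obs28.GL
import Groth.Agent.Obs28.Criterion
import Groth.Agent.Obs28.Res
import Groth.Agent.ComodLib.Chevalley
import Groth.Agent.GrpSchLib.LineGroups

/-! Invariants cutting out an observable subgroup scheme-theoretically. -/

universe u

open CategoryTheory MonoidalCategory CartesianMonoidalCategory MonObj GrpObj AlgebraicGeometry
open scoped TensorProduct

namespace Groth.Agent.Obs28

open GrpSchLib.Kunneth

set_option linter.unusedSectionVars false
set_option linter.style.haveILetI false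

theorem det_submatrix_mul {R : Type*} [CommRing R] {m n : Type*} [Fintype m] [DecidableEq m] [Fintype n]
    [DecidableEq n] (A B : Matrix n n R) (i ι' : m → n) :
    ((A * B).submatrix i ι').det = ∑ j : m → n, (∏ l, A (i l) (j l)) * (B.submatrix j ι').det := by
  have h1 : (A * B).submatrix i ι' = Matrix.of fun l => ∑ c, A (i l) c • fun y => B c (ι' y) := by
    ext l y
    simp [Matrix.mul_apply, Finset.sum_apply]
  rw [h1]
  show Matrix.detRowAlternating.toMultilinearMap (fun l => ∑ c, A (i l) c • fun y => B c (ι' y)) = _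
  rw [MultilinearMap.map_sum]
  refine Finset.sum_congr rfl fun j _ => ?_
  rw [MultilinearMap.map_smul_univ, smul_eq_mul]
  rfl

theorem det_submatrix_mul_block {R : Type*} [CommRing R] {d e : ℕ}
    (A B : Matrix (Fin d ⊕ Fin e) (Fin d ⊕ Fin e) R) (hB : ∀ r m, B (Sum.inr r) (Sum.inl m) = 0)
    (i : Fin d → Fin d ⊕ Fin e) :
    ((A * B).submatrix i Sum.inl).det = (A.submatrix i Sum.inl).det * (B.submatrix Sum.inl Sum.inl).det := by
  rw [← Matrix.det_mul]
  congr 1
  ext l y
  simp [Matrix.mul_apply, hB]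

variable {k : Type u} [Field k] [IsAlgClosed k] {G H : Over (Spec (CommRingCat.of k))} [GrpObj G] [GrpObj H]
  [IsAffine G.left] [Smooth G.hom] [IsAffine H.left] [Smooth H.hom] (i : H ⟶ G)

theorem ev_mul_of_inv {f : Fn G} (hf : Inv' i f) {T : Over (Spec (CommRingCat.of k))} (g : T ⟶ G) (h : T ⟶ H) :
    ev (g * (h ≫ i)) f = ev g f := by
  have e : ev ((G ◁ i) ≫ μ[G]) f = ev (fst G H) f := (inv'_iff i f).mpr hf
  have e' := congrArg (ev (lift g h)) e
  rwa [ev_ev, ev_ev, lift_fst, lift_whiskerLeft_assoc, ← Hom.mul_def] at e'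

variable [IsMonHom i]

/-- An observable subgroup is cut out scheme-theoretically by finitely many invariants. -/
theorem exists_sep_points [IsClosedImmersion i.left] (hobs : AGF.IsObservableIn k i) :
    ∃ s : Finset (Fn G), (∀ f ∈ s, Inv' i f) ∧ ∀ (T : Over (Spec (CommRingCat.of k))) (g g' : T ⟶ G),
      (∀ f ∈ s, ev g f = ev g' f) → ∃ h : T ⟶ H, g * (h ≫ i) = g' := by
  classical
  haveI := isReduced_grp G
  haveI := isReduced_grp H
  haveI := finiteType_fn G
  haveI : IsNoetherianRing (Fn G) := Algebra.FiniteType.isNoetherianRing k _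
  -- a finite stable space containing equations of the subgroup, with an adapted basis
  obtain ⟨gens, hgens⟩ := (IsNoetherian.noetherian (RingHom.ker (ev i)) : (RingHom.ker (ev i)).FG)
  let W := orbitSpan (rPi (G := G)) (gens : Set (Fn G))
  haveI : Module.Finite k W := finite_orbitSpan rPi_regular gens.finite_toSet
  let πW := subPi (rPi (G := G)) W (orbitSpan_stable _ _)
  have hπW : IsRegular πW := subPi_regular _ _ _ rPi_regular
  obtain ⟨d, e, b, hbl, -, hker⟩ := ComodLib.exists_adapted_basis ((ev i).toLinearMap ∘ₗ W.subtype)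
  let M := Unip.fnMat hπW b
  have hMx : ∀ (x : Rat G) l j, pfn x (M l j) = b.repr (πW x (b j)) l := fun x l j => by
    rw [show pfn x (M l j) = (M.map (pfn x)) l j from rfl, Unip.map_fnMat, LinearMap.toMatrix_apply]
    rfl
  -- entries of the block vanish on the subgroup
  have hblock : ∀ r m, ev i (M (Sum.inr r) (Sum.inl m)) = 0 := fun r m => ext_pts fun h => by
    rw [← pfn_comp, map_zero, hMx]
    refine hker _ ?_ r
    show ev i ((πW (h ≫ i) (b (Sum.inl m)) : W) : Fn G) = 0
    refine ext_pts fun t => ?_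
    rw [subPi_coe, rPi_apply, ← pfn_comp, pfn_rMap', ← MonObj.mul_comp, pfn_comp,
      show ev i ((b (Sum.inl m) : W) : Fn G) = 0 from hbl m, map_zero, map_zero]
  -- functions of the space from the matrix
  have hexp : ∀ j, ((b j : W) : Fn G) = ∑ l, algebraMap k (Fn G) (pfn (1 : Rat G) (b l : Fn G)) * M l j :=
    fun j => ext_pts fun x => by
      have h1 := congrArg (fun w : W => pfn (1 : Rat G) (w : Fn G)) (b.sum_repr (πW x (b j)))
      simp only [AddSubmonoidClass.coe_finsetSum, SetLike.val_smul, map_sum, map_smul, smul_eq_mul] at h1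
      have h2 : pfn (1 : Rat G) ((πW x (b j) : W) : Fn G) = pfn x (b j : Fn G) := by
        show pfn (1 : Rat G) (rMap x (b j : Fn G)) = _
        rw [pfn_rMap', _root_.one_mul]
      rw [← h2, ← h1, map_sum]
      refine Finset.sum_congr rfl fun l _ => ?_
      rw [map_mul, AlgHom.commutes, Algebra.algebraMap_self_apply, hMx, _root_.mul_comm]
  have hkill : ∀ (T : Over (Spec (CommRingCat.of k))) (g : T ⟶ G),
      (∀ r m, ev g (M (Sum.inr r) (Sum.inl m)) = 0) → ∃ h : T ⟶ H, h ≫ i = g := by
    intro T g hg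
    have hb0 : ∀ m, ev g ((b (Sum.inl m) : W) : Fn G) = 0 := fun m => by
      rw [hexp, map_sum, Fintype.sum_sum_type]
      have h1 : ∀ l, pfn (1 : Rat G) ((b (Sum.inl l) : W) : Fn G) = 0 := fun l => by
        rw [← MonObj.one_comp i, pfn_comp, show ev i ((b (Sum.inl l) : W) : Fn G) = 0 from hbl l, map_zero]
      simp [map_mul, h1, hg]
    have hle : RingHom.ker (ev i) ≤ RingHom.ker (ev g) := by
      rw [← hgens, Ideal.span_le]
      intro f hf
      have hfI : ev i f = 0 := by
        have : f ∈ RingHom.ker (ev i) := hgens ▸ Ideal.subset_span hf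
        exact this
      let x : W := ⟨f, subset_orbitSpan _ _ hf⟩
      have hx := congrArg (fun w : W => ev g (w : Fn G)) (b.sum_repr x)
      rw [Fintype.sum_sum_type] at hx
      simp only [AddSubmonoidClass.coe_finsetSum, SetLike.val_smul, map_sum, map_smul, Submodule.coe_add, map_add,
        hb0, smul_zero, Finset.sum_const_zero, zero_add, hker x hfI, zero_smul, ZeroMemClass.coe_zero, map_zero] at hx
      exact hx.symm
    obtain ⟨h, hh⟩ := GrpSchLib.LineGroups.exists_hom_ev
      (AlgHom.liftOfSurjective (ev i) (ev_surjective i) (ev g) fun a ha => hle ha)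
    refine ⟨h, GrpSchLib.LineGroups.ext_ev (AlgHom.ext fun a => ?_)⟩
    rw [← ev_ev, hh]
    exact AlgHom.congr_fun (AlgHom.liftOfSurjective_comp (ev i) (ev_surjective i) (ev g) fun a ha => hle ha) a
  -- the semi-invariant minors and their weight
  let y : (Fin d → Fin d ⊕ Fin e) → Fn G := fun j => (M.submatrix j Sum.inl).det
  have hy : ∀ (T : Over (Spec (CommRingCat.of k))) (g : T ⟶ G) j,
      ev g (y j) = ((M.map (ev g)).submatrix j Sum.inl).det := fun T g j => by
    rw [AlgHom.map_det]
    rfl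
  have hyp : ∀ (x : Rat G) j, pfn x (y j) = ((M.map (pfn x)).submatrix j Sum.inl).det := fun x j => by
    rw [AlgHom.map_det]
    rfl
  let c : Rat H → k := fun h => pfn (h ≫ i) (y Sum.inl)
  have hweight : ∀ (x : Rat G) (h : Rat H) j, pfn (x * (h ≫ i)) (y j) = c h * pfn x (y j) := fun x h j => by
    have hm : M.map (pfn (x * (h ≫ i))) = M.map (pfn x) * M.map (pfn (h ≫ i)) := map_mul (Unip.ptMat hπW b k) x (h ≫ i)
    rw [hyp, hyp, hm, det_submatrix_mul_block _ _ (fun r m => by rw [Matrix.map_apply, pfn_comp, hblock, map_zero]),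
      _root_.mul_comm]
    congr 1
    exact (hyp _ _).symm
  have h1y : pfn (1 : Rat G) (y Sum.inl) = 1 := by
    rw [hyp, show M.map (pfn (1 : Rat G)) = 1 from map_one (Unip.ptMat hπW b k),
      Matrix.submatrix_one _ Sum.inl_injective, Matrix.det_one]
  have hc : ∀ h, c h ≠ 0 := fun h e0 => one_ne_zero (α := k) (by
    have := hweight (h⁻¹ ≫ i) h Sum.inl
    rwa [← MonObj.mul_comp, inv_mul_cancel, MonObj.one_comp, h1y, e0, MulZeroClass.zero_mul] at this)
  obtain ⟨b₀, hb₀, hb₀w⟩ := exists_inv_weight i hobs c hc (f := y Sum.inl)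
    (fun e0 => one_ne_zero (α := k) (by rw [← h1y, e0, map_zero])) (fun x h => hweight x h Sum.inl)
  have htop : Ideal.span (Set.range fun a : Rat G => lMap a b₀) = ⊤ := by
    by_contra hne
    obtain ⟨x, hx⟩ := exists_zero (X := G) hne
    refine hb₀ (eq_zero_of_val _ fun z => ?_)
    have := hx _ (Ideal.subset_span ⟨z * x⁻¹, rfl⟩)
    rwa [pfn_lMap, inv_mul_cancel_right] at this
  obtain ⟨β, hβ⟩ := Finsupp.mem_span_range_iff_exists_finsupp.mp
    (show (1 : Fn G) ∈ Submodule.span (Fn G) (Set.range fun a : Rat G => lMap a b₀) from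
      (Ideal.eq_top_iff_one _).mp htop)
  let s : Finset (Fn G) := (Finset.univ ×ˢ β.support).image fun p : _ × Rat G => y p.1 * lMap p.2 b₀
  refine ⟨s, fun f hf h => ext_pts fun x => ?_, fun T g g' hgg => ?_⟩
  · obtain ⟨⟨j, a⟩, -, rfl⟩ := Finset.mem_image.mp hf
    rw [pfn_rMap', map_mul, map_mul, hweight, pfn_lMap, pfn_lMap, ← _root_.mul_assoc a, hb₀w]
    field_simp [hc h]
  · let cc : Fn T := ∑ a ∈ β.support, ev g (β a) * ev g' (lMap a b₀)
    have hsum : ∑ a ∈ β.support, ev g (β a) * ev g (lMap a b₀) = 1 := by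
      rw [← map_one (ev g), ← hβ, Finsupp.sum, map_sum]
      simp only [smul_eq_mul, map_mul]
    have hyg : ∀ j, ev g (y j) = cc * ev g' (y j) := fun j => by
      rw [← _root_.mul_one (ev g (y j)), ← hsum, Finset.mul_sum, Finset.sum_mul]
      refine Finset.sum_congr rfl fun a ha => ?_
      have := hgg _ (Finset.mem_image.mpr ⟨(j, a), Finset.mem_product.mpr ⟨Finset.mem_univ _, ha⟩, rfl⟩)
      rw [map_mul, map_mul] at this
      linear_combination ev g (β a) * this
    let A : Matrix (Fin d ⊕ Fin e) (Fin d ⊕ Fin e) (Fn T) := M.map (ev g⁻¹)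
    have hA : ∀ x : T ⟶ G, M.map (ev (g⁻¹ * x)) = A * M.map (ev x) := fun x => fnMat_map_mul hπW b T g⁻¹ x
    have hmin : ∀ j, cc * ((M.map (ev (g⁻¹ * g'))).submatrix j Sum.inl).det =
        algebraMap k (Fn T) (ComodLib.minorVec k Sum.inl j) := fun j => by
      have h1 : ((M.map (ev (g⁻¹ * g))).submatrix j Sum.inl).det =
          algebraMap k (Fn T) (ComodLib.minorVec k Sum.inl j) := by
        rw [inv_mul_cancel, fnMat_map_one hπW b T, ComodLib.minorVec, RingHom.map_det]
        congr 1
        ext a m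
        simp [Matrix.one_apply, apply_ite (algebraMap k (Fn T))]
      rw [← h1, hA, hA, det_submatrix_mul, det_submatrix_mul, Finset.mul_sum]
      refine Finset.sum_congr rfl fun l _ => ?_
      rw [← hy, ← hy, hyg]
      ring
    have hu := hmin Sum.inl
    rw [ComodLib.minorVec_self Sum.inl_injective, map_one] at hu
    have hcu : IsUnit cc := IsUnit.of_mul_eq_one _ hu
    obtain ⟨h, hh⟩ := hkill T (g⁻¹ * g') fun r m =>
      ComodLib.eq_zero_of_minors (k := k) (M.map (ev (g⁻¹ * g'))) ((↑hcu.unit⁻¹ : Fn T))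
        (Units.isUnit _) (fun j => by
          rw [Algebra.smul_def, ← hmin, _root_.mul_comm cc, _root_.mul_assoc, IsUnit.mul_val_inv, _root_.mul_one]) r m
    exact ⟨h, by rw [hh, mul_inv_cancel_left]⟩

/-- An observable subgroup is the scheme-theoretic stabiliser of a vector. -/
theorem exists_vec_stab [IsClosedImmersion i.left] (hobs : AGF.IsObservableIn k i) :
    ∃ (n : ℕ) (M : Matrix (Fin n) (Fin n) (Fn G)) (_ : IsRepMatrix M) (v : Fin n → k),
      ∀ (T : Over (Spec (CommRingCat.of k))) (g : T ⟶ G),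
        (∀ l, ∑ j, ev g (M l j) * algebraMap k (Fn T) (v j) = algebraMap k (Fn T) (v l)) ↔
          ∃ h : T ⟶ H, h ≫ i = g := by
  classical
  haveI := isReduced_grp G
  haveI := isReduced_grp H
  obtain ⟨s, hs, hsep⟩ := exists_sep_points i hobs
  let W := orbitSpan (rPi (G := G)) (s : Set (Fn G))
  haveI : Module.Finite k W := finite_orbitSpan rPi_regular s.finite_toSet
  haveI : Finite ↥s := Finset.finite_toSet s |>.to_subtype
  let π := piPi ↥s (subPi (rPi (G := G)) W (orbitSpan_stable _ _))
  have hπ : IsRegular π := piPi_regular _ (subPi_regular _ _ _ rPi_regular)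
  let V := ↥s → W
  let v₀ : V := fun f => ⟨f.1, subset_orbitSpan _ _ f.2⟩
  let b := Module.finBasis k V
  have hfix : ∀ h : Rat H, π (h ≫ i) v₀ = v₀ := fun h => by
    refine funext fun f => Subtype.ext ?_
    rw [piPi_apply, subPi_coe, rPi_apply]
    exact hs f.1 f.2 h
  have hMx : ∀ (x : Rat G) l, pfn x (∑ j, Unip.fnMat hπ b l j * algebraMap k (Fn G) (b.repr v₀ j)) =
      b.repr (π x v₀) l := fun x l => by
    have h1 := LinearMap.toMatrix_mulVec_repr b b (π x).toLinearMap v₀
    rw [← Unip.map_fnMat hπ b x] at h1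
    refine Eq.trans ?_ (congrFun h1 l)
    simp [Matrix.mulVec, dotProduct, map_sum, map_mul, Matrix.map_apply]
  refine ⟨_, Unip.fnMat hπ b, isRepMatrix_fnMat hπ b, fun j => b.repr v₀ j, fun T g => ⟨fun hg => ?_, ?_⟩⟩
  · obtain ⟨h, hh⟩ := hsep T 1 g fun f hf => by
      let ψ : V →ₗ[k] k := (pfn (1 : Rat G)).toLinearMap ∘ₗ W.subtype ∘ₗ LinearMap.proj (⟨f, hf⟩ : ↥s)
      have hfexp : f = ∑ l, algebraMap k (Fn G) (ψ (b l)) *
          ∑ j, Unip.fnMat hπ b l j * algebraMap k (Fn G) (b.repr v₀ j) := ext_pts fun x => by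
        simp only [map_sum, map_mul, AlgHom.commutes, Algebra.algebraMap_self_apply]
        have h2 : ψ (π x v₀) = pfn x f := by
          show pfn (1 : Rat G) ((π x v₀ ⟨f, hf⟩ : W) : Fn G) = _
          rw [piPi_apply, subPi_coe, rPi_apply, pfn_rMap', _root_.one_mul]
        rw [← h2]
        conv_lhs => rw [← b.sum_repr (π x v₀)]
        rw [map_sum]
        refine Finset.sum_congr rfl fun l _ => ?_
        rw [map_smul, smul_eq_mul, ← hMx, _root_.mul_comm, map_sum]
        simp only [map_mul, AlgHom.commutes, Algebra.algebraMap_self_apply]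
      have hval : ∀ u : T ⟶ G, ev u f = ∑ l, algebraMap k (Fn T) (ψ (b l)) *
          ∑ j, ev u (Unip.fnMat hπ b l j) * algebraMap k (Fn T) (b.repr v₀ j) := fun u => by
        conv_lhs => rw [hfexp]
        simp only [map_sum, map_mul, AlgHom.commutes]
      rw [hval, hval]
      refine Finset.sum_congr rfl fun l _ => ?_
      rw [hg l]
      congr 1
      have e1 : ∀ j, ev (1 : T ⟶ G) (Unip.fnMat hπ b l j) = if l = j then 1 else 0 := fun j => by
        rw [← Matrix.map_apply (f := ev (1 : T ⟶ G)), fnMat_map_one hπ b T, Matrix.one_apply]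
      simp [e1]
    exact ⟨h, by rw [← hh, _root_.one_mul]⟩
  · rintro ⟨h, rfl⟩ l
    have key : ev i (∑ j, Unip.fnMat hπ b l j * algebraMap k (Fn G) (b.repr v₀ j)) =
        algebraMap k (Fn H) (b.repr v₀ l) := ext_pts fun t => by
      rw [← pfn_comp, hMx, hfix, AlgHom.commutes, Algebra.algebraMap_self_apply]
    have e := congrArg (ev h) key
    simp only [map_sum, map_mul, AlgHom.commutes, ev_ev] at e
    exact e

end Groth.Agent.Obs28
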