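import Mathlib.RingTheory.MvPolynomial.WeightedHomogeneous
import Mathlib.Algebra.MvPolynomial.Derivation
import Mathlib.RingTheory.Derivation.Lie
import Mathlib.RingTheory.MvPolynomial.Basic
import Mathlib.RingTheory.Polynomial.Basic
import Mathlib.Data.Finsupp.Weight
import Mathlib.RingTheory.Adjoin.FG
import Mathlib.RingTheory.FiniteType
import Mathlib.LinearAlgebra.FiniteDimensional.Lemmas
import Mathlib.Tactic.LinearCombination
import Mathlib.Tactic.Module

/-! Actions of `sl₂` by derivations of a polynomial ring in characteristic zero: finite generation of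
invariants and lifting of kernels of the raising operator. -/

universe u

namespace Groth.Agent.Obs28.Sl2

open MvPolynomial

set_option linter.unusedSectionVars false
set_option linter.style.haveILetI false

/-- Raising and lowering operators on a doubly graded vector space. -/
structure Triple (k R : Type u) [Field k] [AddCommGroup R] [Module k R] where
  e : R →ₗ[k] R
  f : R →ₗ[k] R
  W : ℤ → ℤ → Submodule k R
  mem_e : ∀ {μ δ : ℤ} {p : R}, p ∈ W μ δ → e p ∈ W (μ + 2) δ
  mem_f : ∀ {μ δ : ℤ} {p : R}, p ∈ W μ δ → f p ∈ W (μ - 2) δ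
  comm : ∀ {μ δ : ℤ} {p : R}, p ∈ W μ δ → e (f p) - f (e p) = (μ : k) • p
  fin : ∀ δ : ℤ, {μ | W μ δ ≠ ⊥}.Finite

namespace Triple

variable {k R : Type u} [Field k] [CharZero k] [AddCommGroup R] [Module k R] (T : Triple k R) {μ δ : ℤ} {p : R}

/-- The operators interchanged. -/
def swap : Triple k R where
  e := T.f
  f := T.e
  W μ δ := T.W (-μ) δ
  mem_e {μ δ p} h := (show -μ - 2 = -(μ + 2) by ring) ▸ T.mem_f h
  mem_f {μ δ p} h := (show -μ + 2 = -(μ - 2) by ring) ▸ T.mem_e h
  comm {μ δ p} h := by rw [← neg_sub, T.comm h, Int.cast_neg, neg_smul, neg_neg]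
  fin δ := (T.fin δ).preimage (neg_injective.injOn) |>.subset fun μ h => h

/-- The Casimir operator in weight `μ`. -/
def cas (μ : ℤ) : R →ₗ[k] R := ((μ * μ + 2 * μ : ℤ) : k) • LinearMap.id + (4 : k) • (T.f ∘ₗ T.e)

theorem cas_apply (μ : ℤ) (p : R) : T.cas μ p = ((μ * μ + 2 * μ : ℤ) : k) • p + (4 : k) • T.f (T.e p) := rfl

theorem mem_cas (h : p ∈ T.W μ δ) : T.cas μ p ∈ T.W μ δ := by
  have h2 := T.mem_f (T.mem_e h)
  rw [add_sub_cancel_right] at h2
  exact add_mem (Submodule.smul_mem _ _ h) (Submodule.smul_mem _ _ h2)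

theorem cas_swap (h : p ∈ T.W μ δ) : T.swap.cas (-μ) p = T.cas μ p := by
  rw [cas_apply, cas_apply, show T.swap.f (T.swap.e p) = T.e (T.f p) from rfl,
    show T.e (T.f p) = T.f (T.e p) + (μ : k) • p from eq_add_of_sub_eq' (T.comm h)]
  push_cast
  module

theorem cas_e (h : p ∈ T.W μ δ) : T.cas (μ + 2) (T.e p) = T.e (T.cas μ p) := by
  have h2 := eq_add_of_sub_eq' (T.comm (T.mem_e h))
  rw [cas_apply, cas_apply, map_add, map_smul, map_smul, h2]
  push_cast
  module

theorem mem_pow_e (h : p ∈ T.W μ δ) (j : ℕ) : (T.e^[j]) p ∈ T.W (μ + 2 * j) δ := by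
  induction j with
  | zero => simpa using h
  | succ j ih =>
    rw [Function.iterate_succ_apply', show μ + 2 * ((j + 1 : ℕ) : ℤ) = μ + 2 * j + 2 by push_cast; ring]
    exact T.mem_e ih

theorem exists_pow_e (h : p ∈ T.W μ δ) : ∃ j, (T.e^[j]) p = 0 := by
  by_contra hne
  push Not at hne
  have hinj : Function.Injective fun j : ℕ => μ + 2 * (j : ℤ) := fun a b hab => by simpa using hab
  refine Set.infinite_range_of_injective hinj ((T.fin δ).subset ?_)
  rintro _ ⟨j, rfl⟩ hbot
  exact hne j ((Submodule.mem_bot k).mp (hbot ▸ T.mem_pow_e h j))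

theorem exists_pow_f (h : p ∈ T.W μ δ) : ∃ j, (T.f^[j]) p = 0 :=
  T.swap.exists_pow_e (μ := -μ) (δ := δ) (show p ∈ T.W (- -μ) δ by rwa [neg_neg])

theorem mem_pow_f (h : p ∈ T.W μ δ) (j : ℕ) : (T.f^[j]) p ∈ T.W (μ - 2 * j) δ := by
  have h2 := T.swap.mem_pow_e (μ := -μ) (show p ∈ T.W (- -μ) δ by rwa [neg_neg]) j
  change _ ∈ T.W (-(-μ + 2 * j)) δ at h2
  rwa [show -(-μ + 2 * (j : ℤ)) = μ - 2 * j by ring] at h2

/-- The string formula at a highest weight vector. -/
theorem e_f_pow (h : p ∈ T.W μ δ) (he : T.e p = 0) (j : ℕ) :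
    T.e ((T.f^[j + 1]) p) = ((((j : ℤ) + 1) * (μ - j) : ℤ) : k) • (T.f^[j]) p := by
  induction j with
  | zero =>
    have := T.comm h
    rw [he, map_zero, sub_zero] at this
    simpa using this
  | succ j ih =>
    have h2 := eq_add_of_sub_eq' (T.comm (T.mem_pow_f h (j + 1)))
    rw [Function.iterate_succ_apply' T.f (j + 1), h2, ih, map_smul, ← Function.iterate_succ_apply' T.f j]
    push_cast
    module

theorem highest (h : p ∈ T.W μ δ) (he : T.e p = 0) (hp : p ≠ 0) :
    ∃ m : ℕ, μ = m ∧ (T.f^[m + 1]) p = 0 := by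
  classical
  have hex := T.exists_pow_f h
  rcases hJ : Nat.find hex with _ | m
  · exact absurd ((hJ ▸ Nat.find_spec hex :) : (T.f^[0]) p = 0) hp
  have h0 : (T.f^[m + 1]) p = 0 := hJ ▸ Nat.find_spec hex
  have h1 : (T.f^[m]) p ≠ 0 := Nat.find_min hex (by omega)
  have h2 := T.e_f_pow h he m
  rw [h0, map_zero] at h2
  have h3 := (smul_eq_zero.mp h2.symm).resolve_right h1
  rw [Int.cast_eq_zero, mul_eq_zero] at h3
  exact ⟨m, by omega, h0⟩

theorem nonneg_or (h : p ∈ T.W μ δ) (hC : T.cas μ (T.cas μ p) = 0) (hp : p ≠ 0) :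
    μ ≤ 0 ∧ (μ = 0 → T.e p = 0) := by
  classical
  have hC' : ∀ j : ℕ, T.cas (μ + 2 * j) (T.cas (μ + 2 * j) ((T.e^[j]) p)) = 0 := fun j => by
    induction j with
    | zero => simpa using hC
    | succ j ih =>
      rw [Function.iterate_succ_apply', show μ + 2 * ((j + 1 : ℕ) : ℤ) = μ + 2 * j + 2 by push_cast; ring,
        T.cas_e (T.mem_pow_e h j), T.cas_e (T.mem_cas (T.mem_pow_e h j)), ih, map_zero]
  have hex := T.exists_pow_e h
  rcases hJ : Nat.find hex with _ | J
  · exact absurd ((hJ ▸ Nat.find_spec hex :) : (T.e^[0]) p = 0) hp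
  have h0 : (T.e^[J + 1]) p = 0 := hJ ▸ Nat.find_spec hex
  have h1 : (T.e^[J]) p ≠ 0 := Nat.find_min hex (by omega)
  set v := (T.e^[J]) p with hv
  set ν := μ + 2 * (J : ℤ) with hν
  have hev : T.e v = 0 := by rw [hv, ← Function.iterate_succ_apply' T.e J]; exact h0
  obtain ⟨m, hm, -⟩ := T.highest (T.mem_pow_e h J) hev h1
  have hcas : ∀ c : k, T.cas ν (c • v) = (c * ((ν * ν + 2 * ν : ℤ) : k)) • v := fun c => by
    rw [map_smul, cas_apply, hev, map_zero, smul_zero, add_zero, smul_smul]
  have h2 := hC' J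
  rw [← hv, ← hν, ← one_smul k v, hcas, hcas, one_mul, smul_eq_zero] at h2
  have h3 := h2.resolve_right h1
  have h4 : ν * (ν + 2) = 0 := by
    have : ((ν * ν + 2 * ν : ℤ) : k) = 0 := mul_self_eq_zero.mp h3
    rw [Int.cast_eq_zero] at this
    linear_combination this
  have hν0 : ν = 0 := by rcases mul_eq_zero.mp h4 with h | h <;> omega
  refine ⟨by omega, fun hμ => ?_⟩
  have : J = 0 := by omega
  subst this
  simpa [v] using hev

theorem invariant_of_cas (h : p ∈ T.W μ δ) (hC : T.cas μ (T.cas μ p) = 0) : T.e p = 0 ∧ T.f p = 0 := by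
  by_cases hp : p = 0
  · simp [hp]
  have h' : p ∈ T.swap.W (-μ) δ := show p ∈ T.W (- -μ) δ by rwa [neg_neg]
  obtain ⟨h1, h1'⟩ := T.nonneg_or h hC hp
  obtain ⟨h2, h2'⟩ := T.swap.nonneg_or h' (by rw [T.cas_swap h, T.cas_swap (T.mem_cas h), hC]) hp
  exact ⟨h1' (by omega), h2' (by omega)⟩

theorem weight_of_invariant (h : p ∈ T.W μ δ) (he : T.e p = 0) (hf : T.f p = 0) (hp : p ≠ 0) : μ = 0 := by
  have := T.comm h
  rw [he, hf, map_zero, map_zero, sub_zero] at this
  exact Int.cast_eq_zero.mp ((smul_eq_zero.mp this.symm).resolve_right hp)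

/-- The weight zero part is the sum of the invariants and the image of the Casimir operator. -/
theorem exists_reynolds [FiniteDimensional k (T.W 0 δ)] (h : p ∈ T.W 0 δ) :
    ∃ r b, r ∈ T.W 0 δ ∧ T.e r = 0 ∧ T.f r = 0 ∧ b ∈ T.W 0 δ ∧ p = r + T.cas 0 b := by
  let C : T.W 0 δ →ₗ[k] T.W 0 δ := (T.cas 0).restrict fun x hx => T.mem_cas hx
  have hk : ∀ x : T.W 0 δ, C (C x) = 0 → C x = 0 := fun x hx => by
    obtain ⟨he, -⟩ := T.invariant_of_cas x.2 (congrArg Subtype.val hx)
    exact Subtype.ext (show T.cas 0 x = 0 by rw [cas_apply, he, map_zero]; simp)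
  have hd : Disjoint (LinearMap.ker C) (LinearMap.range C) := Submodule.disjoint_def.mpr fun x hx ⟨y, hy⟩ => by
    subst hy
    exact hk y hx
  have htop : LinearMap.ker C ⊔ LinearMap.range C = ⊤ :=
    Submodule.eq_top_of_disjoint _ _ (by rw [add_comm, C.finrank_range_add_finrank_ker]) hd
  obtain ⟨r, hr, y, ⟨b, rfl⟩, hrb⟩ := Submodule.mem_sup.mp (htop.ge (Submodule.mem_top : (⟨p, h⟩ : T.W 0 δ) ∈ ⊤))
  obtain ⟨he, hf⟩ := T.invariant_of_cas r.2 (show T.cas 0 (T.cas 0 r) = 0 by
    rw [show T.cas 0 r = 0 from congrArg Subtype.val hr, map_zero])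
  exact ⟨r, b, r.2, he, hf, b.2, (congrArg Subtype.val hrb).symm⟩

end Triple

section Poly

variable {k σ : Type u} [Field k] (w : σ → ℤ × ℤ)

theorem comp_mul {g : MvPolynomial σ k} {γ : ℤ × ℤ} (hg : IsWeightedHomogeneous w g γ) (ν : ℤ × ℤ)
    (p : MvPolynomial σ k) :
    weightedHomogeneousComponent w ν (p * g) = weightedHomogeneousComponent w (ν - γ) p * g := by
  classical
  induction p using MvPolynomial.induction_on' with
  | monomial m a =>
    have h := (isWeightedHomogeneous_monomial w m a (rfl : Finsupp.weight w m = _)).mul hg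
    by_cases hm : Finsupp.weight w m = ν - γ
    · rw [(isWeightedHomogeneous_monomial w m a hm).weightedHomogeneousComponent_same]
      exact IsWeightedHomogeneous.weightedHomogeneousComponent_same
        (sub_add_cancel ν γ ▸ hm ▸ h)
    · rw [(isWeightedHomogeneous_monomial w m a rfl).weightedHomogeneousComponent_ne _ (fun e => hm e.symm), zero_mul]
      exact h.weightedHomogeneousComponent_ne _ fun e => hm (eq_sub_of_add_eq e.symm)
  | add p q hp hq => simp only [add_mul, map_add, hp, hq]

theorem derivation_monomial (D : Derivation k (MvPolynomial σ k) (MvPolynomial σ k))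
    {P : (σ →₀ ℕ) → MvPolynomial σ k → Prop} (h0 : P 0 0)
    (hmul : ∀ (m : σ →₀ ℕ) s q, P m q →
      P (Finsupp.single s 1 + m) (X s * q + monomial m 1 * D (X s))) (m : σ →₀ ℕ) :
    P m (D (monomial m 1)) := by
  classical
  induction hn : m.degree generalizing m with
  | zero =>
    obtain rfl := (Finsupp.degree_eq_zero_iff m).mp hn
    rw [show (monomial (0 : σ →₀ ℕ)) (1 : k) = 1 from rfl, Derivation.map_one_eq_zero]
    exact h0
  | succ n ih =>
    obtain ⟨s, hs⟩ : ∃ s, m s ≠ 0 := by
      by_contra h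
      push Not at h
      rw [show m = 0 from Finsupp.ext h] at hn
      simp at hn
    obtain ⟨m', rfl⟩ : ∃ m', m = Finsupp.single s 1 + m' :=
      ⟨m - Finsupp.single s 1, (add_tsub_cancel_of_le (Finsupp.single_le_iff.mpr (Nat.one_le_iff_ne_zero.mpr hs))).symm⟩
    rw [map_add, Finsupp.degree_single] at hn
    rw [monomial_single_add, pow_one, D.leibniz, smul_eq_mul, smul_eq_mul]
    exact hmul m' s _ (ih m' (by omega))

theorem derivation_homog (D : Derivation k (MvPolynomial σ k) (MvPolynomial σ k)) {s : ℤ × ℤ}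
    (hD : ∀ i, IsWeightedHomogeneous w (D (X i)) (w i + s)) (m : σ →₀ ℕ) (a : k) :
    IsWeightedHomogeneous w (D (monomial m a)) (Finsupp.weight w m + s) := by
  have h : IsWeightedHomogeneous w (D (monomial m 1)) (Finsupp.weight w m + s) := by
    refine derivation_monomial D (P := fun m q => IsWeightedHomogeneous w q (Finsupp.weight w m + s))
      (isWeightedHomogeneous_zero ..) (fun m i q hq => ?_) m
    rw [map_add, Finsupp.weight_single, one_smul]
    refine IsWeightedHomogeneous.add ?_ ?_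
    · exact (add_assoc (w i) (Finsupp.weight w m) s).symm ▸ (isWeightedHomogeneous_X k w i).mul hq
    · exact (show Finsupp.weight w m + (w i + s) = w i + Finsupp.weight w m + s by abel) ▸
        (isWeightedHomogeneous_monomial w m 1 rfl).mul (hD i)
  rw [show monomial m a = a • monomial m (1 : k) by rw [smul_monomial, smul_eq_mul, mul_one], D.map_smul,
    smul_eq_C_mul]
  exact h.C_mul a

theorem derivation_comp (D : Derivation k (MvPolynomial σ k) (MvPolynomial σ k)) {s : ℤ × ℤ}
    (hD : ∀ i, IsWeightedHomogeneous w (D (X i)) (w i + s)) (ν : ℤ × ℤ) (p : MvPolynomial σ k) :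
    weightedHomogeneousComponent w (ν + s) (D p) = D (weightedHomogeneousComponent w ν p) := by
  classical
  induction p using MvPolynomial.induction_on' with
  | monomial m a =>
    have h := derivation_homog w D hD m a
    by_cases hm : Finsupp.weight w m = ν
    · rw [(isWeightedHomogeneous_monomial w m a hm).weightedHomogeneousComponent_same]
      exact IsWeightedHomogeneous.weightedHomogeneousComponent_same (hm ▸ h)
    · rw [(isWeightedHomogeneous_monomial w m a rfl).weightedHomogeneousComponent_ne _ (fun e => hm e.symm), map_zero]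
      exact h.weightedHomogeneousComponent_ne _ fun e => hm (add_right_cancel e.symm)
  | add p q hp hq => simp only [map_add, hp, hq]

theorem derivation_mem (D : Derivation k (MvPolynomial σ k) (MvPolynomial σ k)) {s : ℤ × ℤ}
    (hD : ∀ i, IsWeightedHomogeneous w (D (X i)) (w i + s)) {ν : ℤ × ℤ} {p : MvPolynomial σ k}
    (hp : p ∈ weightedHomogeneousSubmodule k w ν) : D p ∈ weightedHomogeneousSubmodule k w (ν + s) := by
  classical
  rw [← hp.weightedHomogeneousComponent_same, ← derivation_comp w D hD]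
  exact weightedHomogeneousComponent_mem ..

theorem derivation_eigen (D : Derivation k (MvPolynomial σ k) (MvPolynomial σ k))
    (hD : ∀ i, D (X i) = ((w i).1 : k) • X i) {ν : ℤ × ℤ} {p : MvPolynomial σ k}
    (hp : p ∈ weightedHomogeneousSubmodule k w ν) : D p = ((ν.1 : ℤ) : k) • p := by
  classical
  have h : ∀ m : σ →₀ ℕ, D (monomial m 1) = (((Finsupp.weight w m).1 : ℤ) : k) • monomial m 1 := fun m => by
    refine derivation_monomial D (P := fun m q => q = (((Finsupp.weight w m).1 : ℤ) : k) • monomial m 1)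
      (by simp) (fun m i q hq => ?_) m
    rw [hq, hD, monomial_single_add, pow_one, map_add, Finsupp.weight_single, one_smul, Prod.fst_add,
      Int.cast_add, mul_smul_comm, mul_smul_comm, mul_comm (monomial m 1) (X i), ← add_smul, add_comm]
  conv_lhs => rw [p.as_sum]
  conv_rhs => rw [p.as_sum]
  rw [map_sum, Finset.smul_sum]
  refine Finset.sum_congr rfl fun m hm => ?_
  rw [show monomial m (coeff m p) = coeff m p • monomial m (1 : k) by rw [smul_monomial, smul_eq_mul, mul_one],
    D.map_smul, h, hp (mem_support_iff.mp hm), smul_comm]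

/-- A triple of derivations of a polynomial ring. -/
structure Data where
  w : σ → ℤ
  E : Derivation k (MvPolynomial σ k) (MvPolynomial σ k)
  F : Derivation k (MvPolynomial σ k) (MvPolynomial σ k)
  hE : ∀ i, IsWeightedHomogeneous (fun i => (w i, (1 : ℤ))) (E (X i)) (w i + 2, 1)
  hF : ∀ i, IsWeightedHomogeneous (fun i => (w i, (1 : ℤ))) (F (X i)) (w i - 2, 1)
  hH : ∀ i, E (F (X i)) - F (E (X i)) = (w i : k) • X i

namespace Data

variable (d : Data (k := k) (σ := σ))

/-- The weight and the degree. -/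
abbrev wd : σ → ℤ × ℤ := fun i => (d.w i, 1)

theorem weight_snd (m : σ →₀ ℕ) : (Finsupp.weight d.wd m).2 = (m.degree : ℤ) := by
  induction m using Finsupp.induction with
  | zero => simp
  | single_add a b m _ _ ih => simp [ih, Finsupp.weight_single]

variable [Finite σ]

theorem le_restrict (ν : ℤ × ℤ) :
    weightedHomogeneousSubmodule k d.wd ν ≤ restrictTotalDegree σ k ν.2.toNat := fun p hp => by
  rw [mem_restrictTotalDegree, totalDegree_eq]
  refine Finset.sup_le fun m hm => ?_
  have h := d.weight_snd m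
  rw [hp (mem_support_iff.mp hm)] at h
  rw [h, Int.toNat_natCast, Finsupp.card_toMultiset]
  exact le_of_eq (Finsupp.degree_apply m).symm

instance finite_W (ν : ℤ × ℤ) : FiniteDimensional k (weightedHomogeneousSubmodule k d.wd ν) :=
  Submodule.finiteDimensional_of_le (d.le_restrict ν)

variable [CharZero k]

/-- The doubly graded triple of the derivations. -/
noncomputable def triple : Triple k (MvPolynomial σ k) where
  e := d.E.toLinearMap
  f := d.F.toLinearMap
  W μ δ := weightedHomogeneousSubmodule k d.wd (μ, δ)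
  mem_e {μ δ p} h := by
    simpa using derivation_mem d.wd d.E (s := (2, 0)) (fun i => by simpa using d.hE i) h
  mem_f {μ δ p} h := by
    simpa [sub_eq_add_neg] using derivation_mem d.wd d.F (s := (-2, 0)) (fun i => by simpa [sub_eq_add_neg] using d.hF i) h
  comm {μ δ p} h :=
    (Derivation.commutator_apply ..).symm.trans
      (derivation_eigen d.wd ⁅d.E, d.F⁆ (fun i => (Derivation.commutator_apply ..).trans (d.hH i)) h)
  fin δ := ((Finsupp.finite_of_degree_le (σ := σ) δ.toNat).image fun m => (Finsupp.weight d.wd m).1).subset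
    fun μ hμ => by
      obtain ⟨p, hp, hp0⟩ := Submodule.exists_mem_ne_zero_of_ne_bot hμ
      obtain ⟨m, hm⟩ := ne_zero_iff.mp hp0
      have h := hp hm
      refine ⟨m, ?_, by simp [h]⟩
      have h2 := d.weight_snd m
      rw [h] at h2
      simp [show δ = (m.degree : ℤ) from h2]

/-- The invariants. -/
noncomputable def inv : Subalgebra k (MvPolynomial σ k) where
  carrier := {p | d.E p = 0 ∧ d.F p = 0}
  mul_mem' {a b} ha hb := by simp [Derivation.leibniz, ha.1, ha.2, hb.1, hb.2]
  one_mem' := by simp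
  add_mem' {a b} ha hb := by simp [ha.1, ha.2, hb.1, hb.2]
  zero_mem' := by simp
  algebraMap_mem' c := by simp

theorem mem_inv {p : MvPolynomial σ k} : p ∈ d.inv ↔ d.E p = 0 ∧ d.F p = 0 := Iff.rfl

/-- Hilbert's theorem for the invariants. -/
theorem fg_inv : d.inv.FG := by
  classical
  let T := d.triple
  let G : Set (MvPolynomial σ k) := {p | ∃ δ : ℤ, 0 < δ ∧ p ∈ T.W 0 δ ∧ p ∈ d.inv}
  obtain ⟨s, hs, hspan⟩ := (Submodule.fg_span_iff_fg_span_finset_subset (R := MvPolynomial σ k) G).1
    (IsNoetherian.noetherian _)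
  have hs' : ∀ g ∈ s, ∃ δ : ℤ, 0 < δ ∧ g ∈ T.W 0 δ ∧ g ∈ d.inv := fun g hg => hs hg
  choose! deg hdeg using hs'
  have hmain : ∀ n : ℕ, ∀ δ : ℤ, δ.toNat = n → ∀ p ∈ T.W 0 δ, p ∈ d.inv →
      p ∈ Algebra.adjoin k (s : Set (MvPolynomial σ k)) := by
    intro n
    induction n using Nat.strong_induction_on with
    | _ n ih =>
      intro δ hn p hp hinv
      rcases lt_trichotomy δ 0 with hδ | hδ | hδ
      · rw [show p = 0 from ?_]
        · exact zero_mem _
        ext m
        by_contra hm
        have h := d.weight_snd m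
        rw [hp hm] at h
        change δ = _ at h
        omega
      · rw [show p = C (coeff 0 p) from ?_]
        · exact Subalgebra.algebraMap_mem _ _
        ext m
        rw [coeff_C]
        by_cases hm0 : 0 = m
        · rw [if_pos hm0, hm0]
        · rw [if_neg hm0]
          by_contra hm
          have h := d.weight_snd m
          rw [hp hm] at h
          change δ = _ at h
          exact hm0 ((Finsupp.degree_eq_zero_iff m).mp (by omega)).symm
      have hpI : p ∈ Submodule.span (MvPolynomial σ k) (s : Set (MvPolynomial σ k)) :=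
        hspan ▸ Submodule.subset_span ⟨δ, hδ, hp, hinv⟩
      obtain ⟨a, -, ha⟩ := Submodule.mem_span_finset.mp hpI
      have hsum : p = ∑ g ∈ s, weightedHomogeneousComponent d.wd (0, δ - deg g) (a g) * g := by
        conv_lhs => rw [← IsWeightedHomogeneous.weightedHomogeneousComponent_same hp, ← ha, map_sum]
        refine Finset.sum_congr rfl fun g hg => ?_
        rw [smul_eq_mul, comp_mul d.wd (hdeg g hg).2.1]
        simp
      have hR : ∀ g : MvPolynomial σ k, ∃ r b, r ∈ T.W 0 (δ - deg g) ∧ T.e r = 0 ∧ T.f r = 0 ∧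
          b ∈ T.W 0 (δ - deg g) ∧
          weightedHomogeneousComponent d.wd (0, δ - deg g) (a g) = r + T.cas 0 b := fun g => by
        haveI : FiniteDimensional k (T.W 0 (δ - deg g)) := d.finite_W _
        exact T.exists_reynolds (weightedHomogeneousComponent_mem ..)
      choose r b hr her hfr hb hab using hR
      have hcas : ∀ g ∈ s, T.cas 0 (b g * g) = T.cas 0 (b g) * g := fun g hg => by
        obtain ⟨-, -, he, hf⟩ := hdeg g hg
        rw [Triple.cas_apply, Triple.cas_apply]
        change _ • (b g * g) + _ • d.F (d.E (b g * g)) = (_ • b g + _ • d.F (d.E (b g))) * g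
        rw [d.E.leibniz, he, smul_zero, zero_add, smul_eq_mul, d.F.leibniz, hf, smul_zero, add_zero,
          smul_eq_mul, add_mul, smul_mul_assoc, smul_mul_assoc, mul_comm g]
      let B := ∑ g ∈ s, b g * g
      have hB : B ∈ T.W 0 δ := sum_mem fun g hg => by
        have h2 : IsWeightedHomogeneous d.wd (b g * g) ((0, δ - deg g) + (0, deg g)) := (hb g).mul (hdeg g hg).2.1
        rw [Prod.mk_add_mk, add_zero, sub_add_cancel] at h2
        exact h2
      have h1 : p = ∑ g ∈ s, r g * g + T.cas 0 B := by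
        rw [map_sum, ← Finset.sum_add_distrib, hsum]
        exact Finset.sum_congr rfl fun g hg => by rw [hcas g hg, ← add_mul, ← hab]
      have hQ : ∑ g ∈ s, r g * g ∈ d.inv := sum_mem fun g hg => mul_mem ⟨her g, hfr g⟩ (hdeg g hg).2.2
      have hX : T.cas 0 B ∈ d.inv := by
        rw [eq_sub_of_add_eq' h1.symm]
        exact sub_mem hinv hQ
      have hXX : T.cas 0 (T.cas 0 B) = 0 := by
        rw [Triple.cas_apply _ _ (T.cas 0 B), show T.e (T.cas 0 B) = 0 from hX.1, map_zero]
        simp
      have hX0 : T.cas 0 B = 0 := by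
        rw [Triple.cas_apply, (T.invariant_of_cas hB hXX).1, map_zero]
        simp
      rw [h1, hX0, add_zero]
      refine sum_mem fun g hg => mul_mem ?_ (Algebra.subset_adjoin hg)
      have := (hdeg g hg).1
      exact ih _ (by omega) _ rfl _ (hr g) ⟨her g, hfr g⟩
  refine ⟨s, le_antisymm (Algebra.adjoin_le fun g hg => (hdeg g hg).2.2) fun p hp => ?_⟩
  rw [← sum_weightedHomogeneousComponent d.wd p]
  refine finsum_induction (fun x => x ∈ Algebra.adjoin k (s : Set (MvPolynomial σ k))) (zero_mem _)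
    (fun a b ha hb => add_mem ha hb) fun ν => ?_
  by_cases h0 : weightedHomogeneousComponent d.wd ν p = 0
  · rw [h0]; exact zero_mem _
  have he : d.E (weightedHomogeneousComponent d.wd ν p) = 0 := by
    rw [← derivation_comp d.wd d.E (s := (2, 0)) (fun i => by simpa using d.hE i), hp.1, map_zero]
  have hf : d.F (weightedHomogeneousComponent d.wd ν p) = 0 := by
    rw [← derivation_comp d.wd d.F (s := (-2, 0)) (fun i => by simpa [sub_eq_add_neg] using d.hF i), hp.2, map_zero]
  obtain ⟨μ, δ⟩ := ν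
  obtain rfl := T.weight_of_invariant (weightedHomogeneousComponent_mem ..) he hf h0
  exact hmain _ δ rfl _ (weightedHomogeneousComponent_mem ..) ⟨he, hf⟩

/-- Coefficients of the lift. -/
def cs : ℕ → k
  | 0 => 1
  | j + 1 => -(cs j) / ((j : k) + 1)

theorem cs_succ (j : ℕ) : cs (k := k) (j + 1) * ((j : k) + 1) = -cs j := by
  rw [cs]; exact div_mul_cancel₀ _ (Nat.cast_add_one_ne_zero j)

variable (u v : MvPolynomial σ k) (hEu : d.E u = v) (hEv : d.E v = 0) (hFu : d.F u = 0) (hFv : d.F v = u)

include hEu hEv hFu hFv in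
theorem exists_lift {S : Type u} [CommRing S] [Algebra k S] (φ : MvPolynomial σ k →ₐ[k] S) (hu : φ u = 1)
    (hv : φ v = 0) {p : MvPolynomial σ k} (hp : d.E p = 0) : ∃ P ∈ d.inv, φ P = φ p := by
  classical
  let T := d.triple
  suffices ∀ ν, ∃ P ∈ d.inv, φ P = φ (weightedHomogeneousComponent d.wd ν p) by
    rw [← sum_weightedHomogeneousComponent d.wd p]
    refine finsum_induction (fun x => ∃ P ∈ d.inv, φ P = φ x) ⟨0, zero_mem _, rfl⟩
      (fun a b ⟨A, hA, ha⟩ ⟨B, hB, hb⟩ => ⟨A + B, add_mem hA hB, by rw [map_add, map_add, ha, hb]⟩) fun ν => this ν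
  intro ν
  obtain ⟨μ, δ⟩ := ν
  set q := weightedHomogeneousComponent d.wd (μ, δ) p
  by_cases h0 : q = 0
  · exact ⟨0, zero_mem _, by rw [h0]⟩
  have hq : q ∈ T.W μ δ := weightedHomogeneousComponent_mem ..
  have he : T.e q = 0 := by
    show d.E q = 0
    rw [← derivation_comp d.wd d.E (s := (2, 0)) (fun i => by simpa using d.hE i), hp, map_zero]
  obtain ⟨m, rfl, hm⟩ := T.highest hq he h0
  let N : ℕ → MvPolynomial σ k := fun j => (T.f^[j]) q
  have hFN : ∀ j, d.F (N j) = N (j + 1) := fun j => (Function.iterate_succ_apply' T.f j q).symm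
  have hEN : ∀ j, d.E (N (j + 1)) = (((j : k) + 1) * ((m : k) - j)) • N j := fun j => by
    have := T.e_f_pow hq he j
    push_cast at this
    exact this
  have hpowE : ∀ a : ℕ, d.E (u ^ a) = (a : k) • (u ^ (a - 1) * v) := fun a => by
    rw [d.E.leibniz_pow, hEu, smul_eq_mul, Nat.cast_smul_eq_nsmul]
  have hpowF : ∀ a : ℕ, d.F (v ^ a) = (a : k) • (v ^ (a - 1) * u) := fun a => by
    rw [d.F.leibniz_pow, hFv, smul_eq_mul, Nat.cast_smul_eq_nsmul]
  have hvE : ∀ a, d.E (v ^ a) = 0 := fun a => by rw [d.E.leibniz_pow, hEv, smul_zero, smul_zero]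
  have huF : ∀ a, d.F (u ^ a) = 0 := fun a => by rw [d.F.leibniz_pow, hFu, smul_zero, smul_zero]
  let P := ∑ j ∈ Finset.range (m + 1), cs (k := k) j • (u ^ (m - j) * v ^ j * N j)
  have tele : ∀ A B : ℕ → MvPolynomial σ k, A m = 0 → B 0 = 0 → (∀ j < m, A j + B (j + 1) = 0) →
      ∑ j ∈ Finset.range (m + 1), (A j + B j) = 0 := fun A B hA hB h => by
    rw [Finset.sum_add_distrib, Finset.sum_range_succ A, Finset.sum_range_succ' B, hA, hB, add_zero, add_zero,
      ← Finset.sum_add_distrib]
    exact Finset.sum_eq_zero fun j hj => h j (Finset.mem_range.mp hj)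
  refine ⟨P, ⟨?_, ?_⟩, ?_⟩
  · rw [map_sum]
    refine (Finset.sum_congr rfl fun j _ => ?_).trans (tele
      (fun j => (cs (k := k) j * ((m - j : ℕ) : k)) • (u ^ (m - j - 1) * v ^ (j + 1) * N j))
      (fun j => cs (k := k) j • (u ^ (m - j) * v ^ j * d.E (N j))) ?_ ?_ fun j hj => ?_)
    · rw [d.E.map_smul, d.E.leibniz, d.E.leibniz, hpowE, hvE, smul_zero, zero_add]
      simp only [smul_eq_mul, Algebra.smul_def, pow_succ, map_mul]
      ring
    · simp
    · simp [N, show d.E q = 0 from he]
    · rw [hEN, show m - (j + 1) = m - j - 1 by omega, Nat.cast_sub hj.le, mul_smul_comm, smul_smul, ← add_smul,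
        show cs (k := k) j * ((m : k) - j) + cs (j + 1) * (((j : k) + 1) * ((m : k) - j)) = 0 by
          rw [← mul_assoc, cs_succ]; ring, zero_smul]
  · rw [map_sum]
    refine (Finset.sum_congr rfl fun j _ => ?_).trans (tele
      (fun j => cs (k := k) j • (u ^ (m - j) * v ^ j * N (j + 1)))
      (fun j => (cs (k := k) j * (j : k)) • (u ^ (m - j + 1) * v ^ (j - 1) * N j)) ?_ ?_ fun j hj => ?_)
    · rw [d.F.map_smul, d.F.leibniz, d.F.leibniz, huF, hpowF, hFN, smul_zero, add_zero]
      simp only [smul_eq_mul, Algebra.smul_def, pow_succ, map_mul]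
      ring
    · simp [N, hm]
    · simp
    · rw [show m - (j + 1) + 1 = m - j by omega, Nat.add_sub_cancel, ← add_smul, Nat.cast_add, Nat.cast_one,
        cs_succ, add_neg_cancel, zero_smul]
  · rw [map_sum, Finset.sum_range_succ', Finset.sum_eq_zero fun j _ => by
      rw [map_smul, map_mul, map_mul, map_pow φ v, hv, zero_pow (Nat.succ_ne_zero j)]; simp, zero_add]
    simp [cs, N, hu]

end Data

end Poly

end Groth.Agent.Obs28.Sl2
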