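import Groth.Agent.Obs28.CharRadical
import Groth.Agent.Obs28.RadMain

/-! The radical of a connected group, and characters of groups with given radical. -/

universe u

open CategoryTheory MonoidalCategory CartesianMonoidalCategory MonObj GrpObj AlgebraicGeometry
open scoped TensorProduct

namespace Groth.Agent.Obs28.TorW

open GrpSchLib.Kunneth

set_option linter.unusedSectionVars false
set_option linter.style.haveILetI false

variable {k : Type u} [Field k] [IsAlgClosed k] {G : Over (Spec (CommRingCat.of k))} [GrpObj G]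
  [IsAffine G.left] [Smooth G.hom]

/-- A connected group has a largest connected solvable normal subgroup. -/
theorem exists_solvRadical [ConnectedSpace G.left] :
    ∃ (R : Over (Spec (CommRingCat.of k))) (_ : GrpObj R) (r : R ⟶ G), IsMonHom r ∧ IsClosedImmersion r.left ∧
      Smooth R.hom ∧ ConnectedSpace R.left ∧ AlgGrp.IsNormalHom r ∧ Red.IsSolvableGrp R ∧
      ∀ (R' : Over (Spec (CommRingCat.of k))) [GrpObj R'] (r' : R' ⟶ G), IsMonHom r' → IsClosedImmersion r'.left →
        Smooth R'.hom → ConnectedSpace R'.left → AlgGrp.IsNormalHom r' → Red.IsSolvableGrp R' →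
          ∃ f : R' ⟶ R, f ≫ r = r' := by
  classical
  obtain ⟨B, _, i, hB, hp⟩ := AGFRoot.exists_borel_proper (G := G)
  obtain ⟨hi, hic, hBs, hBc, hs, -⟩ := id hB
  haveI := hi; haveI := hic; haveI := hBs; haveI := hBc
  haveI : IsAffine B.left := isAffine_of_closed i
  haveI : Mono i.left := inferInstance
  haveI : Mono i := Over.mono_of_mono_left i
  obtain ⟨Y, a, o, hY1, -, hY2, hY3, hY4⟩ := GrpSchLib.HomogeneousQuot.exists_quot G B i
  haveI := hp Y a o ⟨hY1, hY2, hY3, hY4⟩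
  -- all subgroups in question lie in every conjugate of `B`
  have hin : ∀ (R' : Over (Spec (CommRingCat.of k))) [GrpObj R'] (r' : R' ⟶ G), IsMonHom r' → IsClosedImmersion r'.left →
      Smooth R'.hom → ConnectedSpace R'.left → AlgGrp.IsNormalHom r' → Red.IsSolvableGrp R' →
      ∀ (x : Rat R') (g : Rat G), Mem i (g⁻¹ * (x ≫ r') * g) := by
    intro R' _ r' h1 h2 h3 h4 h5 h6 x g
    haveI := h1; haveI := h2; haveI := h3; haveI := h4
    obtain ⟨c, f, hf⟩ := AGFRoot.exists_conj_le r' h6 i (a := a) (o := o) ⟨hY1, hY2, hY3, hY4⟩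
    let c' : Rat G := (ptOne k).hom ≫ c
    have hc : ∀ w : Rat R', Mem i (c'⁻¹ * (w ≫ r') * c') := fun w => ⟨w ≫ f, by
      have hc2 : c⁻¹ = ActPts.sec c'⁻¹ := by
        rw [← cancel_epi (ptOne k).hom, GrpObj.comp_inv]
        exact (ActPts.toUnit_sec _).symm
      rw [Category.assoc, hf, hc2, comp_conjBy_sec, _root_.inv_inv]⟩
    obtain ⟨n, hn⟩ := h5 _ (c' * g⁻¹) x
    have := hc n
    rwa [← hn, show c'⁻¹ * (c' * g⁻¹ * (x ≫ r') * (c' * g⁻¹)⁻¹) * c' = g⁻¹ * (x ≫ r') * g by group] at this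
  obtain ⟨R, _, r, hr, hrc, hRs, hRc, hRn, hRsol, -, huniv⟩ := exists_core (G := G) (i := i) hs
  exact ⟨R, inferInstance, r, hr, hrc, hRs, hRc, hRn, hRsol, fun R' _ r' h1 h2 h3 h4 h5 h6 =>
    huniv R' r' h1 h3 h4 (hin R' r' h1 h2 h3 h4 h5 h6)⟩

/-- The radical of the identity component is normal in the whole group. -/
theorem normal_comp_radical {H₀ R₀ : Over (Spec (CommRingCat.of k))} [GrpObj H₀] [GrpObj R₀] [IsAffine H₀.left]
    [Smooth H₀.hom] (j : H₀ ⟶ G) [IsMonHom j] [IsOpenImmersion j.left] [ConnectedSpace H₀.left] (r₀ : R₀ ⟶ H₀)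
    [IsMonHom r₀] [IsClosedImmersion r₀.left] [Smooth R₀.hom] [ConnectedSpace R₀.left]
    (g5 : AlgGrp.IsNormalHom r₀) (g6 : Red.IsSolvableGrp R₀)
    (guniv : ∀ (R' : Over (Spec (CommRingCat.of k))) [GrpObj R'] (r' : R' ⟶ H₀), IsMonHom r' → IsClosedImmersion r'.left →
      Smooth R'.hom → ConnectedSpace R'.left → AlgGrp.IsNormalHom r' → Red.IsSolvableGrp R' →
        ∃ f : R' ⟶ R₀, f ≫ r₀ = r') : AlgGrp.IsNormalHom (r₀ ≫ j) := by
  haveI := isClosedImmersion_of_open j
  haveI : Mono j.left := inferInstance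
  haveI : Mono j := Over.mono_of_mono_left j
  haveI : IsClosedImmersion (r₀ ≫ j).left := by rw [Over.comp_left]; infer_instance
  refine RadM.isNormalHom_of_rat _ fun g x => ?_
  let φ := AGF.conjBy (ActPts.sec g) (r₀ ≫ j)
  obtain ⟨v, hv⟩ := RadM.fac_component j φ
  haveI : IsMonHom (v ≫ j) := by rw [hv]; infer_instance
  haveI : IsMonHom v := RedSub30.isMonHom_of_mono j v
  have hvc : IsClosedImmersion v.left := by
    haveI : IsClosedImmersion (v.left ≫ j.left) := by
      haveI : IsIso (AGFRoot.conjIso (ActPts.sec g)).hom.left :=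
        inferInstanceAs (IsIso ((Over.forget _).map (AGFRoot.conjIso (ActPts.sec g)).hom))
      rw [← Over.comp_left, hv, show φ = (r₀ ≫ j) ≫ (AGFRoot.conjIso (ActPts.sec g)).hom from
        AGFRoot.conjBy_eq_comp (ActPts.sec g) (r₀ ≫ j), Over.comp_left]
      infer_instance
    exact IsClosedImmersion.of_comp v.left j.left
  haveI := hvc
  have hvn : AlgGrp.IsNormalHom v := RadM.isNormalHom_of_rat v fun a y => by
    obtain ⟨c, hc⟩ := RadM.fac_component j (AGF.conjBy (ActPts.sec g⁻¹) j)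
    obtain ⟨y', hy'⟩ := g5 _ (a ≫ c) y
    refine ⟨y', (cancel_mono j).mp ?_⟩
    have h2 := congrArg (· ≫ j) hy'
    have hc' : (a ≫ c) ≫ j = g⁻¹ * (a ≫ j) * g := by
      rw [Category.assoc, hc, comp_conjBy_sec, _root_.inv_inv]
    simp only [MonObj.mul_comp, GrpObj.inv_comp, hc', Category.assoc] at h2
    simp only [MonObj.mul_comp, GrpObj.inv_comp, Category.assoc, hv]
    simp only [φ, comp_conjBy_sec, ← h2]
    group
  obtain ⟨f, hf⟩ := guniv R₀ v inferInstance hvc inferInstance inferInstance hvn g6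
  refine ⟨x ≫ f, ?_⟩
  rw [Category.assoc, ← Category.assoc f, hf, hv, comp_conjBy_sec]

/-- Connected solvable groups without subtori have no characters. -/
theorem hom_Gm_eq_one {U A : Over (Spec (CommRingCat.of k))} [GrpObj U] [GrpObj A] [IsAffine A.left] [Smooth A.hom]
    [IsAffine U.left] [Smooth U.hom] [ConnectedSpace U.left] (hU : Red.HasNoSubtorus k U)
    (χ : U ⟶ Red.Gm (Spec (CommRingCat.of k))) [IsMonHom χ] (f : A ⟶ U)
    {θ : A ⟶ Red.Gm (Spec (CommRingCat.of k))} (hθ : θ = f ≫ χ) : θ = 1 := by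
  subst hθ
  refine char_eq_one fun x => ?_
  rw [← cv_comp]
  by_contra hb
  obtain ⟨S, _, j, _, p, hS, hp⟩ := exists_torus_char (RadM.isSolvableGrp_of_noSub hU) χ hb
  obtain ⟨_, hSs, -, -⟩ := AGFRoot.SolvSch.torus_facts hS
  refine hp ?_
  rw [torus_hom_eq_one hU hS j, MonObj.comp_one, cv_one_pt]

/-- Characters of the identity component trivial on the radical of the group are trivial. -/
theorem char_eq_one_component {H₀ R : Over (Spec (CommRingCat.of k))} [GrpObj H₀] [GrpObj R] [ConnectedSpace H₀.left]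
    [IsAffine H₀.left] [Smooth H₀.hom] (j : H₀ ⟶ G) [IsMonHom j] [IsOpenImmersion j.left] (r : R ⟶ G)
    (hmax : ∀ (R' : Over (Spec (CommRingCat.of k))) [GrpObj R'] (r' : R' ⟶ G) [IsMonHom r'],
      IsClosedImmersion r'.left → Smooth R'.hom → ConnectedSpace R'.left → AlgGrp.IsNormalHom r' →
        Red.IsSolvableGrp R' → ∃ f : R' ⟶ R, f ≫ r = r')
    (χ : H₀ ⟶ Red.Gm (Spec (CommRingCat.of k))) [IsMonHom χ]
    (hχ : ∀ (x : Rat R) (z : Rat H₀), z ≫ j = x ≫ r → cv χ z = 1) : χ = 1 := by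
  refine char_eq_one_of_radical χ fun R₁ _ r₁ _ h2 h3 h4 h5 h6 => ?_
  haveI := h2; haveI := h3; haveI := h4
  haveI : IsAffine R₁.left := isAffine_of_closed r₁
  obtain ⟨R₀, _, r₀, g1, g2, g3, g4, g5, g6, guniv⟩ := exists_solvRadical (G := H₀)
  obtain ⟨f₁, hf₁⟩ := guniv R₁ r₁ ‹_› h2 h3 h4 h5 h6
  haveI := g1; haveI := g2; haveI := g3; haveI := g4
  haveI := isClosedImmersion_of_open j
  haveI : Mono j.left := inferInstance
  haveI : Mono j := Over.mono_of_mono_left j
  haveI : IsClosedImmersion (r₀ ≫ j).left := by rw [Over.comp_left]; infer_instance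
  have hn := normal_comp_radical j r₀ g5 g6 guniv
  obtain ⟨f₀, hf₀⟩ := hmax R₀ (r₀ ≫ j) inferInstance g3 g4 hn g6
  refine char_eq_one fun x => ?_
  rw [← cv_comp, ← hf₁, ← Category.assoc]
  refine hχ ((x ≫ f₁) ≫ f₀) ((x ≫ f₁) ≫ r₀) ?_
  rw [Category.assoc (x ≫ f₁) f₀ r, hf₀, Category.assoc (x ≫ f₁) r₀ j]

end Groth.Agent.Obs28.TorW
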