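import Groth.Agent.Obs28.TorusWeights
import Groth.Agent.Obs28.RadMain
import Groth.Agent.Obs28.ActPts
import Groth.Agent.Obs28.Char
import Groth.Agent.AGFRoot.MaxTorusConj

/-! A torus of a Borel subgroup detecting a character, with transitive normalizer. -/

universe u

open CategoryTheory MonoidalCategory CartesianMonoidalCategory MonObj GrpObj AlgebraicGeometry
open scoped TensorProduct

namespace Groth.Agent.Obs28.TorW

open GrpSchLib.Kunneth GrpSchLib.AffineHopf AGFRoot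

set_option linter.unusedSectionVars false
set_option linter.style.haveILetI false

variable {k : Type u} [Field k] [IsAlgClosed k] {G B : Over (Spec (CommRingCat.of k))} [GrpObj G] [GrpObj B]
  [IsAffine G.left] [Smooth G.hom] [IsAffine B.left] [Smooth B.hom]

theorem isAffine_Gm : IsAffine (Red.Gm (Spec (CommRingCat.of k))).left := by
  obtain ⟨a⟩ := GrpSchLib.AffineHopf.nonempty_DS_iso k ℤ
  let j : sp k (MonoidAlgebra k (Multiplicative ℤ)) ≅ Red.Gm (Spec (CommRingCat.of k)) := (Grp.forget _).mapIso a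
  exact @IsAffine.of_isIso _ _ ((Over.forget _).mapIso j).inv (Iso.isIso_inv _) (isAffine_Spec _)

theorem cv_comp (i : B ⟶ G) (χ : G ⟶ Red.Gm (Spec (CommRingCat.of k))) (b : Rat B) :
    cv χ (b ≫ i) = cv (i ≫ χ) b := by
  rw [cv, cv, GmPts.gmFn_comp, pfn_comp]
  rfl

/-- A character trivial on rational points is trivial. -/
theorem char_eq_one {χ : G ⟶ Red.Gm (Spec (CommRingCat.of k))} (h : ∀ g : Rat G, cv χ g = 1) : χ = 1 := by
  haveI := isReduced_grp G
  refine GmPts.gmFn_injective (ext_pts fun g => ?_)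
  show pfn g (Red.gmFn χ) = pfn g (Red.gmFn (1 : G ⟶ Red.Gm (Spec (CommRingCat.of k))))
  rw [GmPts.gmFn_one, map_one]
  exact h g

theorem cv_one_pt (χ : G ⟶ Red.Gm (Spec (CommRingCat.of k))) [IsMonHom χ] : cv χ (1 : Rat G) = 1 :=
  mul_left_cancel₀ (cv_ne_zero χ (1 : Rat G)) (by rw [← cv_hom, _root_.mul_one, _root_.mul_one])

theorem cv_conj (χ : G ⟶ Red.Gm (Spec (CommRingCat.of k))) [IsMonHom χ] (g x : Rat G) :
    cv χ (g * x * g⁻¹) = cv χ x := by
  have h1 : cv χ g⁻¹ * cv χ g = 1 := by rw [← cv_hom, inv_mul_cancel, cv_one_pt]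
  rw [cv_hom, cv_hom]
  linear_combination cv χ x * h1

/-- A character of a connected solvable group nontrivial on some point is nontrivial on some torus. -/
theorem exists_torus_char [ConnectedSpace B.left] (hs : Red.IsSolvableGrp B)
    (χ : B ⟶ Red.Gm (Spec (CommRingCat.of k))) [IsMonHom χ] {b : Rat B} (hb : cv χ b ≠ 1) :
    ∃ (S : Over (Spec (CommRingCat.of k))) (_ : GrpObj S) (j : S ⟶ B) (_ : IsMonHom j) (p : Rat S),
      Red.IsTorus S ∧ cv χ (p ≫ j) ≠ 1 := by
  classical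
  obtain ⟨A, _, _, _, eB, _⟩ := SolvSch.exists_coords B
  obtain ⟨-, _⟩ := SolvSch.isDomain_coords eB
  have hT := SolvSch.isTrigonalizable_coords eB hs
  obtain ⟨Θ, hΘ⟩ := Solv.exists_splitting hT
  let j : sp k (MonoidAlgebra k (GroupLike k A)) ⟶ B := spMap (Θ : A →ₐ[k] _) ≫ eB.hom
  have hT₀ : Red.IsTorus (sp k (MonoidAlgebra k (GroupLike k A))) := by
    haveI : Group.FG (GroupLike k A) := Group.fg_iff_monoid_fg.mpr inferInstance
    haveI : AddGroup.FG (Additive (GroupLike k A)) := AddGroup.fg_of_group_fg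
    haveI : Module.Finite ℤ (Additive (GroupLike k A)) := Module.Finite.iff_addGroup_fg.mpr inferInstance
    obtain ⟨n, c⟩ := Module.basisOfFiniteTypeTorsionFree' (R := ℤ) (M := Additive (GroupLike k A))
    let e : Multiplicative (Fin n → ℤ) ≃* GroupLike k A := (c.equivFun.toAddEquiv.symm).toMultiplicativeLeft
    obtain ⟨d⟩ := nonempty_DS_iso k (Fin n → ℤ)
    exact MaxTorusLib.isTorus_of_iso
      (spIso (MonoidAlgebra.domCongrBialgEquiv k k e) ≪≫ d) (MaxTorusLib.isTorus_DS _ n)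
  let a : A := pfn (X := B) (B := A) eB.hom (Red.gmFn χ)
  have hval : ∀ g : WithConv (A →ₐ[k] k), cv χ ((ptOne k).hom ≫ SolvSch.pts eB g) = g.ofConv a := fun g => by
    have e1 : (ptOne k).hom ≫ SolvSch.pts eB g = (VecGrp.ptMap g.ofConv ≫ eB.hom : Rat B) := by
      show (ptOne k).hom ≫ unitSp.hom ≫ spMap _ ≫ eB.hom = _
      rw [← Category.assoc, show (ptOne k).hom ≫ unitSp.hom = 𝟙 (sp k k) from unique_to_base _ _]
      exact Category.id_comp (spMap _ ≫ eB.hom)
    rw [cv, e1]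
    exact DFunLike.congr_fun (pfn_ptMap _ _) _
  have hmul : ∀ g g' : WithConv (A →ₐ[k] k), (g * g').ofConv a = g.ofConv a * g'.ofConv a := fun g g' => by
    rw [← hval, ← hval, ← hval, map_mul, MonObj.comp_mul, cv_hom]
  have hgl : IsGroupLikeElem k a := by
    haveI : _root_.IsReduced A := inferInstance
    have hsep : ∀ f : A, (∀ g : WithConv (A →ₐ[k] k), g.ofConv f = 0) → f = 0 := fun f hf => by
      by_contra h0
      obtain ⟨φ, hφ⟩ := exists_point_ne_zero (k := k) h0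
      exact hφ (hf (WithConv.toConv φ))
    refine ⟨?_, sub_eq_zero.mp (eq_zero_of_evl (fun g : WithConv (A →ₐ[k] k) => g.ofConv) hsep _ fun g => hsep _ fun g' => ?_)⟩
    · have h := hval 1
      rw [map_one, MonObj.comp_one] at h
      exact (h.symm.trans (cv_one_pt χ))
    · have key : ∀ z : A ⊗[k] A, g'.ofConv (evl g.ofConv z) =
          Algebra.TensorProduct.lift g.ofConv g'.ofConv (fun _ _ => Commute.all _ _) z := fun z => by
        induction z using TensorProduct.induction_on with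
        | zero => simp
        | tmul x y => rw [evl_tmul, map_smul, smul_eq_mul, Algebra.TensorProduct.lift_tmul]
        | add x y hx hy => simp only [map_add, hx, hy]
      rw [key, map_sub, sub_eq_zero]
      refine Eq.trans ?_ ((hmul g g').trans (Algebra.TensorProduct.lift_tmul g.ofConv g'.ofConv _ a a).symm)
      rw [AlgHom.convMul_apply]
  obtain ⟨g₀, hg₀⟩ := (SolvSch.pts_bijective eB).2 ((ptOne k).inv ≫ b)
  refine ⟨sp k (MonoidAlgebra k (GroupLike k A)), inferInstance, j, inferInstance,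
    (ptOne k).hom ≫ unitSp.hom ≫ spMap (SolvChar.liftC (Solv.pr g₀)), hT₀, fun h => hb ?_⟩
  have e2 : ((ptOne k).hom ≫ unitSp.hom ≫ spMap (SolvChar.liftC (Solv.pr g₀))) ≫ j =
      (ptOne k).hom ≫ SolvSch.pts eB (Solv.theta Θ (Solv.pr g₀)) := by
    simp only [j, SolvSch.pts_apply, Category.assoc]
    rw [← Category.assoc (spMap _), spMap_comp]
    rfl
  rw [e2, hval, Solv.theta_apply] at h
  have h3 : Θ a = MonoidAlgebra.single (⟨a, hgl⟩ : GroupLike k A) 1 := by
    rw [← hΘ (MonoidAlgebra.single _ 1), Solv.chr_single, one_smul]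
  rw [h3, SolvChar.liftC_single, _root_.one_mul, Solv.pr_apply, ← hval, hg₀, Iso.hom_inv_id_assoc] at h
  exact h

/-- The rational points of a conjugate. -/
theorem comp_conjBy_sec {H : Over (Spec (CommRingCat.of k))} (g : Rat G) (i : H ⟶ G) (p : Rat H) :
    p ≫ AGF.conjBy (ActPts.sec g) i = g * (p ≫ i) * g⁻¹ := by
  simp only [AGF.conjBy, MonObj.comp_mul, GrpObj.comp_inv, ← Category.assoc, comp_toUnit]
  rw [ActPts.toUnit_sec]

/-- A torus of a Borel subgroup whose conjugates in the Borel subgroup come from its normalizer. -/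
theorem exists_good_torus [ConnectedSpace B.left] (hs : Red.IsSolvableGrp B) (i : B ⟶ G) [IsMonHom i]
    [IsClosedImmersion i.left] (χ : G ⟶ Red.Gm (Spec (CommRingCat.of k))) [IsMonHom χ]
    (hχ : ∃ b : Rat B, cv χ (b ≫ i) ≠ 1) :
    ∃ (r : ℕ) (τ : (Fin r → kˣ) →* Rat G), IsAlg τ ∧ (∀ x, Mem i (τ x)) ∧ (∃ x, cv χ (τ x) ≠ 1) ∧
      ∀ g : Rat G, (∀ x, Mem i (g⁻¹ * τ x * g)) → ∃ b : Rat B, ∀ y ∈ τ.range,
        (g * (b ≫ i))⁻¹ * y * (g * (b ≫ i)) ∈ τ.range ∧ (g * (b ≫ i)) * y * (g * (b ≫ i))⁻¹ ∈ τ.range := by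
  obtain ⟨b₁, hb₁⟩ := hχ
  rw [cv_comp] at hb₁
  obtain ⟨S, _, j, _, p, hS, hp⟩ := exists_torus_char hs (i ≫ χ) hb₁
  obtain ⟨T, _, j₀, _, _, hT, key⟩ := SolvSch.exists_torus_conj_le hs
  obtain ⟨g', f', _, hf'⟩ := key S j hS
  haveI : Mono i.left := inferInstance
  haveI : Mono i := Over.mono_of_mono_left i
  obtain ⟨r, τ, hτ, hrange⟩ := exists_torus_data (j₀ ≫ i) hT
  refine ⟨r, τ, hτ, fun x => ?_, ?_, fun g hg => ?_⟩
  · obtain ⟨q, hq⟩ := (hrange (τ x)).mp ⟨x, rfl⟩
    exact ⟨q ≫ j₀, by rw [Category.assoc, hq]⟩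
  · obtain ⟨x, hx⟩ : ((p ≫ f') ≫ j₀ ≫ i) ∈ τ.range := (hrange _).mpr ⟨p ≫ f', rfl⟩
    refine ⟨x, ?_⟩
    rw [hx, ← Category.assoc (p ≫ f'), cv_comp, Category.assoc p f', hf',
      show g' = ActPts.sec ((ptOne k).hom ≫ g') from by
        rw [← cancel_epi (ptOne k).hom]; exact (ActPts.toUnit_sec _).symm,
      comp_conjBy_sec, cv_conj]
    exact hp
  · obtain ⟨_, hTs, hTc, -⟩ := SolvSch.torus_facts hT
    haveI := hTs; haveI := hTc
    haveI : IsClosedImmersion j₀.left := SolvSch.isClosedImmersion_torus j₀ hT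
    haveI : IsClosedImmersion (j₀ ≫ i).left := by rw [Over.comp_left]; infer_instance
    let φ := AGF.conjBy (ActPts.sec g⁻¹) (j₀ ≫ i)
    obtain ⟨h, hh⟩ := RadM.fac_of_rat φ i fun q => by
      obtain ⟨x, hx⟩ := (hrange (q ≫ j₀ ≫ i)).mpr ⟨q, rfl⟩
      obtain ⟨z, hz⟩ := hg x
      exact ⟨z, by rw [hz, comp_conjBy_sec, _root_.inv_inv, hx]⟩
    haveI : IsMonHom (h ≫ i) := by rw [hh]; infer_instance
    haveI : IsMonHom h := RedSub30.isMonHom_of_mono i h
    obtain ⟨c, f, _, hf⟩ := key T h hT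
    let n : Rat G := (((ptOne k).hom ≫ c) ≫ i) * g⁻¹
    have hfn : ∀ q : Rat T, (q ≫ f) ≫ j₀ ≫ i = n * (q ≫ j₀ ≫ i) * n⁻¹ := fun q => by
      rw [show c = ActPts.sec ((ptOne k).hom ≫ c) from by
        rw [← cancel_epi (ptOne k).hom]; exact (ActPts.toUnit_sec _).symm] at hf
      calc (q ≫ f) ≫ j₀ ≫ i = (q ≫ f ≫ j₀) ≫ i := by simp only [Category.assoc]
        _ = ((ptOne k).hom ≫ c) ≫ i * (q ≫ h ≫ i) * (((ptOne k).hom ≫ c) ≫ i)⁻¹ := by
          rw [hf, comp_conjBy_sec, MonObj.mul_comp, MonObj.mul_comp, GrpObj.inv_comp, Category.assoc q h i]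
        _ = _ := by
          rw [hh, comp_conjBy_sec]
          simp only [n, _root_.mul_inv_rev, _root_.inv_inv, _root_.mul_assoc]
    have hfeq : f ≫ j₀ ≫ i = (j₀ ≫ i) ≫ (conjIso (ActPts.sec n)).hom := by
      haveI : IsReduced T.left := GrpSchLib.isReduced_of_smooth_field T.hom
      refine Unip.hom_ext_rat fun q => ?_
      show q ≫ f ≫ j₀ ≫ i = q ≫ (j₀ ≫ i) ≫ AGF.conjBy (ActPts.sec n) (𝟙 G)
      rw [← Category.assoc q (j₀ ≫ i), comp_conjBy_sec, Category.comp_id, ← Category.assoc q f, hfn]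
    haveI : IsIso (conjIso (ActPts.sec n)).hom.left :=
      inferInstanceAs (IsIso ((Over.forget _).map (conjIso (ActPts.sec n)).hom))
    haveI : IsClosedImmersion (f.left ≫ (j₀ ≫ i).left) := by
      rw [← Over.comp_left, hfeq, Over.comp_left]; infer_instance
    haveI : IsClosedImmersion f.left := IsClosedImmersion.of_comp _ (j₀ ≫ i).left
    haveI : CompactSpace T.left := inferInstance
    haveI : IsLocallyNoetherian T.left := LocallyOfFiniteType.isLocallyNoetherian T.hom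
    haveI : IsReduced T.left := GrpSchLib.isReduced_of_smooth_field T.hom
    haveI := isIso_of_endo f
    refine ⟨((ptOne k).hom ≫ c)⁻¹, fun y hy => ?_⟩
    obtain ⟨q, rfl⟩ := (hrange y).mp hy
    have hn : (g * (((ptOne k).hom ≫ c)⁻¹ ≫ i)) = n⁻¹ := by
      simp only [n, GrpObj.inv_comp, _root_.mul_inv_rev, _root_.inv_inv]
    rw [hn, _root_.inv_inv]
    refine ⟨(hrange _).mpr ⟨q ≫ f, hfn q⟩, (hrange _).mpr ⟨q ≫ inv f, ?_⟩⟩
    have h2 := hfn (q ≫ inv f)
    rw [show (q ≫ inv f) ≫ f = q by simp] at h2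
    rw [h2]
    group

end Groth.Agent.Obs28.TorW
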