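import Groth.Agent.Obs28.Hull
import Groth.Agent.Obs28.RadBasic
import Groth.Agent.AGFRoot.SolvScheme
import Groth.Agent.AGFRoot.Cochar
import Mathlib.LinearAlgebra.LinearIndependent.Lemmas
import Mathlib.RingTheory.LittleWedderburn

/-! Tori through their rational points: characters and weight bases. -/

universe u

open CategoryTheory MonoidalCategory CartesianMonoidalCategory MonObj GrpObj AlgebraicGeometry
open scoped TensorProduct

namespace Groth.Agent.Obs28.TorW

open GrpSchLib.Kunneth

set_option linter.unusedSectionVars false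
set_option linter.style.haveILetI false

variable {k : Type u} [Field k] [IsAlgClosed k]

/-- The value of the character `d` at a point of the standard torus. -/
def pw {r : ℕ} (d : Fin r → ℤ) : (Fin r → kˣ) →* kˣ where
  toFun x := ∏ i, x i ^ d i
  map_one' := by simp
  map_mul' x y := by simp [mul_zpow, Finset.prod_mul_distrib]

theorem pw_add {r : ℕ} (d e : Fin r → ℤ) (x : Fin r → kˣ) : pw (d + e) x = pw d x * pw e x := by
  simp [pw, zpow_add, Finset.prod_mul_distrib]

theorem pw_single {r : ℕ} (d : Fin r → ℤ) (i : Fin r) (s : kˣ) : pw d (Pi.mulSingle (M := fun _ : Fin r => kˣ) i s) = s ^ d i := by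
  show ∏ j, Pi.mulSingle (M := fun _ : Fin r => kˣ) i s j ^ d j = _
  rw [Finset.prod_eq_single i (fun j _ hj => by rw [Pi.mulSingle_eq_of_ne hj, one_zpow])
    (fun h => absurd (Finset.mem_univ i) h), Pi.mulSingle_eq_same]

theorem zpow_eq_one_of_forall {m : ℤ} (h : ∀ s : kˣ, s ^ m = 1) : m = 0 := by
  by_contra hm
  have h' : ∀ s : k, s ≠ 0 → s ^ m.natAbs = 1 := fun s hs => by
    have h2 := congrArg Units.val (h (Units.mk0 s hs))
    rw [Units.val_zpow_eq_zpow_val, Units.val_mk0, Units.val_one] at h2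
    rcases Int.natAbs_eq m with e | e <;> rw [e] at h2
    · rwa [zpow_natCast] at h2
    · rwa [zpow_neg, zpow_natCast, inv_eq_one] at h2
  classical
  obtain ⟨x, hx⟩ := Infinite.exists_notMem_finset
    (insert (0 : k) (Polynomial.nthRoots m.natAbs (1 : k)).toFinset)
  rw [Finset.mem_insert, not_or, Multiset.mem_toFinset, Polynomial.mem_nthRoots (Int.natAbs_pos.mpr hm)] at hx
  exact hx.2 (h' x hx.1)

theorem pw_injective {r : ℕ} : Function.Injective (fun d : Fin r → ℤ => (Units.coeHom k).comp (pw (k := k) d)) := by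
  intro d e h
  funext i
  refine sub_eq_zero.mp (zpow_eq_one_of_forall (k := k) fun s => ?_)
  have := Units.ext (DFunLike.congr_fun h (Pi.mulSingle i s))
  rw [pw_single, pw_single] at this
  rw [zpow_sub, this, mul_inv_cancel]

theorem pw_indep {r : ℕ} (D : Finset (Fin r → ℤ)) (c : (Fin r → ℤ) → k)
    (h : ∀ x : Fin r → kˣ, ∑ d ∈ D, c d * (pw d x : k) = 0) : ∀ d ∈ D, c d = 0 := by
  classical
  let F : (Fin r → ℤ) → ((Fin r → kˣ) →* k) := fun d => (Units.coeHom k).comp (pw d)
  have li := linearIndependent_monoidHom (Fin r → kˣ) k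
  have li' : LinearIndependent k (fun d : Fin r → ℤ => ((F d : (Fin r → kˣ) →* k) : (Fin r → kˣ) → k)) :=
    LinearIndependent.comp li F pw_injective
  refine linearIndependent_iff'.mp li' D c ?_
  funext x
  rw [Finset.sum_apply, Pi.zero_apply]
  exact h x

variable {M : Type u} [CommGroup M]

/-- The points of the standard torus as characters of a free group. -/
def psi {r : ℕ} (e : Multiplicative (Fin r → ℤ) ≃* M) : (Fin r → kˣ) →* (M →* kˣ) :=
  MonoidHom.mk' (fun x => MonoidHom.mk' (fun m => pw (e.symm m).toAdd x) fun m m' => by rw [map_mul, toAdd_mul, pw_add])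
    fun x y => MonoidHom.ext fun m => map_mul (pw (e.symm m).toAdd) x y

theorem psi_apply {r : ℕ} (e : Multiplicative (Fin r → ℤ) ≃* M) (x : Fin r → kˣ) (m : M) :
    psi e x m = pw (e.symm m).toAdd x := rfl

theorem psi_surjective {r : ℕ} (e : Multiplicative (Fin r → ℤ) ≃* M) : Function.Surjective (psi (k := k) e) := by
  classical
  intro φ
  refine ⟨fun i => φ (e (Multiplicative.ofAdd (Pi.single i (1 : ℤ)))), MonoidHom.ext fun m => ?_⟩
  obtain ⟨d, rfl⟩ := e.surjective m
  rw [psi_apply, e.symm_apply_apply]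
  show ∏ i, φ (e (Multiplicative.ofAdd (Pi.single i (1 : ℤ)))) ^ d.toAdd i = φ (e d)
  simp only [← map_zpow, ← map_prod]
  refine congrArg φ (congrArg e (Multiplicative.toAdd.injective ?_))
  simp only [toAdd_prod, toAdd_zpow, toAdd_ofAdd]
  funext j
  simp [Finset.sum_apply, Pi.single_apply]

theorem liftC_psi {r : ℕ} (e : Multiplicative (Fin r → ℤ) ≃* M) (z : MonoidAlgebra k M) (x : Fin r → kˣ) :
    AGFRoot.SolvChar.liftC (psi e x) z =
      (Finsupp.mapDomain (fun m => (e.symm m).toAdd) z.coeff).sum fun d a => a * (pw d x : k) := by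
  rw [AGFRoot.SolvChar.liftC, MonoidAlgebra.lift_apply, Finsupp.sum_mapDomain_index (fun _ => zero_mul _)
      (fun _ _ _ => add_mul _ _ _)]
  rfl

variable {G : Over (Spec (CommRingCat.of k))} [GrpObj G] [IsAffine G.left] [Smooth G.hom]

/-- A homomorphism of point groups is algebraic. -/
def IsAlg {r : ℕ} (τ : (Fin r → kˣ) →* Rat G) : Prop :=
  ∀ f : Fn G, ∃ z : (Fin r → ℤ) →₀ k, ∀ x, pfn (τ x) f = z.sum fun d a => a * (pw d x : k)

open AGFRoot GrpSchLib.AffineHopf in
/-- The points of a torus mapped to a group. -/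
theorem exists_torus_data {S : Over (Spec (CommRingCat.of k))} [GrpObj S] (j : S ⟶ G) [IsMonHom j]
    (hS : Red.IsTorus S) :
    ∃ (r : ℕ) (τ : (Fin r → kˣ) →* Rat G), IsAlg τ ∧ ∀ g, g ∈ τ.range ↔ Mem j g := by
  classical
  obtain ⟨A, _, _, _, eG, _⟩ := SolvSch.exists_coords G
  obtain ⟨M, _, _, _, ζ, eS, _, h⟩ := SolvSch.exists_zeta eG j hS
  haveI : Group.FG M := Group.fg_iff_monoid_fg.mpr inferInstance
  haveI : AddGroup.FG (Additive M) := AddGroup.fg_of_group_fg
  haveI : Module.Finite ℤ (Additive M) := Module.Finite.iff_addGroup_fg.mpr inferInstance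
  obtain ⟨r, b⟩ := Module.basisOfFiniteTypeTorsionFree' (R := ℤ) (M := Additive M)
  let e : Multiplicative (Fin r → ℤ) ≃* M := (b.equivFun.toAddEquiv.symm).toMultiplicativeLeft
  let ψ := psi (k := k) e
  have hψ : Function.Surjective ψ := psi_surjective e
  let τ : (Fin r → kˣ) →* Rat G := MonoidHom.mk'
    (fun x => (ptOne k).hom ≫ SolvSch.pts eG (Solv.theta ζ (ψ x)))
    fun x y => by rw [map_mul, map_mul, map_mul, MonObj.comp_mul]
  have hτ : ∀ x f, pfn (τ x) f = SolvChar.liftC (ψ x) (ζ (pfn (X := G) (B := A) eG.hom f)) := fun x f => by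
    have e1 : (τ x : Rat G) = VecGrp.ptMap (Solv.theta ζ (ψ x)).ofConv ≫ eG.hom := by
      show (ptOne k).hom ≫ unitSp.hom ≫ spMap _ ≫ eG.hom = _
      rw [← Category.assoc, show (ptOne k).hom ≫ unitSp.hom = 𝟙 (sp k k) from unique_to_base _ _]
      exact Category.id_comp (spMap _ ≫ eG.hom)
    rw [e1]
    exact DFunLike.congr_fun (pfn_ptMap _ _) f
  refine ⟨r, τ, fun f => ⟨Finsupp.mapDomain (fun m => (e.symm m).toAdd)
    (ζ (pfn (X := G) (B := A) eG.hom f)).coeff, fun x => ?_⟩, fun g => ⟨?_, ?_⟩⟩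
  · rw [hτ]
    exact liftC_psi e _ x
  · rintro ⟨x, rfl⟩
    exact ⟨(ptOne k).hom ≫ SolvSch.pts eS (WithConv.toConv (SolvChar.liftC (ψ x))), by
      rw [Category.assoc, SolvSch.pts_comp eG h]; rfl⟩
  · rintro ⟨p, rfl⟩
    obtain ⟨y, hy⟩ := SolvSch.exists_pts_eq eS ((ptOne k).inv ≫ p)
    obtain ⟨x, rfl⟩ := hψ y
    refine ⟨x, ?_⟩
    show (ptOne k).hom ≫ SolvSch.pts eG (Solv.theta ζ (ψ x)) = _
    rw [← SolvSch.pts_comp eG h, hy, Category.assoc, Iso.hom_inv_id_assoc]

variable {r : ℕ} {τ : (Fin r → kˣ) →* Rat G}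

/-- Representations have bases of weight vectors. -/
theorem exists_weight_basis (hτ : IsAlg τ) {V : Type u} [AddCommGroup V] [Module k V] [Module.Finite k V]
    {π : Rat G →* (V ≃ₗ[k] V)} (hπ : IsRegular π) :
    ∃ (J : Type u) (_ : Fintype J) (b : Module.Basis J k V) (d : J → Fin r → ℤ),
      ∀ x j, π (τ x) (b j) = (pw (d j) x : k) • b j := by
  classical
  let W : Set V := {v | ∃ d : Fin r → ℤ, ∀ x, π (τ x) v = (pw d x : k) • v}
  have hspan : ⊤ ≤ Submodule.span k W := by
    intro v _
    let b₀ := Module.finBasis k V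
    choose z hz using fun j => hτ (coeff hπ (b₀.coord j) v)
    let D := Finset.univ.biUnion fun j => (z j).support
    let vd : (Fin r → ℤ) → V := fun d => ∑ j, z j d • b₀ j
    have hexp : ∀ x, π (τ x) v = ∑ d ∈ D, (pw d x : k) • vd d := fun x => by
      conv_lhs => rw [← b₀.sum_repr (π (τ x) v)]
      simp only [vd, Finset.smul_sum, smul_smul]
      rw [Finset.sum_comm]
      refine Finset.sum_congr rfl fun j _ => ?_
      rw [← Finset.sum_smul, ← Module.Basis.coord_apply, ← pfn_coeff hπ, hz, Finsupp.sum_of_support_subset (z j) (Finset.subset_biUnion_of_mem (fun j => (z j).support) (Finset.mem_univ j)) (fun d a => a * (pw d x : k)) (fun _ _ => zero_mul _)]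
      exact congrArg (· • b₀ j) (Finset.sum_congr rfl fun d _ => mul_comm _ _)
    have hw : ∀ d ∈ D, vd d ∈ W := fun d hd => ⟨d, fun y => by
      refine sub_eq_zero.mp ((Module.forall_dual_apply_eq_zero_iff k _).mp fun φ => ?_)
      refine pw_indep D (fun e => φ (π (τ y) (vd e) - (pw e y : k) • vd e)) (fun x => ?_) d hd
      have h1 := hexp (y * x)
      rw [map_mul, map_mul, LinearEquiv.mul_apply, hexp x, map_sum] at h1
      have h3 := congrArg φ h1
      simp only [map_sum, map_smul, smul_eq_mul, map_mul, Units.val_mul] at h3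
      simp only [map_sub, map_smul, smul_eq_mul, sub_mul, Finset.sum_sub_distrib, sub_eq_zero]
      refine Eq.trans (Finset.sum_congr rfl fun e _ => mul_comm _ _) (h3.trans ?_)
      exact Finset.sum_congr rfl fun e _ => by ring⟩
    have h1 := hexp 1
    rw [map_one, map_one] at h1
    change v = _ at h1
    rw [h1]
    exact Submodule.sum_mem _ fun d hd => Submodule.smul_mem _ _ (Submodule.subset_span (hw d hd))
  let b := Module.Basis.ofSpan hspan
  haveI := FiniteDimensional.fintypeBasisIndex b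
  have hb : ∀ j, b j ∈ W := fun j => Module.Basis.ofSpan_subset hspan ⟨j, rfl⟩
  choose d hd using hb
  exact ⟨_, inferInstance, b, d, fun x j => hd j x⟩

/-- An eigenvalue of an operator with an eigenbasis is one of the basis eigenvalues. -/
theorem eigenvalue_eq {V J : Type*} [AddCommGroup V] [Module k V] [Fintype J] (b : Module.Basis J k V)
    (e : V →ₗ[k] V) {ev : J → k} (he : ∀ j, e (b j) = ev j • b j) {w : V} {c : k} (hc : e w = c • w) {j : J}
    (hj : b.repr w j ≠ 0) : ev j = c := by
  classical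
  have h1 : b.repr (e w) j = ev j * b.repr w j := by
    conv_lhs => rw [← b.sum_repr w]
    simp only [map_sum, map_smul, he, Finsupp.coe_finsetSum, Finset.sum_apply, Finsupp.smul_apply, smul_eq_mul,
      b.repr_self, Finsupp.single_apply]
    simp [mul_comm]
  rw [hc, map_smul, Finsupp.smul_apply, smul_eq_mul] at h1
  exact (mul_right_cancel₀ hj h1).symm

end Groth.Agent.Obs28.TorW
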