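import Groth.Agent.Obs28.RadMain
import Groth.Agent.AGFRoot.BorelField
import Groth.Agent.GrpSchLib.SmoothQuot
import Groth.Agent.Obs28.ActPts
import Groth.Agent.AGStr.Descend

/-! The quotient by the unipotent radical has a reductive identity component. -/

universe u

open CategoryTheory MonoidalCategory CartesianMonoidalCategory MonObj GrpObj AlgebraicGeometry

namespace Groth.Agent.Obs28.RadM

open GrpSchLib.Kunneth

set_option linter.unusedSectionVars false
set_option linter.style.haveILetI false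

variable {k : Type u} [Field k] [IsAlgClosed k]

/-- A homomorphism with open image into a connected group reaches every rational point. -/
theorem exists_rat_of_isOpen {A B : Over (Spec (CommRingCat.of k))} [GrpObj A] [GrpObj B] [IsAffine A.left]
    [Smooth A.hom] [IsAffine B.left] [Smooth B.hom] [ConnectedSpace B.left] (p : A ⟶ B) [IsMonHom p]
    (hp : IsOpen (Set.range p.left)) (y : Rat B) : ∃ x : Rat A, x ≫ p = y := by
  haveI : IsIntegral B.left := Unip.isIntegral_grp
  let τ : B ⟶ B := 𝟙 B * cst y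
  have hτ : ∀ a : Rat B, a ≫ τ = a * y := fun a => by
    rw [MonObj.comp_mul, Category.comp_id, comp_cst, cst_pt]
  let S := Set.range p.left
  have h1 : ptx (1 : Rat B) ∈ S := ⟨ptx (1 : Rat A), by rw [← ptx_comp, MonObj.one_comp]⟩
  have hU : IsOpen (τ.left ⁻¹' S) := hp.preimage τ.left.continuous
  have hUne : (τ.left ⁻¹' S).Nonempty := ⟨ptx (y⁻¹), by
    show τ.left (ptx y⁻¹) ∈ S
    rw [← ptx_comp, hτ, inv_mul_cancel]
    exact h1⟩
  obtain ⟨a, ha1, ha2⟩ := exists_rat (X := B) (nonempty_preirreducible_inter hp hU ⟨_, h1⟩ hUne)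
    (hp.inter hU).isLocallyClosed
  have lift : ∀ b : Rat B, ptx b ∈ S → ∃ x : Rat A, x ≫ p = b := by
    rintro b ⟨z, hz⟩
    obtain ⟨s, hs⟩ : ∃ s : Rat A, ptx s ∈ p.left ⁻¹' {ptx b} := by
      refine exists_rat (X := A) ⟨z, hz⟩ ?_
      exact ((ActPts.isClosed_ptx b).preimage p.left.continuous).isLocallyClosed
    exact ⟨s, ActPts.rat_ext (by rw [ptx_comp]; exact hs)⟩
  obtain ⟨x₁, hx₁⟩ := lift a ha1
  obtain ⟨x₂, hx₂⟩ := lift (a * y) (by
    have : τ.left (ptx a) ∈ S := ha2
    rwa [← ptx_comp, hτ] at this)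
  exact ⟨x₁⁻¹ * x₂, by rw [MonObj.mul_comp, GrpObj.inv_comp, hx₁, hx₂, inv_mul_cancel_left]⟩

variable {H : Over (Spec (CommRingCat.of k))} [GrpObj H] [IsAffine H.left] [Smooth H.hom]

/-- The quotient by the unipotent radical has reductive identity component. -/
theorem isReductiveGrp_quotient {U Q : Over (Spec (CommRingCat.of k))} [GrpObj U] [GrpObj Q] {u : U ⟶ H}
    (hU : Par.IsUnipotentRadical u) (q : H ⟶ Q) [IsMonHom q] [IsAffine Q.left] [Smooth Q.hom] [Flat q.left]
    [Surjective q.left] (hk : AlgGrp.IsKernel u q) : VecGrp.IsReductiveGrp k Q := by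
  have hu := isUN_of_isUnipotentRadical hU
  haveI := hu.hom; haveI := hu.closed; haveI := hu.smooth; haveI := hu.connected
  haveI : IsAffine U.left := isAffine_of_closed u
  haveI : Mono u.left := inferInstance
  haveI : Mono u := Over.mono_of_mono_left u
  obtain ⟨K, iK, j, hj, hjo, hjc, hKa, hKs, hKc, -⟩ := exists_open_identityComponent Q
  haveI := hj; haveI := hjo; haveI := hjc; haveI := hKa; haveI := hKs; haveI := hKc
  refine ⟨inferInstance, inferInstance, K, iK, j, hj, hjo, hKa, hKs, hKc, fun V _ v hv hvc hVs hVc hvn hVn => ?_⟩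
  obtain ⟨R, _, r, hr, hmax⟩ := exists_max (G := K)
  obtain ⟨f, hf⟩ := hmax V v ⟨hv, hvc, hVs, hVc, hvn, hVn⟩
  have hR := isUN_comp j hr hmax
  haveI := hR.hom; haveI := hR.closed; haveI := hR.smooth; haveI := hR.connected
  haveI := hr.hom; haveI := hr.closed
  haveI : IsAffine R.left := isAffine_of_closed (r ≫ j)
  haveI : Mono (r ≫ j).left := inferInstance
  haveI : Mono (r ≫ j) := Over.mono_of_mono_left (r ≫ j)
  obtain ⟨W, _, w, c, hw, hwc, hWs, hcw, hsur, huniv⟩ := exists_preimage q (r ≫ j)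
  haveI := hw; haveI := hwc; haveI := hWs
  haveI := hsur ‹_›
  haveI : IsAffine W.left := isAffine_of_closed w
  haveI : Mono w.left := inferInstance
  haveI : Mono w := Over.mono_of_mono_left w
  haveI : IsMonHom (c ≫ r ≫ j) := by rw [hcw]; infer_instance
  haveI : IsMonHom c := RedSub30.isMonHom_of_mono (r ≫ j) c
  haveI : IsReduced U.left := isReduced_grp U
  haveI : IsReduced R.left := isReduced_grp R
  haveI : IsReduced (VecGrp.pt k k).left := inferInstanceAs (IsReduced (Spec (CommRingCat.of k)))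
  obtain ⟨u₁, hu₁⟩ := huniv U u 1 (by rw [hk.w, MonObj.one_comp, Hom.one_def])
  haveI : IsMonHom (u₁ ≫ w) := by rw [hu₁]; infer_instance
  haveI : IsMonHom u₁ := RedSub30.isMonHom_of_mono w u₁
  haveI : Mono u₁ := by
    haveI : Mono (u₁ ≫ w) := by rw [hu₁]; infer_instance
    exact mono_of_mono u₁ w
  have hker : ∀ {T : Over (Spec (CommRingCat.of k))} (x : T ⟶ W), x ≫ c = 1 → ∃ y : T ⟶ U, y ≫ u₁ = x := by
    intro T x hx
    have h0 : (x ≫ w) ≫ q = toUnit T ≫ η[Q] := by
      rw [Category.assoc, ← hcw, ← Category.assoc, hx, MonObj.one_comp, Hom.one_def]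
    exact ⟨hk.lift (x ≫ w) (toUnit T) h0, by rw [← cancel_mono w, Category.assoc, hu₁, hk.lift_fst]⟩
  obtain ⟨W₀, _, i₀, hi₀, hi₀o, hi₀c, hW₀a, hW₀s, hW₀c, -⟩ := exists_open_identityComponent W
  haveI := hi₀; haveI := hi₀o; haveI := hW₀a; haveI := hW₀s; haveI := hW₀c
  haveI : Flat c.left := (AGFRoot.smooth_and_flat_of_surjective c).2
  haveI : LocallyOfFiniteType c.left := AGStr.locallyOfFiniteType_left c
  haveI : IsLocallyNoetherian R.left := LocallyOfFiniteType.isLocallyNoetherian R.hom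
  haveI : UniversallyOpen c.left := inferInstance
  have hopen : IsOpen (Set.range (i₀ ≫ c).left) := by
    rw [Over.comp_left, Scheme.Hom.comp_base, TopCat.coe_comp, Set.range_comp]
    exact c.left.isOpenMap _ i₀.left.isOpenEmbedding.isOpen_range
  haveI : ConnectedSpace W.left := connected_of_products u₁ i₀ fun x => by
    obtain ⟨y, hy⟩ := exists_rat_of_isOpen (i₀ ≫ c) hopen (x ≫ c)
    obtain ⟨z, hz⟩ := hker (x * (y ≫ i₀)⁻¹) (by
      rw [MonObj.mul_comp, GrpObj.inv_comp, Category.assoc, hy, mul_inv_cancel])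
    exact ⟨z, y, by rw [hz, inv_mul_cancel_right]⟩
  have hWn : AlgGrp.IsNormalHom w := isNormalHom_of_rat w fun g x => by
    obtain ⟨t, ht⟩ := hR.normal _ (g ≫ q) (x ≫ c)
    obtain ⟨z, hz⟩ := huniv (VecGrp.pt k k) (g * (x ≫ w) * g⁻¹) t (by
      rw [← ht, MonObj.mul_comp, MonObj.mul_comp, GrpObj.inv_comp, Category.assoc x, ← hcw, Category.assoc x c])
    exact ⟨z, hz.symm⟩
  obtain ⟨e, he⟩ := le_of_isUnipotentRadical hU (v := w)
    ⟨hw, hwc, hWs, inferInstance, hWn, hasNoSubtorus_ext u₁ c hu.noSub hR.noSub hker⟩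
  have hR1 : (𝟙 R : R ⟶ R) = 1 := Unip.hom_ext_rat fun y => by
    obtain ⟨x, hx⟩ := exists_rat_over c y
    rw [Category.comp_id, MonObj.comp_one, ← hx, ← cancel_mono (r ≫ j), Category.assoc, hcw, ← he,
      Category.assoc, hk.w, MonObj.one_comp, ← Hom.one_def, MonObj.comp_one, MonObj.comp_one]
  haveI : Mono v.left := inferInstance
  haveI : Mono v := Over.mono_of_mono_left v
  have hV1 : (𝟙 V : V ⟶ V) = 1 := by
    rw [← cancel_mono v, Category.id_comp, MonObj.one_comp, ← hf, ← Category.comp_id f, hR1, MonObj.comp_one,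
      MonObj.one_comp]
  exact ⟨η[V].left, by simpa [Hom.one_def] using (congrArg CommaMorphism.left hV1).symm, Over.w η[V]⟩

end Groth.Agent.Obs28.RadM
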