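import Groth.Agent.Obs28.UnipQuot
import Groth.Agent.Obs28.UnipRed
import Groth.Agent.Obs28.HomogAffine
import Groth.Agent.Obs28.Res
import Groth.Agent.Obs28.Ops

/-! The action of the quotient by a normal subgroup on invariant functions. -/

universe u

open CategoryTheory CategoryTheory.Limits MonoidalCategory CartesianMonoidalCategory MonObj GrpObj AlgebraicGeometry
open scoped TensorProduct

namespace Groth.Agent.Obs28.RadM

open GrpSchLib GrpSchLib.Kunneth

set_option linter.unusedSectionVars false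
set_option linter.style.haveILetI false

variable {k : Type u} [Field k] [IsAlgClosed k] {L H U Q : Over (Spec (CommRingCat.of k))} [GrpObj L] [GrpObj H]
  [GrpObj U] [GrpObj Q] [IsAffine H.left] [Smooth H.hom] [IsAffine U.left] [Smooth U.hom]

section Descend

variable (u : U ⟶ H) [IsMonHom u] (q : H ⟶ Q) [IsMonHom q] [Flat q.left] [Surjective q.left] [QuasiCompact q.left]
  (hk : AlgGrp.IsKernel u q)

include hk

/-- Invariant functions descend to the quotient by a normal subgroup. -/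
theorem exists_fn_of_inv (f : Fn H) (hf : Inv' u f) : ∃ e : Fn Q, ev q e = f := by
  obtain ⟨e, he⟩ := AGStr.exists_desc q (affPt (n := 1) fun _ => f) fun T g₁ g₂ h => by
    have h0 : (g₁⁻¹ * g₂) ≫ q = toUnit T ≫ η[Q] := by
      rw [MonObj.mul_comp, GrpObj.inv_comp, h, inv_mul_cancel, Hom.one_def]
    let n := hk.lift _ _ h0
    have hn : g₁ * (n ≫ u) = g₂ := by
      rw [show n ≫ u = g₁⁻¹ * g₂ from hk.lift_fst _ _ h0, mul_inv_cancel_left]
    refine aff_ext fun l => ?_
    rw [← ev_ev, ← ev_ev, ev_affPt, ← hn]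
    have e1 : ev ((H ◁ u) ≫ μ[H]) f = ev (fst H U) f := (inv'_iff u f).mpr hf
    have e2 := congrArg (ev (lift g₁ n)) e1
    rw [ev_ev, ev_ev, lift_fst, ← Category.assoc, lift_whiskerLeft, ← Hom.mul_def] at e2
    exact e2.symm
  exact ⟨ev e (affCoord 0), by rw [ev_ev, he, ev_affPt]⟩

/-- Representations trivial on a normal subgroup descend to the quotient. -/
theorem exists_descended_rep [LocallyOfFiniteType Q.hom] {M : Type u} [AddCommGroup M] [Module k M]
    {π : Rat H →* (M ≃ₗ[k] M)} (hπ : IsRegular π) (htriv : ∀ x : Rat U, π (x ≫ u) = 1) :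
    ∃ (π' : Rat Q →* (M ≃ₗ[k] M)) (_ : IsRegular π'), ∀ h, π' (h ≫ q) = π h := by
  classical
  haveI := isReduced_grp H
  choose s hs using fun y : Rat Q => exists_rat_over q y
  have key : ∀ h h' : Rat H, h ≫ q = h' ≫ q → π h = π h' := fun h h' e => by
    have h0 : (h⁻¹ * h') ≫ q = toUnit _ ≫ η[Q] := by
      rw [MonObj.mul_comp, GrpObj.inv_comp, e, inv_mul_cancel, Hom.one_def]
    rw [← mul_inv_cancel_left h h', ← hk.lift_fst _ _ h0, map_mul, htriv, _root_.mul_one]
  let π' : Rat Q →* (M ≃ₗ[k] M) := MonoidHom.mk' (fun y => π (s y)) fun y y' => by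
    rw [← map_mul]
    exact key _ _ (by rw [MonObj.mul_comp, hs, hs, hs])
  have hπ'q : ∀ h, π' (h ≫ q) = π h := fun h => key _ _ (hs _)
  refine ⟨π', fun m => ?_, hπ'q⟩
  obtain ⟨z, hz⟩ := hπ m
  let b := Module.Basis.ofVectorSpace k M
  let e := TensorProduct.equivFinsuppOfBasisRight (M := Fn H) b
  have e0 : ∀ (x : Rat H) (w : Fn H ⊗[k] M) j, pfn x (e w j) = b.repr (evl (pfn x) w) j := fun x w j => by
    induction w using TensorProduct.induction_on with
    | zero => simp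
    | tmul a m => simp [e, mul_comm]
    | add s t hs ht => simp only [map_add, Finsupp.add_apply, hs, ht]
  have hinv : ∀ j, Inv' u (e z j) := fun j x => ext_pts fun y => by
    rw [pfn_rMap', e0, e0, ← hz, ← hz, map_mul, htriv, _root_.mul_one]
  choose d hd using fun j => exists_fn_of_inv u q hk (e z j) (hinv j)
  refine ⟨∑ j ∈ (e z).support, d j ⊗ₜ[k] b j, fun y => ?_⟩
  rw [← hs y, hπ'q, map_sum]
  simp only [evl_tmul, pfn_comp, hd, e0, ← hz]
  conv_lhs => rw [← b.linearCombination_repr (π (s y) m)]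
  rw [Finsupp.linearCombination_apply]
  refine Finsupp.sum_of_support_subset _ (fun j hj => ?_) _ (fun j _ => zero_smul k _)
  rw [Finsupp.mem_support_iff] at hj ⊢
  exact fun h0 => hj (by rw [hz, ← e0, h0, map_zero])

end Descend

variable [IsAffine L.left] [Smooth L.hom] (i : H ⟶ L) [IsMonHom i]

/-- A group acts on the functions invariant under a normal subgroup. -/
theorem exists_inv_rep (u : U ⟶ H) [IsMonHom u] (hn : AlgGrp.IsNormalHom u) :
    ∃ (π : Rat H →* (↥(invAlg (u ≫ i)) ≃ₗ[k] ↥(invAlg (u ≫ i)))) (_ : IsRegular π),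
      (∀ h a, ((π h a : ↥(invAlg (u ≫ i))) : Fn L) = rMap (h ≫ i) (a : Fn L)) ∧ ∀ x : Rat U, π (x ≫ u) = 1 := by
  haveI := isReduced_grp L
  let πH : Rat H →* (Fn L ≃ₗ[k] Fn L) :=
    rPi.comp (MonoidHom.mk' (fun h => h ≫ i) fun x y => MonObj.mul_comp x y i)
  have hπH : IsRegular πH := fun m => by
    obtain ⟨z, hz⟩ := rPi_regular (G := L) m
    refine ⟨VecGrp.Wmap (ev i) z, fun h => ?_⟩
    rw [evl_Wmap]
    exact hz (h ≫ i)
  have hst : ∀ h, ∀ f ∈ Subalgebra.toSubmodule (invAlg (u ≫ i)), πH h f ∈ Subalgebra.toSubmodule (invAlg (u ≫ i)) := by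
    intro h f hf x
    obtain ⟨n, hn'⟩ := hn _ h⁻¹ x
    refine ext_pts fun y => ?_
    show pfn y (rMap (x ≫ u ≫ i) (rMap (h ≫ i) f)) = pfn y (rMap (h ≫ i) f)
    rw [pfn_rMap', pfn_rMap', pfn_rMap', _root_.mul_assoc]
    have e : (x ≫ u ≫ i) * (h ≫ i) = (h ≫ i) * (n ≫ u ≫ i) := by
      have e' : (x ≫ u) * h = h * (n ≫ u) := by rw [← hn', _root_.inv_inv, ← _root_.mul_assoc, mul_inv_cancel_left]
      simpa only [MonObj.mul_comp, Category.assoc] using congrArg (· ≫ i) e'
    rw [e, ← _root_.mul_assoc]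
    exact Inv'.apply (u ≫ i) hf (y * (h ≫ i)) n
  refine ⟨subPi πH _ hst, subPi_regular _ _ _ hπH, fun h a => rfl, fun x => LinearEquiv.ext fun a => Subtype.ext ?_⟩
  show rMap ((x ≫ u) ≫ i) (a : Fn L) = _
  rw [Category.assoc]
  exact a.2 x


section Separation

variable {K Y : Over (Spec (CommRingCat.of k))} [GrpObj K] [IsAffine Y.left] [LocallyOfFiniteType Y.hom]
  {j : K ⟶ L} {a : AlgGrp.Action L Y} {o : 𝟙_ (Over (Spec (CommRingCat.of k))) ⟶ Y} (hY : AGF.IsQuotient j Y a o)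
  [IsClosedImmersion i.left]

include hY

/-- Functions on an affine quotient by a smaller subgroup detect the cosets of a closed subgroup. -/
theorem mem_of_quot_vanish (hj : ∀ x : Rat K, Mem i (x ≫ j)) (g x : Rat L)
    (hx : ∀ e : Fn Y, (∀ h : Rat H, pfn ((g * (h ≫ i)) ≫ a.orbitMap o) e = 0) → pfn (x ≫ a.orbitMap o) e = 0) :
    Mem i (g⁻¹ * x) := by
  haveI := hY.1; haveI := hY.2.1; haveI := hY.2.2.1
  haveI := isReduced_grp L
  let π := a.orbitMap o
  haveI : Flat π.left := hY.2.1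
  haveI : LocallyOfFiniteType π.left := AGStr.locallyOfFiniteType_left π
  haveI : IsLocallyNoetherian Y.left := LocallyOfFiniteType.isLocallyNoetherian Y.hom
  haveI : UniversallyOpen π.left := inferInstance
  by_contra hxm
  let τ : L ⟶ L := cst g⁻¹ * 𝟙 L
  have hτ : ∀ b : Rat L, b ≫ τ = g⁻¹ * b := fun b => by
    rw [MonObj.comp_mul, Category.comp_id, comp_cst, cst_pt]
  let O : Set L.left := τ.left ⁻¹' (Set.range i.left)ᶜ
  have hO : IsOpen O := i.left.isClosedEmbedding.isClosed_range.isOpen_compl.preimage τ.left.continuous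
  have hmem : ∀ b : Rat L, Mem i (g⁻¹ * b) ↔ ptx b ∉ O := fun b => by
    simp only [O, Set.mem_preimage, Set.mem_compl_iff, not_not, ← ptx_comp, hτ]
    refine ⟨fun ⟨h, hh⟩ => ⟨ptx h, by rw [← hh, ptx_comp]⟩, fun hb => ?_⟩
    obtain ⟨c, hc⟩ := hb
    obtain ⟨h, hh⟩ := exists_rat (X := H) (Z := i.left ⁻¹' {ptx (g⁻¹ * b)}) ⟨c, hc⟩
      ((ActPts.isClosed_ptx _).preimage i.left.continuous).isLocallyClosed
    exact ⟨h, ActPts.rat_ext (by rw [ptx_comp]; exact hh)⟩
  let V : TopologicalSpace.Opens Y.left := ⟨π.left '' O, π.left.isOpenMap _ hO⟩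
  have hxV : ptx (x ≫ π) ∈ V := ⟨ptx x, by_contra fun h => hxm ((hmem x).mpr h), by rw [ptx_comp]⟩
  have hgV : ∀ h : Rat H, ptx ((g * (h ≫ i)) ≫ π) ∉ V := fun h hV => by
    obtain ⟨z, hz, hzπ⟩ := hV
    obtain ⟨b, hb, hbπ⟩ := exists_rat (X := L) (Z := O ∩ π.left ⁻¹' {ptx ((g * (h ≫ i)) ≫ π)}) ⟨z, hz, hzπ⟩
      (hO.isLocallyClosed.inter ((ActPts.isClosed_ptx _).preimage π.left.continuous).isLocallyClosed)
    have e : (g * (h ≫ i)) ≫ π = b ≫ π := (ActPts.rat_ext (by rw [ptx_comp]; exact hbπ)).symm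
    have h2 := hY.2.2.2.lift_snd _ _ e
    have h3 := hY.2.2.2.lift_fst _ _ e
    generalize hY.2.2.2.lift _ _ e = w at h2 h3
    rw [← lift_comp_fst_snd w, h3, lift_whiskerLeft_assoc, ← Hom.mul_def] at h2
    refine (hmem b).mp ?_ hb
    rw [← h2, _root_.mul_assoc, inv_mul_cancel_left]
    exact Mem.mul ⟨h, rfl⟩ (hj _)
  let p₀ : (VecGrp.pt k k).left := IsLocalRing.closedPoint k
  obtain ⟨f, hfV, hxf⟩ := (isAffineOpen_top Y.left).exists_basicOpen_le (V := V) ⟨ptx (x ≫ π), hxV⟩ trivial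
  have key : ∀ y : Rat Y, pfn y f ≠ 0 ↔ y.left.base p₀ ∈ Y.left.basicOpen f := by
    intro y
    show _ ↔ p₀ ∈ y.left ⁻¹ᵁ Y.left.basicOpen f
    rw [Scheme.preimage_basicOpen_top, ← isUnit_iff_ne_zero]
    constructor
    · intro hu
      have : IsUnit (y.left.appTop f) :=
        (isUnit_map_iff (Scheme.ΓSpecIso (CommRingCat.of k)).commRingCatIsoToRingEquiv _).mp hu
      rw [(VecGrp.pt k k).left.basicOpen_of_isUnit this]
      trivial
    · intro hp
      refine isUnit_iff_ne_zero.mpr fun h0 => ?_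
      have h1 : y.left.appTop f = 0 :=
        (Scheme.ΓSpecIso (CommRingCat.of k)).commRingCatIsoToRingEquiv.injective (h0.trans (map_zero _).symm)
      rw [h1, Scheme.basicOpen_zero] at hp
      exact hp
  refine (key _).mpr hxf (hx f fun h => ?_)
  by_contra h0
  exact hgV h (hfV ((key _).mp h0))

/-- Primes of the functions on an affine quotient lift to the group. -/
theorem exists_prime_over (q : Ideal (Fn Y)) (hq : q.IsPrime) :
    ∃ p : Ideal (Fn L), p.IsPrime ∧ p.comap (ev (a.orbitMap o)).toRingHom = q := by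
  haveI := hY.2.2.1
  obtain ⟨y, hy⟩ := Y.left.toSpecΓ.surjective ⟨q, hq⟩
  obtain ⟨z, hz⟩ := (a.orbitMap o).left.surjective y
  refine ⟨(L.left.toSpecΓ z).asIdeal, (L.left.toSpecΓ z).isPrime, ?_⟩
  have e : Y.left.toSpecΓ ((a.orbitMap o).left z) =
      (Spec.map (a.orbitMap o).left.appTop) (L.left.toSpecΓ z) := by
    rw [← Scheme.Hom.comp_apply, Scheme.toSpecΓ_naturality, Scheme.Hom.comp_apply]
  rw [hz, hy] at e
  exact (congrArg PrimeSpectrum.asIdeal e).symm

end Separation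

end Groth.Agent.Obs28.RadM
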