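import Groth.Agent.Obs28.UnipAction

/-! Affine quotients by subgroups whose radical lies in the radical of the group. -/

universe u

open CategoryTheory CategoryTheory.Limits MonoidalCategory CartesianMonoidalCategory MonObj GrpObj AlgebraicGeometry
open scoped TensorProduct

namespace Groth.Agent.Obs28.RadM

open GrpSchLib GrpSchLib.Kunneth

set_option linter.unusedSectionVars false
set_option linter.style.haveILetI false

variable {k : Type u} [Field k] [IsAlgClosed k] {L H K Y Q X : Over (Spec (CommRingCat.of k))} [GrpObj L] [GrpObj H]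
  [GrpObj K] [GrpObj Q] [IsAffine L.left] [Smooth L.hom] [IsAffine H.left] [Smooth H.hom] [IsAffine K.left]
  [Smooth K.hom] (i : H ⟶ L) [IsMonHom i] [IsClosedImmersion i.left] (u : K ⟶ H) [IsMonHom u]
  [IsClosedImmersion u.left]

/-- The invariants of a subgroup with affine quotient are the functions on the quotient. -/
theorem invAlg_facts {j : K ⟶ L} [IsMonHom j] [IsClosedImmersion j.left] {a : AlgGrp.Action L Y}
    {o : 𝟙_ (Over (Spec (CommRingCat.of k))) ⟶ Y} [IsAffine Y.left] (hY : AGF.IsQuotient j Y a o) :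
    Algebra.FiniteType k ↥(invAlg j) ∧ (∀ e : Fn Y, ev (a.orbitMap o) e ∈ invAlg j) ∧
      ∀ f ∈ invAlg j, ∃ e : Fn Y, ev (a.orbitMap o) e = f := by
  haveI := hY.1
  haveI := finiteType_fn Y
  have hmem : ∀ e : Fn Y, ev (a.orbitMap o) e ∈ invAlg j := fun e =>
    (inv'_iff j _).mp ((exists_fn_iff j hY _).mp ⟨e, rfl⟩)
  have hsur : ∀ f ∈ invAlg j, ∃ e : Fn Y, ev (a.orbitMap o) e = f := fun f hf =>
    (exists_fn_iff j hY f).mpr ((inv'_iff j f).mpr hf)
  refine ⟨Algebra.FiniteType.of_surjective ((ev (a.orbitMap o)).codRestrict (invAlg j) hmem) fun f => ?_, hmem, hsur⟩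
  obtain ⟨e, he⟩ := hsur f.1 f.2
  exact ⟨e, Subtype.ext he⟩

/-- The main step: the quotient by `H` is affine once the quotient by the normal subgroup is and
geometric invariant theory applies to the quotient group. -/
theorem isAffine_of_two_steps (hn : AlgGrp.IsNormalHom u) {aY : AlgGrp.Action L Y}
    {oY : 𝟙_ (Over (Spec (CommRingCat.of k))) ⟶ Y} [IsAffine Y.left] (hY : AGF.IsQuotient (u ≫ i) Y aY oY)
    (q : H ⟶ Q) [IsMonHom q] [IsAffine Q.left] [Smooth Q.hom] [Flat q.left] [Surjective q.left]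
    (hk : AlgGrp.IsKernel u q) (hQ : VecGrp.IsReductiveGrp k Q) (thmAbi : AGF.ReductiveQuotSurj k)
    (thmAbiv : AGF.ReductiveQuotSeparates k) {a : AlgGrp.Action L X}
    {o : 𝟙_ (Over (Spec (CommRingCat.of k))) ⟶ X} (hX : AGF.IsQuotient i X a o) : IsAffine X.left := by
  haveI := hY.1
  haveI : QuasiCompact q.left := AGStr.quasiCompact_left q
  haveI := isReduced_grp L
  haveI : _root_.IsReduced (Fn L) := inferInstanceAs (_root_.IsReduced Γ(L.left, ⊤))
  obtain ⟨π, hπ, hπv, hπ1⟩ := exists_inv_rep i u hn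
  obtain ⟨π', hπ', hπq⟩ := exists_descended_rep u q hk hπ hπ1
  haveI : IsClosedImmersion (u ≫ i).left := by rw [Over.comp_left]; infer_instance
  obtain ⟨hAfg, hAm, hAs⟩ := invAlg_facts (j := u ≫ i) hY
  haveI := hAfg
  let A := invAlg (u ≫ i)
  haveI : _root_.IsReduced A := isReduced_of_injective A.val Subtype.val_injective
  let ρ : VecGrp.GMod Q A := ofRat hπ'
  have hlift : ∀ y : Rat Q, ∃ h : Rat H, h ≫ q = y := exists_rat_over q
  have hact : ∀ (h : Rat H) (f : A), ((rep ρ (h ≫ q) f : A) : Fn L) = rMap (h ≫ i) (f : Fn L) := fun h f => by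
    rw [show rep ρ = π' from rep_ofRat hπ', hπq, hπv]
  have hρ : ρ.IsMult := by
    refine isMult_of_rep ρ (fun y f f' => ?_) (fun y => ?_) <;> obtain ⟨h, rfl⟩ := hlift y <;> refine Subtype.ext ?_
    · rw [Subalgebra.coe_mul, hact, hact, hact, Subalgebra.coe_mul, map_mul]
    · rw [hact, Subalgebra.coe_one, map_one]
  have hfix : ∀ f : A, f ∈ ρ.fixedUnder (𝟙 Q) ↔ Inv' i (f : Fn L) := fun f => by
    rw [mem_fixedUnder_iff]
    refine ⟨fun hf h => ?_, fun hf y => ?_⟩
    · rw [← hact, ← Category.comp_id (h ≫ q), hf]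
    · obtain ⟨h, rfl⟩ := hlift y
      rw [Category.comp_id]
      exact Subtype.ext ((hact h f).trans (hf h))
  have hinvA : ∀ f : Fn L, Inv' i f → f ∈ A := fun f hf x => by rw [← Category.assoc]; exact hf (x ≫ u)
  -- the subgroup is observable
  have hobs : AGF.IsObservableIn k i := by
    rw [observable_iff]
    intro g hg
    by_contra hmem
    let I : Rat L → Ideal A := fun x => (cosetIdeal i x).comap A.val.toRingHom
    have hst : ∀ x, ρ.IsStable (𝟙 Q) ((I x).restrictScalars k) := fun x => by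
      rw [isStable_iff]
      intro y f hf
      obtain ⟨h, rfl⟩ := hlift y
      rw [Category.comp_id]
      refine (mem_cosetIdeal i x _).mpr fun h' => ?_
      show pfn _ ((rep ρ (h ≫ q) f : A) : Fn L) = 0
      rw [hact, pfn_rMap', _root_.mul_assoc, ← MonObj.mul_comp]
      exact (mem_cosetIdeal i x (f : Fn L)).mp hf _
    have hrad : ∀ x, (I x).IsRadical := fun x => (cosetIdeal_isRadical i x).comap _
    have htop : I 1 ⊔ I g = ⊤ := by
      by_contra hne
      obtain ⟨m, hm, hle⟩ := Ideal.exists_le_maximal _ hne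
      obtain ⟨χ, -, hχ⟩ := exists_point_of_prime (k := k) m
        (fun h => hm.ne_top ((Ideal.eq_top_iff_one m).mpr h))
      let y : Rat Y := ptOf (χ.comp ((ev (aY.orbitMap oY)).codRestrict A hAm))
      haveI : Surjective (aY.orbitMap oY).left := hY.2.2.1
      obtain ⟨x, hx⟩ := exists_rat_over (aY.orbitMap oY) y
      have key : ∀ x₀ : Rat L, I x₀ ≤ m → Mem i (x₀⁻¹ * x) := fun x₀ h0 => by
        refine mem_of_quot_vanish i hY (fun w => ⟨w ≫ u, Category.assoc _ _ _⟩) x₀ x fun e he => ?_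
        rw [hx, pfn_ptOf]
        refine hχ _ (h0 ((mem_cosetIdeal i x₀ _).mpr fun h => ?_))
        exact (pfn_comp _ _ _).symm.trans (he h)
      refine hmem ?_
      obtain ⟨h1, e1⟩ := key 1 (le_sup_left.trans hle)
      obtain ⟨h2, e2⟩ := key g (le_sup_right.trans hle)
      refine ⟨h1 * h2⁻¹, ?_⟩
      rw [MonObj.mul_comp, GrpObj.inv_comp, e1, e2, inv_one, _root_.one_mul, _root_.mul_inv_rev, _root_.inv_inv,
        mul_inv_cancel_left]
    have keyA := thmAbiv Q hQ A ρ hρ inferInstance _ _ (hrad 1) (hrad g) (hst 1) (hst g) htop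
    obtain ⟨b, hb, c, hc, hbc⟩ := Submodule.mem_sup.mp ((Ideal.eq_top_iff_one _).mp keyA)
    have hb0 : pfn (1 : Rat L) ((b : A) : Fn L) = 0 := by
      have := (mem_cosetIdeal i 1 ((b : A) : Fn L)).mp hb 1
      rwa [MonObj.one_comp, _root_.mul_one] at this
    have hc0 : pfn g ((c : A) : Fn L) = 0 := by
      have := (mem_cosetIdeal i g ((c : A) : Fn L)).mp hc 1
      rwa [MonObj.one_comp, _root_.mul_one] at this
    have e1 : pfn g ((b : A) : Fn L) + pfn g ((c : A) : Fn L) = 1 := by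
      rw [← map_add, ← Subalgebra.coe_add, ← Subalgebra.coe_add, hbc, Subalgebra.coe_one, Subalgebra.coe_one, map_one]
    rw [(fix_iff i g).mp hg _ ((hfix _).mp b.2), hb0, hc0, add_zero] at e1
    exact zero_ne_one e1
  -- primes lift
  refine isAffine_of_inv_primes i hX hobs fun p hp => ?_
  let E : ↥(ρ.fixedSubalgebra hρ (𝟙 Q)) →+* ↥(invAlg i) :=
    (A.val.comp (ρ.fixedSubalgebra hρ (𝟙 Q)).val).toRingHom.codRestrict (invAlg i).toSubring fun f => (hfix _).mp f.2
  obtain ⟨r, hr, hrp⟩ := thmAbi Q hQ A ρ hρ inferInstance (p.comap E) inferInstance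
  obtain ⟨P, hP, hPr⟩ := exists_prime_over (L := L) hY (r.comap ((ev (aY.orbitMap oY)).codRestrict A hAm).toRingHom)
    inferInstance
  refine ⟨P, hP, Ideal.ext fun f => ?_⟩
  obtain ⟨e, he⟩ := hAs f.1 (hinvA f.1 f.2)
  let f' : A := ⟨f.1, hinvA f.1 f.2⟩
  have h1 : f.1 ∈ P ↔ f' ∈ r := by
    have := Ideal.ext_iff.mp hPr e
    simp only [Ideal.mem_comap] at this
    rw [show f' = (ev (aY.orbitMap oY)).codRestrict A hAm e from Subtype.ext he.symm, ← he]
    exact this
  exact h1.trans (Ideal.ext_iff.mp hrp ⟨f', (hfix f').mpr f.2⟩)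

end Groth.Agent.Obs28.RadM
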