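import Groth.Agent.Obs28.KilledOrbit
import Groth.Agent.Obs28.RadSolv
import Groth.Agent.Obs28.SolvObs
import Groth.Agent.GrpSchLib.NormalQuot
import Groth.Agent.GrpSchLib.HomogeneousQuot
import Groth.Agent.AGStr.Descend
import Groth.Agent.EtFound.Descent
import Groth.Agent.H84WeilRes.Glue

/-! Quotients by subgroups of a normal connected subgroup without subtori are affine. -/

universe u

open CategoryTheory CategoryTheory.Limits MonoidalCategory CartesianMonoidalCategory MonObj GrpObj AlgebraicGeometry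

namespace Groth.Agent.Obs28.RadM

set_option linter.unusedSectionVars false
set_option linter.style.haveILetI false

variable {k : Type u} [Field k] [IsAlgClosed k]

/-- Quotients of connected groups without subtori are affine. -/
theorem isAffine_quotient_noSub {U H : Over (Spec (CommRingCat.of k))} [GrpObj U] [GrpObj H] [IsAffine U.left]
    [Smooth U.hom] [ConnectedSpace U.left] (hU : Red.HasNoSubtorus k U) [IsAffine H.left] [Smooth H.hom] (i : H ⟶ U)
    [IsMonHom i] [IsClosedImmersion i.left] {X : Over (Spec (CommRingCat.of k))} {a : AlgGrp.Action U X}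
    {o : 𝟙_ (Over (Spec (CommRingCat.of k))) ⟶ X} (hX : AGF.IsQuotient i X a o) : IsAffine X.left :=
  Killed.isAffine_quotient_of i (observable_of_solvable (isSolvableGrp_of_noSub hU) i)
    (fun hπ => Unip.exists_fixed hU hπ) hX

variable {L U H Y : Over (Spec (CommRingCat.of k))} [GrpObj L] [GrpObj U] [GrpObj H] [IsAffine L.left] [Smooth L.hom]

/-- Points of a quotient lift after a flat surjective quasi-compact cover. -/
theorem exists_cover {P X : Over (Spec (CommRingCat.of k))} (π : P ⟶ X) [Flat π.left] [Surjective π.left]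
    [QuasiCompact π.left] {T : Over (Spec (CommRingCat.of k))} (x : T ⟶ X) :
    ∃ (T' : Over (Spec (CommRingCat.of k))) (c : T' ⟶ T) (p : T' ⟶ P), Flat c.left ∧ Surjective c.left ∧
      QuasiCompact c.left ∧ p ≫ π = c ≫ x := by
  have h := ((IsPullback.of_hasPullback π x).map (Over.forget _)).flip
  exact ⟨_, Limits.pullback.snd π x, Limits.pullback.fst π x, MorphismProperty.of_isPullback h.flip ‹Flat π.left›,
    MorphismProperty.of_isPullback h.flip ‹Surjective π.left›,
    MorphismProperty.of_isPullback h.flip ‹QuasiCompact π.left›, Limits.pullback.condition⟩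

/-- The fibre over the identity of the projection to the quotient by `U` is the quotient of `U`. -/
theorem isAffine_fibre (u : U ⟶ L) [IsMonHom u] [IsClosedImmersion u.left] [Smooth U.hom] [ConnectedSpace U.left]
    (hU : Red.HasNoSubtorus k U) (h : H ⟶ U) [IsMonHom h] [IsClosedImmersion h.left] [Smooth H.hom]
    {a : AlgGrp.Action L Y} {o : 𝟙_ (Over (Spec (CommRingCat.of k))) ⟶ Y} (hY : AGF.IsQuotient (h ≫ u) Y a o)
    [QuasiCompact (a.orbitMap o).left] {Q : Over (Spec (CommRingCat.of k))} [GrpObj Q] (q : L ⟶ Q)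
    (hk : AlgGrp.IsKernel u q) (f : Y ⟶ Q) (hf : a.orbitMap o ≫ f = q) :
    IsAffine (Limits.pullback f η[Q]).left := by
  obtain ⟨hYl, hYf, hYs, hYp⟩ := hY
  haveI := hYl; haveI := hYf; haveI := hYs
  haveI : IsAffine U.left := isAffine_of_closed u
  haveI : IsAffine H.left := isAffine_of_closed h
  haveI : Mono h.left := inferInstance
  haveI : Mono h := Over.mono_of_mono_left h
  haveI : Mono u.left := inferInstance
  haveI : Mono u := Over.mono_of_mono_left u
  let π := a.orbitMap o
  let Z := Limits.pullback f η[Q]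
  let σ : U ⟶ Z := Limits.pullback.lift (u ≫ π) (toUnit U) (by rw [Category.assoc, hf]; exact hk.w)
  have hσ1 : σ ≫ Limits.pullback.fst f η[Q] = u ≫ π := Limits.pullback.lift_fst _ _ _
  have hbig : IsPullback u (σ ≫ Limits.pullback.snd f η[Q]) (π ≫ f) η[Q] := by
    rw [hf, Limits.pullback.lift_snd]; exact hk
  have sq : IsPullback u σ π (Limits.pullback.fst f η[Q]) :=
    IsPullback.of_bot hbig hσ1.symm (IsPullback.of_hasPullback f η[Q])
  have sqL := sq.map (Over.forget _)
  haveI : Flat σ.left := MorphismProperty.of_isPullback (P := @Flat) sqL hYf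
  haveI : Surjective σ.left := MorphismProperty.of_isPullback (P := @Surjective) sqL hYs
  haveI : QuasiCompact σ.left := MorphismProperty.of_isPullback (P := @QuasiCompact) sqL ‹QuasiCompact π.left›
  haveI : QuasiCompact U.hom := inferInstance
  haveI : QuasiCompact H.hom := inferInstance
  obtain ⟨Z', a', o', hl', -, hf', hs', hp'⟩ := GrpSchLib.HomogeneousQuot.exists_quot U H h
  haveI : IsAffine Z'.left := isAffine_quotient_noSub hU h (a := a') (o := o') ⟨hl', hf', hs', hp'⟩
  haveI := hl'; haveI := hf'; haveI := hs'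
  let π' := a'.orbitMap o'
  haveI : QuasiCompact π'.left := AGStr.quasiCompact_left π'
  have hμ : ∀ {P G : Over (Spec (CommRingCat.of k))} [GrpObj P] [GrpObj G] (i : G ⟶ P)
      {T : Over (Spec (CommRingCat.of k))} (c : T ⟶ P ⊗ G),
      c ≫ (P ◁ i) ≫ μ[P] = (c ≫ fst P G) * ((c ≫ snd P G) ≫ i) := fun {P G} _ _ i {T} c => by
    rw [Hom.mul_def, ← Category.assoc c (P ◁ i) μ[P]]
    congr 1
    apply CartesianMonoidalCategory.hom_ext <;> simp
  obtain ⟨v, hv⟩ := AGStr.exists_desc π' σ fun T g₁ g₂ e => by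
    apply Limits.pullback.hom_ext
    · rw [Category.assoc, Category.assoc, hσ1]
      let w := hp'.lift g₁ g₂ e
      have h2 : (g₁ * ((w ≫ snd U H) ≫ h)) = g₂ := by
        conv_lhs => rw [← hp'.lift_fst g₁ g₂ e]
        rw [← hμ]; exact hp'.lift_snd _ _ _
      have h3 := congrArg (lift (g₁ ≫ u) (w ≫ snd U H) ≫ ·) hYp.w
      simp only [← Category.assoc] at h3
      rw [lift_fst, Category.assoc (lift _ _) (L ◁ (h ≫ u)) μ[L], hμ, lift_fst, lift_snd] at h3
      simp only [← Category.assoc]
      rw [h3, ← h2, MonObj.mul_comp _ _ u]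
      simp only [Category.assoc]
      rfl
    · exact toUnit_unique _ _
  obtain ⟨v', hv'⟩ := AGStr.exists_desc σ π' fun T g₁ g₂ e => by
    have e1 : (g₁ ≫ u) ≫ π = (g₂ ≫ u) ≫ π := by
      simp only [Category.assoc, ← hσ1]
      rw [← Category.assoc, e, Category.assoc]
    let w := hYp.lift (g₁ ≫ u) (g₂ ≫ u) e1
    have h2 : (g₁ ≫ u) * ((w ≫ snd L H) ≫ h ≫ u) = g₂ ≫ u := by
      conv_lhs => rw [← hYp.lift_fst (g₁ ≫ u) (g₂ ≫ u) e1]
      rw [← hμ]; exact hYp.lift_snd _ _ _
    have h3 : g₁ * ((w ≫ snd L H) ≫ h) = g₂ := by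
      rw [← cancel_mono u, MonObj.mul_comp, Category.assoc _ h u, h2]
    have h4 := congrArg (lift g₁ (w ≫ snd L H) ≫ ·) hp'.w
    simp only [← Category.assoc] at h4
    rw [lift_fst, Category.assoc (lift _ _) (U ◁ h) μ[U], hμ, lift_fst, lift_snd, h3] at h4
    exact h4
  haveI := AGStr.epi_left σ
  haveI := AGStr.epi_left π'
  let e : Z' ≅ Z := ⟨v, v', by rw [← cancel_epi π', reassoc_of% hv, hv', Category.comp_id],
    by rw [← cancel_epi σ, reassoc_of% hv', hv, Category.comp_id]⟩
  haveI : IsIso e.inv.left := ((Over.forget _).mapIso e).isIso_inv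
  exact IsAffine.of_isIso e.inv.left

/-- The quotient by a subgroup of a normal connected subgroup without subtori is affine. -/
theorem isAffine_quotient_normal (u : U ⟶ L) [IsMonHom u] [IsClosedImmersion u.left] [Smooth U.hom]
    [ConnectedSpace U.left] (hn : AlgGrp.IsNormalHom u) (hU : Red.HasNoSubtorus k U) (h : H ⟶ U) [IsMonHom h]
    [IsClosedImmersion h.left] [Smooth H.hom] {a : AlgGrp.Action L Y} {o : 𝟙_ (Over (Spec (CommRingCat.of k))) ⟶ Y}
    (hY : AGF.IsQuotient (h ≫ u) Y a o) : IsAffine Y.left := by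
  haveI := hY.1; haveI := hY.2.1; haveI := hY.2.2.1
  let π := a.orbitMap o
  haveI : QuasiCompact L.hom := inferInstance
  haveI : QuasiCompact π.left := AGStr.quasiCompact_left π
  haveI : Flat π.left := hY.2.1
  haveI : Surjective π.left := hY.2.2.1
  obtain ⟨Q, _, q, hq, hQa, hQf, hqf, hqs, hk⟩ := GrpSchLib.NormalQuot.exists_quot L U u hn
  haveI := hq; haveI := hQa; haveI := hQf; haveI := hqf; haveI := hqs
  haveI : QuasiCompact q.left := AGStr.quasiCompact_left q
  have hμ : ∀ {T : Over (Spec (CommRingCat.of k))} (c : T ⟶ L ⊗ H),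
      c ≫ (L ◁ (h ≫ u)) ≫ μ[L] = (c ≫ fst L H) * ((c ≫ snd L H) ≫ h ≫ u) := fun {T} c => by
    rw [Hom.mul_def, ← Category.assoc c (L ◁ (h ≫ u)) μ[L]]
    congr 1
    apply CartesianMonoidalCategory.hom_ext <;> simp
  obtain ⟨f, hf⟩ := AGStr.exists_desc π q fun T g₁ g₂ e => by
    let w := hY.2.2.2.lift g₁ g₂ e
    have h2 : g₁ * ((w ≫ snd L H) ≫ h ≫ u) = g₂ := by
      conv_lhs => rw [← hY.2.2.2.lift_fst g₁ g₂ e]
      rw [← hμ]; exact hY.2.2.2.lift_snd _ _ _
    rw [← h2, MonObj.mul_comp, Category.assoc _ (h ≫ u) q, Category.assoc h u q, hk.w, ← Hom.one_def,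
      MonObj.comp_one, MonObj.comp_one, _root_.mul_one]
  haveI : IsAffine (Limits.pullback f η[Q]).left := isAffine_fibre u hU h hY q hk f hf
  let Z := Limits.pullback f η[Q]
  let z : Z ⟶ Y := Limits.pullback.fst f η[Q]
  have heq : ∀ {T : Over (Spec (CommRingCat.of k))} (l : T ⟶ L) (y : T ⟶ Y),
      lift l y ≫ a.act ≫ f = (l ≫ q) * (y ≫ f) := by
    intro T l y
    obtain ⟨T', c, p, _, _, _, hp⟩ := exists_cover π y
    haveI := AGStr.epi_left c
    have e : lift (c ≫ l) (p ≫ π) ≫ a.act = ((c ≫ l) * p) ≫ π := by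
      simp only [π]
      rw [AlgGrp.Action.comp_orbitMap, AlgGrp.Action.comp_orbitMap, AlgGrp.Action.lift_mul_act]
    rw [← cancel_epi c, MonObj.comp_mul, ← Category.assoc, comp_lift, ← Category.assoc c y f, ← hp,
      ← Category.assoc, e, Category.assoc, Category.assoc p π f, hf, MonObj.mul_comp, Category.assoc]
  have sq : IsPullback ((L ◁ z) ≫ a.act) (fst L Z) f q := by
    have hz : z ≫ f = toUnit Z ≫ η[Q] := by
      rw [toUnit_unique (toUnit Z) (Limits.pullback.snd f η[Q])]; exact Limits.pullback.condition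
    have hw : ((L ◁ z) ≫ a.act) ≫ f = fst L Z ≫ q := by
      have h1 := heq (fst L Z) (snd L Z ≫ z)
      rw [Category.assoc (snd L Z) z f, hz, ← Hom.one_def, MonObj.comp_one, _root_.mul_one] at h1
      rw [Category.assoc]
      convert h1 using 2
      apply CartesianMonoidalCategory.hom_ext <;> simp
    have hlift : ∀ c : PullbackCone f q, ∃ w : c.pt ⟶ Z, w ≫ z = lift c.snd⁻¹ c.fst ≫ a.act := fun c =>
      ⟨Limits.pullback.lift (lift c.snd⁻¹ c.fst ≫ a.act) (toUnit _) (by
        rw [Category.assoc, heq, GrpObj.inv_comp, c.condition, inv_mul_cancel, Hom.one_def]),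
        Limits.pullback.lift_fst _ _ _⟩
    choose w hwz using hlift
    haveI : Mono z := inferInstance
    refine ⟨⟨hw⟩, ⟨PullbackCone.IsLimit.mk hw (fun c => lift c.snd (w c)) (fun c => ?_) (fun c => lift_fst _ _)
      (fun c m hm₁ hm₂ => ?_)⟩⟩
    · rw [← Category.assoc, lift_whiskerLeft, hwz, ← AlgGrp.Action.lift_mul_act, mul_inv_cancel,
        AlgGrp.Action.lift_one_act]
    · refine CartesianMonoidalCategory.hom_ext _ _ (by rw [hm₂, lift_fst]) ?_
      rw [lift_snd, ← cancel_mono z, hwz]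
      have e1 : lift c.snd ((m ≫ snd L Z) ≫ z) ≫ a.act = c.fst := by
        rw [← hm₁, ← Category.assoc m (L ◁ z) a.act, ← hm₂]
        congr 1
        apply CartesianMonoidalCategory.hom_ext <;> simp
      rw [← e1, ← AlgGrp.Action.lift_mul_act, inv_mul_cancel, AlgGrp.Action.lift_one_act]
  have sqL := sq.map (Over.forget _)
  haveI hfst : IsAffineHom (fst L Z).left := by
    haveI : IsAffineHom Z.hom := inferInstance
    exact inferInstanceAs (IsAffineHom (Limits.pullback.fst L.hom Z.hom))
  have := EtFound.fpqc_isAffineHom.{u}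
  haveI : IsAffineHom (Limits.pullback.snd f.left q.left) := by
    have sqL' : IsPullback ((L ◁ z) ≫ a.act).left (fst L Z).left f.left q.left := sqL
    rw [← sqL'.isoPullback_inv_snd]
    infer_instance
  haveI : IsAffineHom f.left := MorphismProperty.of_pullback_snd_of_descendsAlong
    (Q := (@Surjective ⊓ @Flat ⊓ @QuasiCompact : MorphismProperty Scheme.{u}))
    ⟨⟨hqs, hqf⟩, inferInstance⟩ ‹IsAffineHom (Limits.pullback.snd f.left q.left)›
  exact isAffine_of_isAffineHom f.left

end Groth.Agent.Obs28.RadM
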