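import Groth.Agent.Obs28.WRQuot
import Groth.Agent.Obs28.KilledHomog
import Groth.Agent.NonAbLib.TorsorSch
import Groth.Agent.SrcDescent.SchemeFppf
import Groth.Prelude.Def_ChGrp

/-! Homogeneous spaces of Weil restrictions along purely inseparable extensions. -/

universe u

open CategoryTheory CategoryTheory.Limits MonoidalCategory CartesianMonoidalCategory MonObj GrpObj AlgebraicGeometry
open Groth.Agent.H84WeilRes (fB)

namespace Groth.Agent.Obs28.WRHomog

set_option linter.style.haveILetI false

section General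

variable {S : Scheme.{u}} {G H Q : Over S} [GrpObj G] [GrpObj H]

/-- The orbit map of an fppf homogeneous space by a flat group is faithfully flat of finite presentation. -/
theorem fppf_of_isHomog {i : H ⟶ G} {a : AlgGrp.Action G Q} {o : 𝟙_ (Over S) ⟶ Q}
    (hQ : ChGrp.IsHomog Scheme.fppfPrecoverage i a o) [Flat H.hom] [LocallyOfFinitePresentation H.hom]
    [Surjective H.hom] :
    Flat (a.orbitMap o).left ∧ Surjective (a.orbitMap o).left ∧
      LocallyOfFinitePresentation (a.orbitMap o).left := by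
  obtain ⟨-, hψ, htriv⟩ := hQ
  set ψ := a.orbitMap o
  obtain ⟨Z, p, hp₁, hp₂, hp₃, s, hs⟩ := NonAbLib.exists_single_fppf htriv
  haveI := hp₁; haveI := hp₂; haveI := hp₃
  have hs' : s ≫ ψ.left = p := hs
  let T : Over S := Over.mk (p ≫ Q.hom)
  let σ : T ⟶ G := Over.homMk s (by
    show s ≫ G.hom = p ≫ Q.hom
    rw [← Over.w ψ, reassoc_of% hs'])
  have hσ : (σ ≫ ψ).left = p := hs'
  have hb : IsPullback (σ ▷ H) (fst T H) (fst G H) σ := by
    refine ⟨⟨whiskerRight_fst σ H⟩, ⟨PullbackCone.IsLimit.mk _ (fun c => lift c.snd (c.fst ≫ snd G H))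
      (fun c => ?_) (fun c => lift_fst _ _) (fun c m h₁ h₂ => ?_)⟩⟩
    · apply CartesianMonoidalCategory.hom_ext
      · rw [Category.assoc, whiskerRight_fst, lift_fst_assoc, c.condition]
      · rw [Category.assoc, whiskerRight_snd, lift_snd]
    · apply CartesianMonoidalCategory.hom_ext
      · rw [h₂, lift_fst]
      · rw [lift_snd, ← h₁, Category.assoc, whiskerRight_snd]
  have big := (hb.paste_horiz hψ.flip).map (Over.forget S)
  simp only [Over.forget_map, hσ] at big
  haveI : Flat (fst T H).left := inferInstanceAs (Flat (pullback.fst T.hom H.hom))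
  haveI : Surjective (fst T H).left := inferInstanceAs (Surjective (pullback.fst T.hom H.hom))
  haveI : LocallyOfFinitePresentation (fst T H).left :=
    inferInstanceAs (LocallyOfFinitePresentation (pullback.fst T.hom H.hom))
  let c := ((σ ▷ H) ≫ (G ◁ i) ≫ μ[G]).left
  haveI : Flat c := MorphismProperty.of_isPullback big.flip hp₂
  haveI : Surjective c := MorphismProperty.of_isPullback big.flip hp₁
  haveI : LocallyOfFinitePresentation c := MorphismProperty.of_isPullback big.flip hp₃
  have hc : c ≫ ψ.left = (fst T H).left ≫ p := big.w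
  haveI : Flat (c ≫ ψ.left) := by rw [hc]; infer_instance
  haveI : Surjective (c ≫ ψ.left) := by rw [hc]; infer_instance
  haveI : LocallyOfFinitePresentation (c ≫ ψ.left) := by rw [hc]; infer_instance
  exact ⟨GrpSchLib.RankOne.flat_of_comp c ψ.left, Surjective.of_comp c ψ.left,
    SrcDescent.locallyOfFinitePresentation_of_fppf_comp c ψ.left⟩

omit [GrpObj H] in
/-- The square of a homogeneous space is stable under base change. -/
theorem isPullback_bc {S' : Scheme.{u}} (f : S' ⟶ S) (j : H ⟶ G) (ψ : G ⟶ Q)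
    (hψ : IsPullback (fst G H) ((G ◁ j) ≫ μ[G]) ψ ψ) :
    IsPullback (fst (Red.bc f G) (Red.bc f H)) ((Red.bc f G ◁ (Over.pullback f).map j) ≫ μ[Red.bc f G])
      ((Over.pullback f).map ψ) ((Over.pullback f).map ψ) := by
  let F := Over.pullback f
  have h := hψ.map F
  have e : (G ◁ j) ≫ μ[G] = fst G H * (snd G H ≫ j) := by rw [Hom.mul_def]; congr 1
  have e' : (Red.bc f G ◁ F.map j) ≫ μ[Red.bc f G] =
      fst (Red.bc f G) (Red.bc f H) * (snd (Red.bc f G) (Red.bc f H) ≫ F.map j) := by
    rw [Hom.mul_def]; congr 1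
  refine h.of_iso (Functor.Monoidal.μIso F G H).symm (Iso.refl _) (Iso.refl _) (Iso.refl _) ?_ ?_ (by simp [F])
    (by simp [F])
  · simp [F]
  · rw [e', Iso.refl_hom, Category.comp_id, e, CategoryTheory.Functor.map_mul, MonObj.comp_mul,
      CategoryTheory.Functor.map_comp]
    simp [F]

theorem map_pow_bc {S' : Scheme.{u}} (f : S' ⟶ S) {T : Over S} (g : T ⟶ G) (n : ℕ) :
    (Over.pullback f).map (g ^ n) = (Over.pullback f).map g ^ n := by
  induction n with
  | zero => rw [pow_zero, pow_zero, CategoryTheory.Functor.map_one]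
  | succ n ih => rw [pow_succ, pow_succ, CategoryTheory.Functor.map_mul, ih]

end General

variable {k k' : Type u} [Field k] [Field k'] [Algebra k k']
  {G : Over (Spec (CommRingCat.of k))} [GrpObj G]
  {G' : Over (Spec (CommRingCat.of k'))} [GrpObj G'] {R : Over (Spec (CommRingCat.of k))} [GrpObj R]
  {qR : Red.bc (fB k k') R ⟶ G'} [IsMonHom qR]
  {K : Over (Spec (CommRingCat.of k'))} {iK : K ⟶ Red.bc (fB k k') R}

omit [GrpObj G] in
/-- The kernel maps flatly onto every space receiving the Weil restriction invariantly under the comparison map. -/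
theorem flat_surjective_kernel_to [GrpObj G] [LocallyOfFiniteType G.hom]
    (hK : AlgGrp.IsKernel iK qR) {q : Red.bc (fB k k') G ⟶ G'} [Flat q.left] [Surjective q.left]
    (a : Red.bc (fB k k') G ⟶ Red.bc (fB k k') R) (ha : a ≫ qR = q)
    {X : Over (Spec (CommRingCat.of k'))} (π : Red.bc (fB k k') R ⟶ X) [Flat π.left] [Surjective π.left]
    (hinv : ∀ {T : Over (Spec (CommRingCat.of k'))} (x : T ⟶ Red.bc (fB k k') R) (g : T ⟶ Red.bc (fB k k') G),
      (x * (g ≫ a)) ≫ π = x ≫ π) :
    Flat (iK ≫ π).left ∧ Surjective (iK ≫ π).left := by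
  let G₁ := Red.bc (fB k k') G
  let m := (fst K G₁ ≫ iK) * (snd K G₁ ≫ a)
  have hm : m ≫ π = fst K G₁ ≫ iK ≫ π := by
    simpa only [Category.assoc] using hinv (fst K G₁ ≫ iK) (snd K G₁)
  have hp := (WRKer.isPullback_cover hK a ha).map (Over.forget _)
  haveI : Flat m.left := MorphismProperty.of_isPullback hp.flip (inferInstanceAs (Flat q.left))
  haveI : Surjective m.left := MorphismProperty.of_isPullback hp.flip (inferInstanceAs (Surjective q.left))
  haveI : Surjective G₁.hom :=
    ⟨fun x => ⟨η[G₁].left.base x, by rw [← Scheme.Hom.comp_apply, Over.w η[G₁]]; rfl⟩⟩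
  haveI : Flat G₁.hom := inferInstance
  haveI : Flat (fst K G₁).left := inferInstanceAs (Flat (pullback.fst K.hom G₁.hom))
  haveI : Surjective (fst K G₁).left := inferInstanceAs (Surjective (pullback.fst K.hom G₁.hom))
  haveI h1 : Flat ((fst K G₁).left ≫ (iK ≫ π).left) := by
    rw [← Over.comp_left, ← hm, Over.comp_left]; infer_instance
  haveI h2 : Surjective ((fst K G₁).left ≫ (iK ≫ π).left) := by
    rw [← Over.comp_left, ← hm, Over.comp_left]; infer_instance
  exact ⟨GrpSchLib.RankOne.flat_of_comp (fst K G₁).left _, Surjective.of_comp (fst K G₁).left _⟩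

variable [Module.Finite k k'] [IsPurelyInseparable k k']

/-- The kernel is killed by a power of the characteristic exponent. -/
theorem exists_pow_kernel (hR : WeilRes.IsWeilRes (fB k k') G' R qR) (hK : AlgGrp.IsKernel iK qR)
    [LocallyOfFiniteType G'.hom] [GrpObj K] [IsMonHom iK] :
    ∃ p n : ℕ, ExpChar k' p ∧ (𝟙 K : K ⟶ K) ^ p ^ n = 1 := by
  obtain ⟨A, _, _, _, e, -⟩ := WRKer.exists_coord hR hK
  letI : Algebra k A := ((algebraMap k' A).comp (algebraMap k k')).toAlgebra
  haveI : IsScalarTower k k' A := .of_algebraMap_eq fun _ => rfl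
  have hz : (e.inv ≫ iK) ≫ qR = 1 := WRKer.comp_q hK e.inv
  have fin : ∀ Q : ℕ, (e.inv ≫ iK) ^ Q = 1 → (𝟙 K : K ⟶ K) ^ Q = 1 := by
    intro Q hQ
    haveI := WRKer.mono_iK hK
    rw [← cancel_epi e.inv, ← cancel_mono iK, MonObj.comp_pow, Category.comp_id, MonObj.pow_comp, hQ,
      MonObj.comp_one, MonObj.one_comp]
  obtain ⟨p, hp⟩ := CharP.exists k'
  haveI := hp
  rcases CharP.char_is_prime_or_zero k' p with hp' | hp'
  · haveI := Fact.mk hp'
    obtain ⟨N, hN⟩ := WRKer.exists_pow_eq_one (A := A) hR p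
    exact ⟨p, N, ExpChar.prime hp', fin _ (hN _ hz)⟩
  · subst hp'
    haveI : CharZero k' := CharP.charP_to_charZero k'
    haveI : CharZero k := RingHom.charZero (algebraMap k k')
    have hb : Function.Bijective (algebraMap k k') :=
      ⟨(algebraMap k k').injective, IsPurelyInseparable.surjective_algebraMap_of_isSeparable k k'⟩
    exact ⟨1, 0, ExpChar.zero, fin _ (by rw [pow_zero, pow_one]; exact WRKer.eq_one_of_bijective hR hb _ hz)⟩

end Groth.Agent.Obs28.WRHomog
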