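import Groth.Agent.Obs28.WRKerProps
import Groth.Agent.H84WeilRes.Glue
import Groth.Agent.GrpSchLib.RankOneBig
import Groth.Agent.GrpSchLib.QuotAffine
import Groth.Agent.EtFound.Descent
import Groth.Agent.S4091
import Mathlib.Topology.Spectral.Prespectral

/-! Weil restrictions along purely inseparable extensions: finiteness, and quotients by the image of a comparison
map. -/

universe u

open CategoryTheory CategoryTheory.Limits MonoidalCategory CartesianMonoidalCategory MonObj GrpObj AlgebraicGeometry
open Groth.Agent.H84WeilRes (spec specMap exists_algHom fB)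

namespace Groth.Agent.Obs28.WRKer

set_option linter.style.haveILetI false

variable {k k' : Type u} [Field k] [Field k'] [Algebra k k'] [Module.Finite k k'] [IsPurelyInseparable k k']

/-- A group killed by a positive integer has no non-trivial subtorus in a geometric fibre. -/
theorem hasNoSubtorus_of_pow {S : Scheme.{u}} {K : Over S} [GrpObj K] {Q : ℕ} (hQ : 0 < Q)
    (hpow : (𝟙 K : K ⟶ K) ^ Q = 1) (s : ↥S) :
    Red.HasNoSubtorus (AlgebraicClosure (S.residueField s)) (Red.geomFibre s K) := by
  intro T _ j _ _ hT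
  have hp : ∀ n : ℕ, (Over.pullback (Red.geomPt s)).map ((𝟙 K : K ⟶ K) ^ n) =
      (𝟙 (Red.geomFibre s K) : Red.geomFibre s K ⟶ Red.geomFibre s K) ^ n := by
    intro n
    induction n with
    | zero => rw [pow_zero, pow_zero, CategoryTheory.Functor.map_one]
    | succ n ih => rw [pow_succ, pow_succ, CategoryTheory.Functor.map_mul, ih, CategoryTheory.Functor.map_id]
  have h1 : (𝟙 (Red.geomFibre s K) : Red.geomFibre s K ⟶ Red.geomFibre s K) ^ Q = 1 := by
    rw [← hp, hpow, CategoryTheory.Functor.map_one]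
  refine isTrivialGrp_of_pow hT hQ ?_
  rw [← cancel_mono j, MonObj.pow_comp, Category.id_comp, MonObj.one_comp, ← Category.comp_id j,
    ← MonObj.comp_pow, h1, MonObj.comp_one]

omit [IsPurelyInseparable k k'] in
theorem isFinite_fB : IsFinite (fB k k') :=
  (IsFinite.SpecMap_iff _).mpr (RingHom.finite_algebraMap.mpr inferInstance)

/-- A Weil restriction along a finite purely inseparable extension of a scheme locally of finite type is locally of
finite type. -/
theorem locallyOfFiniteType_weilRes {X' : Over (Spec (CommRingCat.of k'))} [LocallyOfFiniteType X'.hom]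
    {R : Over (Spec (CommRingCat.of k))} {q : Red.bc (fB k k') R ⟶ X'}
    (hR : WeilRes.IsWeilRes (fB k k') X' R q) : LocallyOfFiniteType R.hom := by
  haveI := isFinite_fB (k := k) (k' := k')
  haveI := universallyInjective_fB (k := k) (k' := k')
  haveI : Surjective (fB k k') := ⟨fun x => ⟨IsLocalRing.closedPoint k', Subsingleton.elim _ _⟩⟩
  haveI : UniversallyInjective (pullback.fst R.hom (fB k k')) :=
    MorphismProperty.of_isPullback (IsPullback.of_hasPullback R.hom (fB k k')).flip inferInstance
  have key : ∀ r : R.left, ∃ W : R.left.Opens, r ∈ W ∧ LocallyOfFiniteType (W.ι ≫ R.hom) := by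
    intro r
    obtain ⟨r', hr'⟩ := (pullback.fst R.hom (fB k k')).surjective r
    obtain ⟨U, hU, hrU, -⟩ := exists_isAffineOpen_mem_and_subset (U := (⊤ : X'.left.Opens))
      (x := q.left.base r') trivial
    let W := H84WeilRes.locus q U
    refine ⟨W, H84WeilRes.mem_locus.2 fun z hz => ?_, ?_⟩
    · rw [(pullback.fst R.hom (fB k k')).injective (hz.trans hr'.symm)]
      exact hrU
    have hq : H84WeilRes.IsWeilResOn (f := fB k k') (⊤ : X'.left.Opens) R q :=
      ⟨fun _ _ => trivial, fun T => (hR T).1, fun T h _ => (hR T).2 h⟩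
    have hW := H84WeilRes.isWeilResOn_res (V := U) le_top hq
    let Uo : Over (Spec (CommRingCat.of k')) := Over.mk (U.ι ≫ X'.hom)
    haveI : IsAffine Uo.left := hU
    haveI : LocallyOfFiniteType Uo.hom := inferInstanceAs (LocallyOfFiniteType (U.ι ≫ X'.hom))
    haveI : LocallyOfFinitePresentation Uo.hom := inferInstance
    let iU : Uo ⟶ X' := Over.homMk U.ι rfl
    haveI : IsOpenImmersion iU.left := inferInstanceAs (IsOpenImmersion U.ι)
    haveI : Mono iU := (Over.forget _).mono_of_mono_map (inferInstanceAs (Mono iU.left))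
    obtain ⟨RU, qU, -, hRUf, hRU⟩ := H84WeilRes.exists_isWeilRes k k' Uo
    have hrange : Set.range (qU ≫ iU).left.base ⊆ U := by
      rintro _ ⟨z, rfl⟩
      exact (qU.left.base z).2
    obtain ⟨a, ha⟩ := hW.exists_hit RU (qU ≫ iU) hrange
    let qr := (Over.pullback (fB k k')).map (H84WeilRes.resι R W) ≫ q
    let P : Red.bc (fB k k') (H84WeilRes.res R W) ⟶ Uo :=
      Over.homMk (IsOpenImmersion.lift U.ι qr.left (by rw [Scheme.Opens.range_ι]; exact hW.range_subset)) (by
        show IsOpenImmersion.lift U.ι qr.left _ ≫ U.ι ≫ X'.hom = _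
        rw [IsOpenImmersion.lift_fac_assoc, Over.w qr])
    have hP : P ≫ iU = qr := Over.OverMorphism.ext (IsOpenImmersion.lift_fac _ _ _)
    let b := hRU.lift _ P
    have hba : b ≫ a = 𝟙 _ := hW.injective _ (by
      rw [WeilRes.restr_comp, ha, ← Category.assoc, ← WeilRes.restr_apply (fB k k') qU, hRU.restr_lift, hP,
        WeilRes.restr_id])
    have hab : a ≫ b = 𝟙 _ := (hRU _).1 ((cancel_mono iU).mp (by
      rw [WeilRes.restr_comp, hRU.restr_lift, Category.assoc, hP, WeilRes.restr_id, ← ha]
      rfl))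
    let e : RU ≅ H84WeilRes.res R W := ⟨a, b, hab, hba⟩
    haveI : IsIso b.left := ((Over.forget _).mapIso e).isIso_inv
    show LocallyOfFiniteType (H84WeilRes.res R W).hom
    rw [← Over.w b]
    infer_instance
  choose W hrW hW using key
  haveI : IsZariskiLocalAtSource (@LocallyOfFiniteType : MorphismProperty Scheme.{u}) :=
    HasRingHomProperty.instIsZariskiLocalAtSource (Q := RingHom.FiniteType)
  refine IsZariskiLocalAtSource.of_openCover (P := (@LocallyOfFiniteType : MorphismProperty Scheme.{u}))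
    (R.left.openCoverOfIsOpenCover W (TopologicalSpace.IsOpenCover.mk (top_le_iff.1 fun r _ =>
      TopologicalSpace.Opens.mem_iSup.2 ⟨r, hrW r⟩))) fun r => ?_
  exact hW r

section Image

variable {G : Over (Spec (CommRingCat.of k))} [GrpObj G]
  {G' : Over (Spec (CommRingCat.of k'))} [GrpObj G'] {R : Over (Spec (CommRingCat.of k))} [GrpObj R]
  {qR : Red.bc (fB k k') R ⟶ G'} [IsMonHom qR]
  {K : Over (Spec (CommRingCat.of k'))} {iK : K ⟶ Red.bc (fB k k') R}

omit [Module.Finite k k'] [IsPurelyInseparable k k'] [GrpObj G] in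
/-- The kernel and the comparison map cover the Weil restriction cartesianly. -/
theorem isPullback_cover (hK : AlgGrp.IsKernel iK qR) {q : Red.bc (fB k k') G ⟶ G'}
    (a : Red.bc (fB k k') G ⟶ Red.bc (fB k k') R) (ha : a ≫ qR = q) :
    IsPullback ((fst K (Red.bc (fB k k') G) ≫ iK) * (snd K (Red.bc (fB k k') G) ≫ a)) (snd K (Red.bc (fB k k') G))
      qR q := by
  haveI := mono_iK hK
  have hw : ((fst K (Red.bc (fB k k') G) ≫ iK) * (snd K (Red.bc (fB k k') G) ≫ a)) ≫ qR = snd _ _ ≫ q := by
    rw [MonObj.mul_comp, comp_q hK, _root_.one_mul, Category.assoc, ha]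
  have hpre : ∀ s : PullbackCone qR q, ∃ κ : s.pt ⟶ K, κ ≫ iK = s.fst * (s.snd ≫ a)⁻¹ := fun s =>
    exists_point hK _ (by rw [MonObj.mul_comp, GrpObj.inv_comp, Category.assoc, ha, s.condition, mul_inv_cancel])
  choose κ hκ using hpre
  refine ⟨⟨hw⟩, ⟨PullbackCone.IsLimit.mk hw (fun s => lift (κ s) s.snd) (fun s => ?_) (fun s => lift_snd _ _)
    (fun s m h1 h2 => ?_)⟩⟩
  · rw [MonObj.comp_mul, lift_fst_assoc, lift_snd_assoc, hκ, inv_mul_cancel_right]
  · refine CartesianMonoidalCategory.hom_ext _ _ ?_ ?_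
    · rw [lift_fst, ← cancel_mono iK, hκ, eq_mul_inv_iff_mul_eq, ← h1, ← h2]
      simp only [MonObj.comp_mul, Category.assoc]
    · rw [lift_snd, h2]

omit [Module.Finite k k'] [IsPurelyInseparable k k'] in
/-- The kernel maps flatly onto every quotient of the Weil restriction killing the comparison map. -/
theorem flat_surjective_kernel_to [LocallyOfFiniteType G.hom]
    (hK : AlgGrp.IsKernel iK qR) {q : Red.bc (fB k k') G ⟶ G'} [Flat q.left] [Surjective q.left]
    (a : Red.bc (fB k k') G ⟶ Red.bc (fB k k') R) (ha : a ≫ qR = q)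
    {Q' : Over (Spec (CommRingCat.of k'))} [GrpObj Q'] (π : Red.bc (fB k k') R ⟶ Q') [IsMonHom π] [Flat π.left]
    [Surjective π.left] (hπ : a ≫ π = 1) : Flat (iK ≫ π).left ∧ Surjective (iK ≫ π).left := by
  let G₁ := Red.bc (fB k k') G
  let m := (fst K G₁ ≫ iK) * (snd K G₁ ≫ a)
  have hm : m ≫ π = fst K G₁ ≫ iK ≫ π := by
    rw [MonObj.mul_comp, Category.assoc, Category.assoc, hπ, MonObj.comp_one, _root_.mul_one]
  have hp := (isPullback_cover hK a ha).map (Over.forget _)
  haveI : Flat m.left := MorphismProperty.of_isPullback hp.flip (inferInstanceAs (Flat q.left))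
  haveI : Surjective m.left := MorphismProperty.of_isPullback hp.flip (inferInstanceAs (Surjective q.left))
  haveI : Surjective G₁.hom :=
    ⟨fun x => ⟨η[G₁].left.base x, by rw [← Scheme.Hom.comp_apply, Over.w η[G₁]]; rfl⟩⟩
  haveI : Flat G₁.hom := inferInstance
  haveI : Flat (fst K G₁).left := inferInstanceAs (Flat (pullback.fst K.hom G₁.hom))
  haveI : Surjective (fst K G₁).left := inferInstanceAs (Surjective (pullback.fst K.hom G₁.hom))
  haveI h1 : Flat ((fst K G₁).left ≫ (iK ≫ π).left) := by
    rw [← Over.comp_left, ← hm, Over.comp_left]; infer_instance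
  haveI h2 : Surjective ((fst K G₁).left ≫ (iK ≫ π).left) := by
    rw [← Over.comp_left, ← hm, Over.comp_left]; infer_instance
  exact ⟨GrpSchLib.RankOne.flat_of_comp (fst K G₁).left _, Surjective.of_comp (fst K G₁).left _⟩

end Image

end Groth.Agent.Obs28.WRKer
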